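import Cfsg.Agent.Lib.FixedSpace.Weights

/-!
# Bounding the dimension by weights
-/

set_option autoImplicit false

namespace Cfsg.Agent.FixedSpace

open Module Matrix
open scoped MatrixGroups

universe u v w

variable {p : ℕ} [hp : Fact p.Prime] {K : Type v} [Field K]

section Linear

variable {V : Type w} [AddCommGroup V] [Module K V]

theorem finrank_ker_sub_of_basis {ι : Type*} [Fintype ι] (b : Basis ι K V) (f : Module.End K V)
    (μ : ι → K) (hf : ∀ i, f (b i) = μ i • b i) (c : K) [DecidablePred fun i => μ i = c] :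
    finrank K (LinearMap.ker (f - c • (1 : Module.End K V))) =
      (Finset.univ.filter fun i => μ i = c).card := by
  classical
  have h : LinearMap.ker (f - c • (1 : Module.End K V)) =
      Submodule.span K (Set.range fun i : {i : ι // μ i = c} => b i.1) := by
    refine le_antisymm (fun v hv => ?_) (Submodule.span_le.2 ?_)
    · rw [LinearMap.mem_ker, LinearMap.sub_apply, LinearMap.smul_apply, Module.End.one_apply,
        sub_eq_zero] at hv
      have hrep : ∀ i, μ i ≠ c → b.repr v i = 0 := by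
        intro i hi
        have h1 : f v = ∑ j, (b.repr v j * μ j) • b j := by
          conv_lhs => rw [← b.sum_repr v]
          simp only [map_sum, map_smul, hf, smul_smul]
        rw [hv] at h1
        have h2 := congrArg (fun z => b.repr z i) h1
        simp only [map_smul, Finsupp.smul_apply, smul_eq_mul] at h2
        rw [b.repr_sum_self] at h2
        have h3 : b.repr v i * (μ i - c) = 0 := by linear_combination -h2
        exact (mul_eq_zero.1 h3).resolve_right (sub_ne_zero.2 hi)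
      rw [← b.sum_repr v]
      refine Submodule.sum_mem _ fun i _ => ?_
      by_cases hi : μ i = c
      · exact Submodule.smul_mem _ _ (Submodule.subset_span ⟨⟨i, hi⟩, rfl⟩)
      · rw [hrep i hi, zero_smul]
        exact Submodule.zero_mem _
    · rintro v ⟨i, rfl⟩
      rw [SetLike.mem_coe, LinearMap.mem_ker, LinearMap.sub_apply, LinearMap.smul_apply,
        Module.End.one_apply, hf, i.2, sub_self]
  rw [h]
  exact (finrank_span_eq_card (b.linearIndependent.comp _ Subtype.val_injective)).trans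
    (Fintype.card_subtype _)

variable [FiniteDimensional K V]

theorem finrank_map_add_inf (g : Module.End K V) (S : Submodule K V) :
    finrank K (S.map g) + finrank K ↥(S ⊓ LinearMap.ker g) = finrank K S := by
  have h := LinearMap.finrank_range_add_finrank_ker (g.domRestrict S)
  rw [LinearMap.range_domRestrict, LinearMap.ker_domRestrict] at h
  have e := (Submodule.equivMapOfInjective S.subtype Subtype.val_injective
    (Submodule.comap S.subtype (LinearMap.ker g))).finrank_eq
  rw [Submodule.map_comap_subtype] at e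
  omega

/-- Sylvester's inequality on subspaces. -/
theorem rkOn_mul_ge (f g : Module.End K V) {S T : Submodule K V} (h : S.map f ≤ T) :
    rkOn g T + rkOn f S ≤ rkOn (g * f) S + finrank K T := by
  have h1 := finrank_map_add_inf g T
  have h2 := finrank_map_add_inf g (S.map f)
  have h3 : finrank K ↥(S.map f ⊓ LinearMap.ker g) ≤ finrank K ↥(T ⊓ LinearMap.ker g) :=
    Submodule.finrank_mono (inf_le_inf_right _ h)
  have h4 : S.map (g * f) = (S.map f).map g := Submodule.map_comp _ _ _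
  unfold rkOn
  rw [h4]
  omega

theorem rkOn_mul_le (f g : Module.End K V) {S T : Submodule K V} (h : S.map f ≤ T) :
    rkOn (g * f) S ≤ finrank K T := by
  have h4 : S.map (g * f) = (S.map f).map g := Submodule.map_comp _ _ _
  unfold rkOn
  rw [h4]
  exact (Submodule.finrank_map_le _ _).trans (Submodule.finrank_mono h)

/-- Eigenspaces inside a subspace. -/
theorem sum_finrank_inf_le (f : Module.End K V) (W : Submodule K V) {ι : Type*} (s : Finset ι)
    (μ : ι → K) (hμ : Set.InjOn μ s) :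
    ∑ i ∈ s, finrank K ↥(LinearMap.ker (f - μ i • (1 : Module.End K V)) ⊓ W) ≤ finrank K W := by
  classical
  let A : ι → Submodule K V := fun i => LinearMap.ker (f - μ i • (1 : Module.End K V)) ⊓ W
  have hA : ∀ i, A i ≤ f.eigenspace (μ i) := by
    intro i v hv
    have := LinearMap.mem_ker.1 hv.1
    rw [LinearMap.sub_apply, LinearMap.smul_apply, Module.End.one_apply, sub_eq_zero] at this
    exact Module.End.mem_eigenspace_iff.2 this
  suffices h : ∀ t : Finset ι, t ⊆ s → ∑ i ∈ t, finrank K (A i) ≤ finrank K ↥(t.sup A) from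
    (h s subset_rfl).trans (Submodule.finrank_mono (Finset.sup_le fun i _ => inf_le_right))
  intro t
  induction t using Finset.induction_on with
  | empty => intro _; simp
  | insert a t ha ih =>
    intro hts
    have hat : a ∈ s := hts (Finset.mem_insert_self _ _)
    have ih' := ih fun i hi => hts (Finset.mem_insert_of_mem hi)
    have hdis : Disjoint (A a) (t.sup A) := by
      refine (Module.End.eigenspaces_iSupIndep f (μ a)).mono (hA a) (Finset.sup_le fun i hi => ?_)
      refine (hA i).trans (le_iSup₂_of_le (μ i) (fun h => ha ?_) le_rfl)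
      rwa [← hμ (hts (Finset.mem_insert_of_mem hi)) hat h]
    have h := Submodule.finrank_sup_add_finrank_inf_eq (A a) (t.sup A)
    rw [hdis.eq_bot, finrank_bot] at h
    rw [Finset.sum_insert ha, Finset.sup_insert]
    omega

end Linear

variable [CharP K p] {L : Type u} [Group L]

theorem wCnt_eq_card (p k : ℕ) (j : ℤ) :
    ((Finset.univ : Finset (Fin (k + 1))).filter fun i : Fin (k + 1) =>
      ((p : ℤ) - 1) ∣ 2 * ((i : ℕ) : ℤ) - k - j).card = wCnt p k j := by
  refine Finset.card_bij (fun i _ => (i : ℕ)) (fun i hi => ?_) (fun a _ b _ h => Fin.ext h)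
    (fun i hi => ?_)
  · exact mem_wSet.2 ⟨Nat.lt_succ_iff.1 i.2, (Finset.mem_filter.1 hi).2⟩
  · obtain ⟨hik, hd⟩ := mem_wSet.1 hi
    exact ⟨⟨i, Nat.lt_succ_of_le hik⟩, Finset.mem_filter.2 ⟨Finset.mem_univ _, hd⟩, rfl⟩

omit [CharP K p] in
/-- Small differences of weights. -/
theorem not_dvd_weight (h7 : 7 ≤ p) {x : ℤ} (h0 : x ≠ 0) (h1 : -7 ≤ x ∧ x ≤ 7)
    (h6 : x ≠ 6 ∧ x ≠ -6) : ¬ ((p : ℤ) - 1) ∣ x := by
  intro hd
  have h := Int.natAbs_dvd_natAbs.2 hd
  rw [show ((p : ℤ) - 1).natAbs = p - 1 by omega] at h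
  have hle := Nat.le_of_dvd (Int.natAbs_pos.2 h0) h
  rcases (show p = 7 ∨ p = 8 by omega) with rfl | rfl
  · norm_num at h
    omega
  · exact absurd hp.out (by norm_num)

/-- The three inequalities. -/
def BoundAt (p n F : ℕ) (c : ℤ → ℕ) (r : ℕ → ℤ → ℕ) : Prop :=
  (p ≠ 11 → n + 2 * c 3 + c 6 ≤ 4 * F + 2 * r 1 (-1) + 2 * r (p - 4) 3 + c 4) ∧
  (p = 11 → n + 2 * c 3 + 2 * c 6 ≤
    4 * F + 2 * r 1 (-1) + 2 * r (p - 4) 3 + 2 * r 4 6 + r 1 6) ∧
  n + 2 * c 3 ≤ 5 * F + c 1 + c (-1)

namespace Lift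

variable (D : Lift p L) {V : Type w} [AddCommGroup V] [Module K V]

/-- The dimension of the weight space `j`. -/
noncomputable def cn (ρ : Representation K L V) (j : ℤ) : ℕ :=
  finrank K (eig ρ D.t (wt K D.g j))

/-- The rank of the `l`-th power of the raising operator on the weight space `j`. -/
noncomputable def rE (ρ : Representation K L V) (l : ℕ) (j : ℤ) : ℕ :=
  rkOn (Ew p D.e ρ D.u ^ l) (eig ρ D.t (wt K D.g j))

theorem bound_irred [Finite L] [FiniteDimensional K V] [Nontrivial V] (h7 : 7 ≤ p)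
    (ρ : Representation K L V) (hirr : Irred ρ) :
    BoundAt p (finrank K V) (fx ρ D.x) (D.cn ρ) (D.rE ρ) := by
  classical
  have hK : (p : K) = 0 := CharP.cast_eq_zero K p
  have htriv : ∀ a ∈ D.f.ker, ρ a = 1 := fun a ha =>
    LinearMap.ext fun v => apply_eq_of_normal_pGroup hK hirr D.f.ker D.ker a ha v
  obtain ⟨s, hs⟩ := D.surj.hasRightInverse
  have hwd : ∀ a b : L, D.f a = D.f b → ρ a = ρ b := fun a b h => by
    have h1 := htriv (b⁻¹ * a) (by rw [MonoidHom.mem_ker, map_mul, map_inv, h, inv_mul_cancel])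
    rw [show a = b * (b⁻¹ * a) by rw [mul_inv_cancel_left], map_mul, h1, mul_one]
  let σ : Representation K SL(2, ZMod p) V :=
    { toFun := fun g => ρ (s g)
      map_one' := (hwd _ 1 (by rw [hs, map_one])).trans (map_one ρ)
      map_mul' := fun a b => (hwd _ (s a * s b) (by rw [map_mul, hs, hs, hs])).trans
        (map_mul ρ _ _) }
  have hσ : ∀ a, σ (D.f a) = ρ a := fun a => hwd _ _ (hs (D.f a))
  have hσirr : Irred σ := fun U hU => hirr U fun a v hv => by
    rw [← hσ]
    exact hU _ v hv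
  obtain ⟨k, hk, b, hbt, hbe, hbF⟩ := exists_weight_basis h7 σ hσirr D.g D.gen
  have hp1 := hp.out.odd_of_ne_two (by omega)
  have hn : finrank K V = k + 1 := by rw [Module.finrank_eq_card_basis b, Fintype.card_fin]
  have hF : fixBound k ≤ fx ρ D.x := by
    refine hbF.trans (le_of_eq ?_)
    rw [fx, fx, fixSub, fixSub, ← D.x_f, hσ]
  have hE : Ew p D.e ρ D.u = eOp σ := by
    refine Finset.sum_congr rfl fun m hm => ?_
    rw [Finset.mem_Ico] at hm
    congr 1
    rw [← hσ, map_pow, D.u_f]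
    congr 1
    apply Subtype.ext
    rw [cc_pow, cc_pow, Nat.cast_pow, ZMod.pow_card_pow]
  have hbt' : ∀ i : Fin (k + 1), ρ D.t (b i) = wt K D.g (2 * (i : ℤ) - k) • b i := fun i => by
    rw [← hσ, D.t_f]; exact hbt i
  have hc : ∀ j, D.cn ρ j = wCnt p k j := by
    intro j
    rw [cn, eig, finrank_ker_sub_of_basis b _ _ hbt', ← wCnt_eq_card]
    congr 1
    ext i
    simp only [Finset.mem_filter, Finset.mem_univ, true_and]
    exact wt_eq_iff D.g_ord _ _
  have hr : ∀ l j, wRaise p k l j ≤ D.rE ρ l j := by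
    intro l j
    have hpow : ∀ (l : ℕ) (i : Fin (k + 1)) (h : (i : ℕ) + l ≤ k),
        ∃ a : K, a ≠ 0 ∧ (Ew p D.e ρ D.u ^ l) (b i) = a • b ⟨i + l, Nat.lt_succ_of_le h⟩ := by
      intro l
      induction l with
      | zero => intro i h; exact ⟨1, one_ne_zero, by simp⟩
      | succ l ih =>
        intro i h
        obtain ⟨a, ha, hl⟩ := ih i (by omega)
        refine ⟨a * ((k - (i + l) : ℕ) : K), mul_ne_zero ha (cast_ne_zero (by omega) (by omega)), ?_⟩
        rw [pow_succ', Module.End.mul_apply, hl, map_smul, hE,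
          hbe ⟨i + l, by omega⟩ ⟨i + (l + 1), by omega⟩ (by simp [add_assoc]), smul_smul]
    let S := ((Finset.univ : Finset (Fin (k + 1))).filter fun i : Fin (k + 1) =>
      ((p : ℤ) - 1) ∣ 2 * ((i : ℕ) : ℤ) - k - j ∧ (i : ℕ) + l ≤ k)
    have hS : S.card = wRaise p k l j := by
      refine Finset.card_bij (fun i _ => (i : ℕ)) (fun i hi => ?_) (fun a _ b _ h => Fin.ext h)
        (fun i hi => ?_)
      · obtain ⟨-, h1, h2⟩ := Finset.mem_filter.1 hi
        exact Finset.mem_filter.2 ⟨mem_wSet.2 ⟨Nat.lt_succ_iff.1 i.2, h1⟩, h2⟩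
      · obtain ⟨hw, hl⟩ := Finset.mem_filter.1 hi
        obtain ⟨hik, hd⟩ := mem_wSet.1 hw
        exact ⟨⟨i, Nat.lt_succ_of_le hik⟩, Finset.mem_filter.2 ⟨Finset.mem_univ _, hd, hl⟩, rfl⟩
    let up : S → Fin (k + 1) := fun i =>
      ⟨(i.1 : ℕ) + l, Nat.lt_succ_of_le (Finset.mem_filter.1 i.2).2.2⟩
    have hli : LinearIndependent K (fun i : S => b (up i)) :=
      b.linearIndependent.comp up fun x y h => Subtype.ext (Fin.ext (by
        have := congrArg Fin.val h
        simp only [up] at this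
        omega))
    rw [← hS, ← Fintype.card_coe S, ← finrank_span_eq_card hli]
    refine Submodule.finrank_mono (Submodule.span_le.2 ?_)
    rintro _ ⟨i, rfl⟩
    obtain ⟨-, hd, hl⟩ := Finset.mem_filter.1 i.2
    obtain ⟨a, ha, hil⟩ := hpow l i.1 hl
    refine ⟨a⁻¹ • b i.1, Submodule.smul_mem _ _ ?_, ?_⟩
    · rw [mem_eig, hbt', (wt_eq_iff D.g_ord _ _).2 hd]
    · rw [map_smul, hil, smul_smul, inv_mul_cancel₀ ha, one_smul]
  refine ⟨fun h11 => ?_, fun h11 => ?_, ?_⟩
  · have := factor_one h7 hp1 h11 hk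
    have := hr 1 (-1)
    have := hr (p - 4) 3
    simp only [hc, hn]
    omega
  · subst h11
    have := factor_eleven (k := k) (by omega)
    have := hr 1 (-1)
    have := hr 7 3
    have := hr 4 6
    have := hr 1 6
    simp only [hc, hn, show (11 : ℕ) - 4 = 7 from rfl]
    omega
  · have := factor_two h7 hp1 hk
    simp only [hc, hn]
    omega

/-- The inequalities hold in every representation. -/
theorem bound [Finite L] (h7 : 7 ≤ p) : ∀ (n : ℕ) {V : Type w} [AddCommGroup V] [Module K V]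
    [FiniteDimensional K V] (ρ : Representation K L V), finrank K V = n →
      BoundAt p n (fx ρ D.x) (D.cn ρ) (D.rE ρ) := by
  intro n
  induction n using Nat.strong_induction_on with
  | _ n IH =>
    intro V _ _ _ ρ hn
    by_cases h0 : n = 0
    · subst h0
      have hz : ∀ j, D.cn ρ j = 0 := fun j => Nat.le_zero.1 (hn ▸ Submodule.finrank_le _)
      simp only [BoundAt, hz]
      omega
    haveI : Nontrivial V := Module.nontrivial_of_finrank_pos (R := K) (by omega)
    by_cases hirr : Irred ρ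
    · exact hn ▸ D.bound_irred h7 ρ hirr
    unfold Irred at hirr
    push Not at hirr
    obtain ⟨U, hU, hU0, hU1⟩ := hirr
    have h1 := Submodule.finrank_quotient_add_finrank U
    have h4 : 0 < finrank K U := Nat.pos_of_ne_zero fun h => hU0 (Submodule.finrank_eq_zero.1 h)
    have h5 : 0 < finrank K (V ⧸ U) := by
      have := Submodule.finrank_lt hU1
      omega
    obtain ⟨hA1, hA2, hA3⟩ := IH (finrank K U) (by omega) (subR ρ U hU) rfl
    obtain ⟨hB1, hB2, hB3⟩ := IH (finrank K (V ⧸ U)) (by omega) (quotR ρ U hU) rfl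
    have hp1 : ((p - 1 : ℕ) : K) ≠ 0 := cast_ne_zero (by omega) (by omega)
    have hc : ∀ j, D.cn ρ j = D.cn (subR ρ U hU) j + D.cn (quotR ρ U hU) j := fun j =>
      finrank_eig_add ρ U hU D.t_pow hp1 (wt_pow_card D.g j)
    have hF : fx ρ D.x = fx (subR ρ U hU) D.x + fx (quotR ρ U hU) D.x :=
      fx_add ρ U hU D.x_pow (cast_ne_zero (p := p) (by omega) (by omega))
    have hr : ∀ l j, D.rE (subR ρ U hU) l j + D.rE (quotR ρ U hU) l j ≤ D.rE ρ l j := by
      intro l j
      have hmem : ∀ v ∈ U, (Ew p D.e ρ D.u ^ l) v ∈ U := fun v hv => by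
        rw [← Ew_pow_subR ρ U hU D.e D.u l ⟨v, hv⟩]
        exact Submodule.coe_mem _
      have hsub : Ew p D.e (subR ρ U hU) D.u ^ l = (Ew p D.e ρ D.u ^ l).restrict hmem :=
        LinearMap.ext fun x => Subtype.ext (Ew_pow_subR ρ U hU D.e D.u l x)
      have hquot : Ew p D.e (quotR ρ U hU) D.u ^ l = U.mapQ U (Ew p D.e ρ D.u ^ l) hmem := by
        apply LinearMap.ext
        intro q
        obtain ⟨v, rfl⟩ := U.mkQ_surjective q
        rw [Ew_pow_quotR]
        rfl
      simp only [rE, hsub, hquot]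
      refine rkOn_superadd U _ hmem _ _ _ ?_
        (eig_quot_le_map ρ U hU D.t_pow hp1 (wt_pow_card D.g j))
      rintro v ⟨x, hx, rfl⟩
      exact (mem_eig ρ).2 (congrArg Subtype.val ((mem_eig _).1 hx))
    have r1 := hr 1 (-1)
    have r2 := hr (p - 4) 3
    refine ⟨fun h => ?_, fun h => ?_, ?_⟩
    · have := hA1 h
      have := hB1 h
      simp only [hc, hF]
      omega
    · have := hA2 h
      have := hB2 h
      have := hr 4 6
      have := hr 1 6
      simp only [hc, hF]
      omega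
    · simp only [hc, hF]
      omega

variable [FiniteDimensional K V] (ρ : Representation K L V)

theorem map_eig_le (l : ℕ) (j : ℤ) : (eig ρ D.t (wt K D.g j)).map (Ew p D.e ρ D.u ^ l) ≤
    eig ρ D.t (wt K D.g (j + 2 * l)) := by
  induction l with
  | zero => simp [Module.End.one_eq_id]
  | succ l ih =>
    rintro v ⟨x, hx, rfl⟩
    have hy := (mem_eig ρ).1 (ih ⟨x, hx, rfl⟩)
    rw [mem_eig, pow_succ', Module.End.mul_apply]
    have hc := congrArg (fun a : Module.End K V => a ((Ew p D.e ρ D.u ^ l) x)) (D.Ew_comm ρ)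
    simp only [Module.End.mul_apply, LinearMap.smul_apply] at hc
    rw [hc, hy, map_smul, smul_smul, ← wt_add]
    congr 2
    push_cast
    ring

theorem wt_congr {a b : ℤ} (h : ((p : ℤ) - 1) ∣ a - b) : wt K D.g a = wt K D.g b :=
  (wt_eq_iff D.g_ord a b).2 h

/-- A step in a chain. -/
theorem rE_chain (l l' : ℕ) (j m : ℤ) (h : ((p : ℤ) - 1) ∣ j + 2 * l - m) :
    D.rE ρ l' m + D.rE ρ l j ≤ D.rE ρ (l' + l) j + D.cn ρ m := by
  have hm := D.map_eig_le ρ l j
  rw [D.wt_congr h] at hm
  simp only [rE, cn, pow_add]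
  exact rkOn_mul_ge _ _ hm

theorem rE_le (l l' : ℕ) (j m : ℤ) (h : ((p : ℤ) - 1) ∣ j + 2 * l - m) :
    D.rE ρ (l' + l) j ≤ D.cn ρ m := by
  have hm := D.map_eig_le ρ l j
  rw [D.wt_congr h] at hm
  simp only [rE, cn, pow_add]
  exact rkOn_mul_le _ _ hm

theorem rE_add_inf (l : ℕ) (j : ℤ) : D.rE ρ l j +
    finrank K ↥(eig ρ D.t (wt K D.g j) ⊓ LinearMap.ker (Ew p D.e ρ D.u ^ l)) = D.cn ρ j :=
  finrank_map_add_inf _ _

theorem rE_p_eq_zero (h3 : 3 ≤ p) (hu : D.u ^ p = 1) (j : ℤ) : D.rE ρ p j = 0 := by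
  by_cases hV : Nontrivial V
  swap
  · rw [not_nontrivial_iff_subsingleton] at hV
    rw [rE]
    exact Module.finrank_zero_of_subsingleton
  haveI : CharP (Module.End K V) p :=
    charP_of_injective_algebraMap (FaithfulSMul.algebraMap_injective K (Module.End K V)) p
  have h0 : (ρ D.u - 1) ^ p = 0 := by
    rw [sub_pow_char_of_commute p (Commute.one_right _), one_pow, ← map_pow, hu, map_one, sub_self]
  have hk := D.ker_Ew_pow h3 ρ p
  rw [h0, LinearMap.ker_zero] at hk
  rw [rE, rkOn, LinearMap.ker_eq_top.1 hk, Submodule.map_zero, finrank_bot]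

theorem finrank_ker_Ew_pow (h3 : 3 ≤ p) :
    finrank K (LinearMap.ker (Ew p D.e ρ D.u ^ p)) = fx ρ (D.u ^ p) := by
  rw [D.ker_Ew_pow h3]
  by_cases hV : Nontrivial V
  swap
  · rw [not_nontrivial_iff_subsingleton] at hV
    rw [fx, Module.finrank_zero_of_subsingleton, Module.finrank_zero_of_subsingleton]
  haveI : CharP (Module.End K V) p :=
    charP_of_injective_algebraMap (FaithfulSMul.algebraMap_injective K (Module.End K V)) p
  rw [fx, fixSub, sub_pow_char_of_commute p (Commute.one_right _), one_pow, ← map_pow]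

theorem finrank_ker_Ew (h3 : 3 ≤ p) :
    finrank K (LinearMap.ker (Ew p D.e ρ D.u ^ 1)) = fx ρ D.u := by
  rw [D.ker_Ew_pow h3, pow_one]

/-- Distinct weight spaces inside a subspace. -/
theorem sum_weights_le (W : Submodule K V) (s : Finset ℤ)
    (hs : ∀ a ∈ s, ∀ b ∈ s, a ≠ b → ¬ ((p : ℤ) - 1) ∣ a - b) :
    ∑ j ∈ s, finrank K ↥(eig ρ D.t (wt K D.g j) ⊓ W) ≤ finrank K W :=
  sum_finrank_inf_le (ρ D.t) W s (fun j => wt K D.g j) fun a ha b hb h => by
    by_contra hne
    exact hs a ha b hb hne ((wt_eq_iff D.g_ord a b).1 h)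

/-- An element `u` of order `p`. -/
theorem finrank_le_of_u_pow [Finite L] (h7 : 7 ≤ p) (hu : D.u ^ p = 1) :
    finrank K V ≤ 4 * fx ρ D.x + 2 * fx ρ D.u := by
  obtain ⟨hb1, hb2, -⟩ := D.bound h7 _ ρ rfl
  have h3 : 3 ≤ p := by omega
  have hker := D.finrank_ker_Ew ρ h3
  -- the four weight spaces
  have hfour := D.sum_weights_le ρ (LinearMap.ker (Ew p D.e ρ D.u ^ 1)) {1, -1, -3, 4} (by
    intro a ha b hb hne
    simp only [Finset.mem_insert, Finset.mem_singleton] at ha hb
    refine not_dvd_weight h7 (sub_ne_zero.2 hne) ?_ ?_ <;> omega)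
  rw [Finset.sum_insert (by decide), Finset.sum_insert (by decide), Finset.sum_insert (by decide),
    Finset.sum_singleton, hker] at hfour
  have d1 := D.rE_add_inf ρ 1 1
  have d2 := D.rE_add_inf ρ 1 (-1)
  have d3 := D.rE_add_inf ρ 1 (-3)
  have d4 := D.rE_add_inf ρ 1 4
  -- the chain through the odd weights
  have e2 := D.rE_chain ρ 1 1 (-1) 1 ⟨0, by norm_num⟩
  have e3 := D.rE_chain ρ (1 + 1) (p - 4) (-1) 3 ⟨0, by norm_num⟩
  have e4 := D.rE_chain ρ (p - 4 + (1 + 1)) 1 (-1) (-3) ⟨2, by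
    rw [Nat.cast_add, Nat.cast_sub (by omega)]; push_cast; ring⟩
  have e5 := D.rE_chain ρ (1 + (p - 4 + (1 + 1))) 1 (-1) (-1) ⟨2, by
    rw [Nat.cast_add, Nat.cast_add, Nat.cast_sub (by omega)]; push_cast; ring⟩
  have e6 := D.rE_p_eq_zero ρ h3 hu (-1)
  rw [show 1 + (1 + (p - 4 + (1 + 1))) = p by omega, e6] at e5
  by_cases h11 : p = 11
  · have := hb2 h11
    subst h11
    have f1 := D.rE_chain ρ 4 1 6 4 ⟨1, by norm_num⟩
    have f2 := D.rE_chain ρ (1 + 4) 4 6 6 ⟨1, by norm_num⟩
    have f3 := D.rE_chain ρ (4 + (1 + 4)) 1 6 4 ⟨2, by norm_num⟩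
    have f4 := D.rE_chain ρ (1 + (4 + (1 + 4))) 1 6 6 ⟨2, by norm_num⟩
    have f5 := D.rE_p_eq_zero ρ h3 hu 6
    norm_num at f1 f2 f3 f4
    rw [f5] at f4
    omega
  · have := hb1 h11
    have g := D.rE_le ρ 1 0 4 6 ⟨0, by norm_num⟩
    rw [zero_add] at g
    omega

/-- An element `u` of larger order. -/
theorem finrank_le_of_u [Finite L] (h7 : 7 ≤ p) :
    finrank K V ≤ 5 * fx ρ D.x + fx ρ (D.u ^ p) := by
  obtain ⟨-, -, hb⟩ := D.bound h7 _ ρ rfl
  have hker := D.finrank_ker_Ew_pow ρ (by omega : 3 ≤ p)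
  have htwo := D.sum_weights_le ρ (LinearMap.ker (Ew p D.e ρ D.u ^ p)) {1, -1} (by
    intro a ha b hb hne
    simp only [Finset.mem_insert, Finset.mem_singleton] at ha hb
    refine not_dvd_weight h7 (sub_ne_zero.2 hne) ?_ ?_ <;> omega)
  rw [Finset.sum_insert (by decide), Finset.sum_singleton, hker] at htwo
  have d1 := D.rE_add_inf ρ p 1
  have d2 := D.rE_add_inf ρ p (-1)
  have g1 := D.rE_le ρ 1 (p - 1) 1 3 ⟨0, by norm_num⟩
  have g2 := D.rE_le ρ 2 (p - 2) (-1) 3 ⟨0, by norm_num⟩
  rw [show p - 1 + 1 = p by omega] at g1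
  rw [show p - 2 + 2 = p by omega] at g2
  omega

end Lift

end Cfsg.Agent.FixedSpace
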