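import Cfsg.Agent.Lib.FixedSpace.Bounds
import Cfsg.Agent.Lib.PGroup.Frattini

/-!
# Extensions of `SL(2,p)` by `p`-groups in characteristic `p`: conclusion

The lift of the torus normalises a cyclic subgroup mapping onto the unipotent subgroup, so some
element fixes a sixth of every representation in characteristic `p`.
-/

set_option autoImplicit false

namespace Cfsg.Agent.FixedSpace

open Module Matrix
open scoped MatrixGroups commutatorElement

universe u v w

variable {p : ℕ} [hp : Fact p.Prime] {L : Type u} [Group L]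

/-- A lift of the same exponent, the kernel having coprime order. -/
theorem exists_lift_pow [Finite L] {G : Type*} [Group G] (f : L →* G) (hf : Function.Surjective f)
    {m : ℕ} (hm : 1 < m) (hc : Nat.Coprime (Nat.card f.ker) m) {y : G} (hy : y ^ m = 1) :
    ∃ b : L, b ^ m = 1 ∧ f b = y := by
  obtain ⟨a, ha⟩ := hf y
  have ham : a ^ m ∈ f.ker := by rw [MonoidHom.mem_ker, map_pow, ha, hy]
  set N := Nat.card f.ker
  have hN : (a ^ m) ^ N = 1 :=
    congrArg Subtype.val (pow_card_eq_one' (x := (⟨a ^ m, ham⟩ : f.ker)))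
  obtain ⟨k, hk⟩ := Nat.exists_mul_mod_eq_one_of_coprime hc hm
  refine ⟨a ^ (N * k), ?_, ?_⟩
  · rw [← pow_mul, show N * k * m = m * N * k by ring, pow_mul, pow_mul, hN, one_pow]
  · rw [map_pow, ha, pow_eq_pow_mod _ hy, hk.2, pow_one]

theorem cc_pow_mod (a : ℕ) : cc p ^ a = cc p ^ (a % p) := pow_eq_pow_mod a cc_pow_p

theorem cc_pow_eq {a b : ℕ} (h : (a : ZMod p) = b) : cc p ^ a = cc p ^ b := by
  apply Subtype.ext
  rw [cc_pow, cc_pow, h]

set_option maxHeartbeats 1000000 in
/-- A cyclic subgroup normalised by the lift of the torus, above the unipotent subgroup. -/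
theorem exists_cyclic_normalised [Finite L] (h3 : 3 ≤ p) (f : L →* SL(2, ZMod p)) {g : (ZMod p)ˣ}
    {t : L} (htf : f t = tor g) (htp : t ^ (p - 1) = 1) :
    ∀ (N : ℕ) (Q : Subgroup L), Nat.card Q = N → IsPGroup p Q →
      (∀ q ∈ Q, t * q * t⁻¹ ∈ Q) → (∀ q ∈ Q, f q ∈ Subgroup.zpowers (cc p)) →
      ∀ q₀ ∈ Q, f q₀ = cc p → ∃ (u : L) (α : ℕ), f u = cc p ∧ u ∈ Q ∧ t * u * t⁻¹ = u ^ α := by
  intro N
  induction N using Nat.strong_induction_on with
  | _ N IH =>
    intro Q hN hQp hQt hQf q₀ hq₀ hq₀f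
    classical
    have hone : cc p ≠ 1 := by
      intro h
      have := congrArg (fun a : SL(2, ZMod p) => a.1 0 1) h
      simp [coe_cc] at this
    let c : Q →* Q :=
      { toFun := fun q => ⟨t * q * t⁻¹, hQt q q.2⟩
        map_one' := Subtype.ext (by simp)
        map_mul' := fun a b => Subtype.ext (by simp [mul_assoc]) }
    have hcs : Function.Surjective c := by
      refine Finite.surjective_of_injective fun a b h => Subtype.ext ?_
      exact mul_left_cancel (mul_right_cancel (congrArg Subtype.val h))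
    have hΦc : frattini Q ≤ (frattini Q).comap c := frattini_le_comap_frattini_of_surjective hcs
    by_cases hcase : ∃ z ∈ frattini Q, f (z : L) = cc p
    · obtain ⟨z, hz, hzf⟩ := hcase
      have hne : frattini Q ≠ ⊤ := by
        intro h
        have h1 : (⊥ : Subgroup Q) = ⊤ :=
          frattini_nongenerating (by rw [h, bot_sup_eq])
        have h2 : (⟨q₀, hq₀⟩ : Q) ∈ (⊥ : Subgroup Q) := h1 ▸ Subgroup.mem_top _
        rw [Subgroup.mem_bot] at h2
        exact hone (by rw [← hq₀f, show q₀ = 1 from congrArg Subtype.val h2, map_one])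
      have hlt : Nat.card ((frattini Q).map Q.subtype) < N := by
        rw [← hN, Subgroup.card_map_of_injective Q.subtype_injective]
        exact lt_of_le_of_ne (Subgroup.card_le_card_group _)
          fun h => hne (Subgroup.eq_top_of_card_eq _ h)
      obtain ⟨u, α, h1, h2, h3⟩ := IH _ hlt _ rfl (hQp.to_le (Subgroup.map_subtype_le _))
        (by
          rintro q ⟨y, hy, rfl⟩
          exact ⟨c y, hΦc hy, rfl⟩)
        (fun q hq => hQf q (Subgroup.map_subtype_le _ hq)) z ⟨z, hz, rfl⟩ hzf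
      exact ⟨u, α, h1, Subgroup.map_subtype_le _ h2, h3⟩
    push Not at hcase
    -- `Φ(Q)` lies in the kernel
    have hker : frattini Q ≤ (f.comp Q.subtype).ker := by
      intro z hz
      rw [MonoidHom.mem_ker, MonoidHom.comp_apply, Subgroup.subtype_apply]
      obtain ⟨k, hk⟩ := (isOfFinOrder_of_finite (cc p)).mem_powers_iff_mem_zpowers.2 (hQf z z.2)
      simp only at hk
      by_contra hne
      have hk0 : (k : ZMod p) ≠ 0 := by
        intro h
        exact hne (by rw [← hk, cc_pow_eq (b := 0) (by rw [h, Nat.cast_zero]), pow_zero])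
      refine hcase (z ^ ((k : ZMod p)⁻¹).val) ((frattini Q).pow_mem hz _) ?_
      rw [SubmonoidClass.coe_pow, map_pow, ← hk, ← pow_mul]
      refine (cc_pow_eq (b := 1) ?_).trans (pow_one _)
      rw [Nat.cast_mul, ZMod.natCast_zmod_val, mul_inv_cancel₀ hk0, Nat.cast_one]
    letI hA : CommGroup (Q ⧸ frattini Q) :=
      { (inferInstance : Group (Q ⧸ frattini Q)) with
        mul_comm := fun a b => by
          obtain ⟨x, rfl⟩ := QuotientGroup.mk'_surjective (frattini Q) a
          obtain ⟨y, rfl⟩ := QuotientGroup.mk'_surjective (frattini Q) b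
          rw [← map_mul, ← map_mul, QuotientGroup.mk'_apply, QuotientGroup.mk'_apply,
            QuotientGroup.eq]
          refine PGroup.commutator_le_frattini hQp ?_
          rw [show (x * y)⁻¹ * (y * x) = ⁅y⁻¹, x⁻¹⁆ by rw [commutatorElement_def]; group]
          exact Subgroup.commutator_mem_commutator (Subgroup.mem_top _) (Subgroup.mem_top _) }
    have hexp : ∀ a : Q ⧸ frattini Q, a ^ p = 1 := by
      intro a
      obtain ⟨x, rfl⟩ := QuotientGroup.mk'_surjective (frattini Q) a
      rw [← map_pow, QuotientGroup.mk'_apply, QuotientGroup.eq_one_iff]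
      exact PGroup.pow_mem_frattini hQp x
    have hpow : ∀ (a : Q ⧸ frattini Q) {i j : ℕ}, (i : ZMod p) = j → a ^ i = a ^ j := by
      intro a i j h
      rw [pow_eq_pow_mod i (hexp a), pow_eq_pow_mod j (hexp a),
        (ZMod.natCast_eq_natCast_iff' i j p).1 h]
    let τ : Q ⧸ frattini Q →* Q ⧸ frattini Q := QuotientGroup.map _ _ c hΦc
    let ψ : Q ⧸ frattini Q →* SL(2, ZMod p) := QuotientGroup.lift _ (f.comp Q.subtype) hker
    have hψτ : ∀ a, ψ (τ a) = ψ a ^ ((g : ZMod p) ^ 2).val := by
      intro a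
      obtain ⟨x, rfl⟩ := QuotientGroup.mk'_surjective (frattini Q) a
      show f (t * (x : L) * t⁻¹) = f x ^ _
      obtain ⟨k, hk⟩ := (isOfFinOrder_of_finite (cc p)).mem_powers_iff_mem_zpowers.2 (hQf x x.2)
      simp only at hk
      rw [map_mul, map_mul, map_inv, htf, ← hk, tor_cc, ← pow_mul]
      exact congrArg (cc p ^ ·) (mul_comm _ _)
    set a₀ : Q ⧸ frattini Q := QuotientGroup.mk' _ ⟨q₀, hq₀⟩
    have hψ : ∀ n, ψ ((⇑τ)^[n] a₀) = cc p ^ ((g : ZMod p) ^ 2).val ^ n := by
      intro n
      induction n with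
      | zero =>
        rw [Function.iterate_zero_apply, pow_zero, pow_one]
        exact hq₀f
      | succ n ih => rw [Function.iterate_succ_apply', hψτ, ih, ← pow_mul, ← pow_succ]
    have hτ : ∀ (n : ℕ) (x : Q), ∃ y : Q, (y : L) = t ^ n * x * (t ^ n)⁻¹ ∧
        (⇑τ)^[n] (QuotientGroup.mk' _ x) = QuotientGroup.mk' _ y := by
      intro n x
      induction n with
      | zero => exact ⟨x, by simp, rfl⟩
      | succ n ih =>
        obtain ⟨y, hy, hy'⟩ := ih
        refine ⟨c y, ?_, by rw [Function.iterate_succ_apply', hy']; rfl⟩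
        show t * (y : L) * t⁻¹ = _
        rw [hy, pow_succ' t, _root_.mul_inv_rev]
        group
    have hper : (⇑τ)^[p - 1] a₀ = a₀ := by
      obtain ⟨y, hy, hy'⟩ := hτ (p - 1) ⟨q₀, hq₀⟩
      rw [htp, one_mul, inv_one, mul_one] at hy
      rw [hy', show y = ⟨q₀, hq₀⟩ from Subtype.ext hy]
    set A := ((g : ZMod p) ^ 2).val with hA'
    set B := (((g : ZMod p) ^ 2)⁻¹).val with hB'
    have hAB : (A : ZMod p) * B = 1 := by
      rw [hA', hB', ZMod.natCast_zmod_val, ZMod.natCast_zmod_val,
        mul_inv_cancel₀ (pow_ne_zero _ g.ne_zero)]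
    let w : ℕ → Q ⧸ frattini Q := fun M => ∏ n ∈ Finset.range M, ((⇑τ)^[n] a₀) ^ B ^ n
    have hψw : ∀ M, ψ (w M) = cc p ^ M := by
      intro M
      induction M with
      | zero => simp [w]
      | succ M ih =>
        simp only [w] at ih ⊢
        rw [Finset.prod_range_succ, map_mul, ih, map_pow, hψ, ← pow_mul, ← pow_add]
        refine cc_pow_eq ?_
        push_cast
        rw [← mul_pow, hAB, one_pow]
    have hτw : τ (w (p - 1)) = w (p - 1) ^ A := by
      let F : ℕ → Q ⧸ frattini Q := fun n => ((⇑τ)^[n] a₀) ^ (B ^ n * A)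
      have h1 : τ (w (p - 1)) = ∏ n ∈ Finset.range (p - 1), F (n + 1) := by
        simp only [w, map_prod, map_pow]
        refine Finset.prod_congr rfl fun n _ => ?_
        simp only [F, Function.iterate_succ_apply']
        refine hpow _ ?_
        push_cast
        rw [pow_succ, mul_assoc, mul_comm (B : ZMod p) (A : ZMod p), hAB, mul_one]
      have h2 : w (p - 1) ^ A = ∏ n ∈ Finset.range (p - 1), F n := by
        simp only [w, ← Finset.prod_pow, F, ← pow_mul]
      have h3 : F (p - 1) = F 0 := by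
        simp only [F, hper, Function.iterate_zero_apply]
        refine hpow _ ?_
        push_cast
        rw [ZMod.pow_card_sub_one_eq_one (right_ne_zero_of_mul_eq_one hAB), pow_zero]
      have h4 := (Finset.prod_range_succ' F (p - 1)).symm.trans (Finset.prod_range_succ F (p - 1))
      rw [h3] at h4
      rw [h1, h2]
      exact mul_right_cancel h4
    obtain ⟨v, hv⟩ := QuotientGroup.mk'_surjective (frattini Q) (w (p - 1))⁻¹
    have hvf : f (v : L) = cc p := by
      have h : ψ (QuotientGroup.mk' _ v) = f (v : L) := rfl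
      rw [← h, hv, map_inv, hψw, inv_eq_iff_mul_eq_one, ← pow_succ,
        Nat.sub_add_cancel hp.out.one_le, cc_pow_p]
    have hvc : (v ^ A)⁻¹ * c v ∈ frattini Q := by
      rw [← QuotientGroup.eq]
      show QuotientGroup.mk' _ (v ^ A) = QuotientGroup.mk' _ (c v)
      rw [map_pow, hv, inv_pow, ← hτw, ← map_inv, ← hv]
      rfl
    set Q₁ := Subgroup.zpowers v ⊔ frattini Q
    by_cases htop : Q₁ = ⊤
    · have hz : Subgroup.zpowers v = ⊤ := frattini_nongenerating htop
      obtain ⟨α, hα⟩ := (isOfFinOrder_of_finite v).mem_powers_iff_mem_zpowers.2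
        (hz.symm ▸ Subgroup.mem_top (c v))
      exact ⟨v, α, hvf, v.2, (congrArg Subtype.val hα).symm.trans (by rw [SubmonoidClass.coe_pow])⟩
    have hQ₁ : Q₁ ≤ Q₁.comap c := by
      refine sup_le ?_ (hΦc.trans (Subgroup.comap_mono le_sup_right))
      rw [Subgroup.zpowers_le, Subgroup.mem_comap, ← mul_inv_cancel_left (v ^ A) (c v)]
      exact Q₁.mul_mem (Q₁.pow_mem (Subgroup.mem_sup_left (Subgroup.mem_zpowers v)) _)
        (Subgroup.mem_sup_right hvc)
    have hlt : Nat.card (Q₁.map Q.subtype) < N := by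
      rw [← hN, Subgroup.card_map_of_injective Q.subtype_injective]
      exact lt_of_le_of_ne (Subgroup.card_le_card_group _)
        fun h => htop (Subgroup.eq_top_of_card_eq _ h)
    obtain ⟨u, α, h1, h2, h3⟩ := IH _ hlt _ rfl (hQp.to_le (Subgroup.map_subtype_le _))
      (by
        rintro q ⟨y, hy, rfl⟩
        exact ⟨c y, hQ₁ hy, rfl⟩)
      (fun q hq => hQf q (Subgroup.map_subtype_le _ hq)) v
      ⟨v, Subgroup.mem_sup_left (Subgroup.mem_zpowers v), rfl⟩ hvf
    exact ⟨u, α, h1, Subgroup.map_subtype_le _ h2, h3⟩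

/-- The lift data exist. -/
theorem exists_lift [Finite L] (h7 : 7 ≤ p) (f : L →* SL(2, ZMod p)) (hf : Function.Surjective f)
    (hker : IsPGroup p f.ker) : Nonempty (Lift p L) := by
  obtain ⟨g, hg⟩ := IsCyclic.exists_generator (α := (ZMod p)ˣ)
  obtain ⟨k, hk⟩ := hker.exists_card_eq
  have hc : ∀ m : ℕ, 1 ≤ m → m < p → Nat.Coprime (Nat.card f.ker) m := fun m h1 h2 => by
    rw [hk]
    exact Nat.Coprime.pow_left _ (hp.out.coprime_iff_not_dvd.2
      fun h => absurd (Nat.le_of_dvd h1 h) (by omega))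
  obtain ⟨t, htp, htf⟩ := exists_lift_pow f hf (by omega) (hc (p - 1) (by omega) (by omega))
    (tor_pow_eq_one g)
  obtain ⟨x, hxp, hxf⟩ := exists_lift_pow f hf (by omega) (hc 3 (by omega) (by omega))
    (ord_three (p := p))
  set P := (Subgroup.zpowers (cc p)).comap f
  have hP : IsPGroup p P := by
    intro q
    obtain ⟨i, hi⟩ := hker ⟨(q : L) ^ p, by
      obtain ⟨j, hj⟩ := q.2
      rw [MonoidHom.mem_ker, map_pow]
      simp only at hj
      rw [← hj, ← zpow_natCast, zpow_comm, zpow_natCast, cc_pow_p, _root_.one_zpow]⟩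
    refine ⟨i + 1, Subtype.ext ?_⟩
    rw [pow_succ', pow_mul]
    simpa using congrArg Subtype.val hi
  have hPt : ∀ q ∈ P, t * q * t⁻¹ ∈ P := by
    intro q hq
    obtain ⟨j, hj⟩ := (isOfFinOrder_of_finite (cc p)).mem_powers_iff_mem_zpowers.2
      (Subgroup.mem_comap.1 hq)
    simp only at hj
    rw [Subgroup.mem_comap, map_mul, map_mul, map_inv, htf, ← hj, tor_cc]
    exact Subgroup.pow_mem _ (Subgroup.mem_zpowers _) _
  obtain ⟨q₀, hq₀⟩ := hf (cc p)
  obtain ⟨u, α, huf, huP, hconj⟩ := exists_cyclic_normalised (by omega) f htf htp _ P rfl hP hPt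
    (fun q hq => hq) q₀ (by rw [Subgroup.mem_comap, hq₀]; exact Subgroup.mem_zpowers _) hq₀
  obtain ⟨m, hm⟩ := (IsPGroup.iff_orderOf.1 hP) ⟨u, huP⟩
  rw [Subgroup.orderOf_mk] at hm
  obtain ⟨e, rfl⟩ : ∃ e, m = e + 1 := by
    refine ⟨m - 1, (Nat.sub_add_cancel (Nat.one_le_iff_ne_zero.2 fun h => ?_)).symm⟩
    rw [h, pow_zero, orderOf_eq_one_iff] at hm
    rw [hm, map_one] at huf
    have := congrArg (fun a : SL(2, ZMod p) => a.1 0 1) huf
    simp [coe_cc] at this
  exact ⟨⟨f, hf, hker, g, hg, t, htf, htp, u, huf, e, hm, α, hconj, x, hxf, hxp⟩⟩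

/-- An element fixing a sixth in characteristic `p`. -/
theorem good_of_char [Finite L] (h7 : 7 ≤ p) {K : Type v} [Field K] [CharP K p]
    (f : L →* SL(2, ZMod p)) (hf : Function.Surjective f) (hker : IsPGroup p f.ker)
    {V : Type w} [AddCommGroup V] [Module K V] [FiniteDimensional K V]
    (ρ : Representation K L V) : Good ρ := by
  obtain ⟨D⟩ := exists_lift h7 f hf hker
  by_contra hbad
  rw [not_good_iff] at hbad
  have hx := hbad D.x fun h => ord_three_ne h7 (by rw [← D.x_f, h, map_one])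
  by_cases hu : D.u ^ p = 1
  · have hu' := hbad D.u fun h => by
      have := D.u_ord
      rw [h, orderOf_one] at this
      exact absurd this.symm (Nat.ne_of_gt (Nat.one_lt_pow (by omega) hp.out.one_lt))
    have := D.finrank_le_of_u_pow ρ h7 hu
    omega
  · have hu' := hbad _ hu
    have := D.finrank_le_of_u ρ h7
    omega

end Cfsg.Agent.FixedSpace
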