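import Cfsg.Agent.Lib.FixedSpace.Pair

/-!
# An element of order three moving an `s`-group

If an element `x` of order three normalises an `s`-group `Q` (`s ≥ 5` invertible in the field) and
does not centralise it, some non-identity element fixes a sixth of the space.
-/

set_option autoImplicit false

namespace Cfsg.Agent.FixedSpace

open Module

universe u v w

variable {G : Type u} [Group G]

theorem mul_pow_of_central {a b e : G} (hba : b * a = e * a * b) (hea : Commute e a)
    (heb : Commute e b) : ∀ n : ℕ, (a * b) ^ n = e ^ (n.choose 2) * a ^ n * b ^ n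
  | 0 => by simp
  | n + 1 => by
    have h1 : SemiconjBy b a (e * a) := hba
    have h2 : ∀ m : ℕ, b ^ m * a = e ^ m * a * b ^ m := by
      intro m
      induction m with
      | zero => simp
      | succ m ih =>
        calc b ^ (m + 1) * a = b ^ m * (b * a) := by rw [pow_succ, mul_assoc]
          _ = b ^ m * e * a * b := by rw [hba]; group
          _ = e * (b ^ m * a) * b := by rw [(heb.symm.pow_left m).eq]; group
          _ = e * e ^ m * a * (b ^ m * b) := by rw [ih]; group
          _ = _ := by rw [← pow_succ', ← pow_succ]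
    calc (a * b) ^ (n + 1) = e ^ n.choose 2 * a ^ n * (b ^ n * a) * b := by
          rw [pow_succ, mul_pow_of_central hba hea heb n]; group
      _ = e ^ n.choose 2 * (a ^ n * e ^ n) * a * (b ^ n * b) := by rw [h2]; group
      _ = e ^ n.choose 2 * e ^ n * (a ^ n * a) * (b ^ n * b) := by
          rw [((hea.pow_pow n n).symm).eq]; group
      _ = _ := by
          rw [← pow_add, ← pow_succ, ← pow_succ, Nat.choose_succ_succ' n 1, Nat.choose_one_right,
            add_comm (n.choose _) n]

/-- `x x⁻¹`-conjugation. -/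
local notation "cx" => fun (x q : _) => x * q * x⁻¹

theorem cube_conj {x : G} (hx : x ^ 3 = 1) (q : G) :
    x * (x * (x * q * x⁻¹) * x⁻¹) * x⁻¹ = q := by
  rw [show x * (x * (x * q * x⁻¹) * x⁻¹) * x⁻¹ = x ^ 3 * q * (x ^ 3)⁻¹ by
    rw [pow_succ, pow_two]; group, hx, one_mul, inv_one, mul_one]

theorem commute_of_conj_eq {x q : G} (h : x * q * x⁻¹ = q) : Commute x q :=
  mul_inv_eq_iff_eq_mul.1 h

variable {K : Type v} [Field K] {V : Type w} [AddCommGroup V] [Module K V] [FiniteDimensional K V]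
  (ρ : Representation K G V)

/-- An element of order three in a group without big fixed spaces centralises an `s`-group that it
normalises. -/
theorem commute_of_normalises [Finite G] {s : ℕ} [hs : Fact s.Prime] (h5 : 5 ≤ s)
    (hK : (s : K) ≠ 0) (h3 : (3 : K) ≠ 0) (hbad : ¬ Good ρ) {x : G} (hx : x ^ 3 = 1) :
    ∀ (Q : Subgroup G), IsPGroup s Q → (∀ q ∈ Q, x * q * x⁻¹ ∈ Q) → ∀ q ∈ Q, Commute x q := by
  intro Q
  induction' hn : Nat.card Q using Nat.strong_induction_on with n IH generalizing Q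
  intro hQ hinv
  by_contra hne
  push Not at hne
  obtain ⟨q₀, hq₀, hq₀x⟩ := hne
  have small : ∀ R : Subgroup G, R ≤ Q → (∀ r ∈ R, x * r * x⁻¹ ∈ R) →
      (∃ r ∈ R, ¬ Commute x r) → R = Q := by
    intro R hRQ hR ⟨r, hr, hrx⟩
    by_contra hne
    refine hrx (IH (Nat.card R) ?_ R rfl (hQ.to_le hRQ) hR r hr)
    rw [← hn]
    by_contra hle
    exact hne (Subgroup.eq_of_le_of_card_ge hRQ (not_lt.1 hle))
  set D : Subgroup G := Q ⊓ Subgroup.centralizer {x} with hD
  have memD : ∀ d, d ∈ D ↔ d ∈ Q ∧ Commute x d := fun d => by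
    rw [hD, Subgroup.mem_inf, Subgroup.mem_centralizer_singleton_iff]
    exact and_congr_right fun _ => ⟨fun h => h.symm, fun h => h.symm⟩
  have hDQ : D ≤ Q := inf_le_left
  have hDx : ∀ d ∈ D, x * d * x⁻¹ = d := fun d hd => by
    rw [((memD d).1 hd).2.eq, mul_inv_cancel_right]
  have notD : ∀ a ∈ Q, a ∉ D → ¬ Commute x a := fun a ha hna h => hna ((memD a).2 ⟨ha, h⟩)
  have hlt : D < Q := lt_of_le_of_ne hDQ fun h => hq₀x ((memD q₀).1 (h.ge hq₀)).2
  -- `D` is normal in `Q`
  have hnorm : ∀ q ∈ Q, ∀ d ∈ D, q * d * q⁻¹ ∈ D := by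
    haveI : Group.IsNilpotent Q := hQ.isNilpotent
    have hlt' : D.subgroupOf Q < ⊤ := by
      rw [lt_top_iff_ne_top, Ne, Subgroup.subgroupOf_eq_top]
      exact not_le_of_gt hlt
    obtain ⟨⟨a, haQ⟩, ha, haD⟩ :=
      SetLike.exists_of_lt (Group.normalizerCondition_of_isNilpotent _ hlt')
    have hN : Q ⊓ Subgroup.normalizer (D : Set G) = Q := by
      refine small _ inf_le_left ?_ ⟨a, ⟨haQ, ?_⟩, notD a haQ fun h => haD h⟩
      · intro r ⟨hr, hrD⟩
        refine ⟨hinv r hr, ?_⟩
        rw [SetLike.mem_coe, Subgroup.mem_toSubmonoid, Subgroup.mem_normalizer_iff] at hrD ⊢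
        intro d
        have key : ∀ d, d ∈ D ↔ x⁻¹ * d * x ∈ D := by
          intro d
          constructor
          · intro hd
            rwa [mul_assoc, ← ((memD d).1 hd).2.eq, inv_mul_cancel_left]
          · intro hd
            have := hDx _ hd
            rw [show x * (x⁻¹ * d * x) * x⁻¹ = d by group] at this
            rwa [this]
        rw [key d, key (x * r * x⁻¹ * d * (x * r * x⁻¹)⁻¹), hrD (x⁻¹ * d * x),
          show r * (x⁻¹ * d * x) * r⁻¹ = x⁻¹ * (x * r * x⁻¹ * d * (x * r * x⁻¹)⁻¹) * x by group]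
      · rw [Subgroup.mem_normalizer_iff] at ha
        rw [SetLike.mem_coe, Subgroup.mem_toSubmonoid, Subgroup.mem_normalizer_iff]
        intro d
        constructor
        · intro hd
          have := (ha ⟨d, hDQ hd⟩).1 hd
          simpa [Subgroup.mem_subgroupOf] using this
        · intro hd
          have hdQ : d ∈ Q := by
            have := Q.mul_mem (Q.mul_mem (Q.inv_mem haQ) (hDQ hd)) haQ
            rwa [show a⁻¹ * (a * d * a⁻¹) * a = d by group] at this
          have := (ha ⟨d, hdQ⟩).2 (by simpa [Subgroup.mem_subgroupOf] using hd)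
          simpa [Subgroup.mem_subgroupOf] using this
    intro q hq d hd
    have := (hN.ge hq).2
    rw [SetLike.mem_coe, Subgroup.mem_toSubmonoid, Subgroup.mem_normalizer_iff] at this
    exact (this d).1 hd
  haveI hDn : (D.subgroupOf Q).Normal :=
    ⟨fun d hd q => by simpa [Subgroup.mem_subgroupOf] using hnorm q q.2 d hd⟩
  set π := QuotientGroup.mk' (D.subgroupOf Q) with hπ
  have πone : ∀ a : Q, π a = 1 ↔ (a : G) ∈ D := fun a => by
    rw [hπ, QuotientGroup.mk'_apply, QuotientGroup.eq_one_iff, Subgroup.mem_subgroupOf]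
  let σ : Q → Q := fun q => ⟨x * q * x⁻¹, hinv q q.2⟩
  have σmul : ∀ a b : Q, σ (a * b) = σ a * σ b := fun a b => Subtype.ext (by
    simp only [σ, Subgroup.coe_mul]; group)
  let σh : Q →* Q := MonoidHom.mk' σ σmul
  have σ3 : ∀ a : Q, σh (σh (σh a)) = a := fun a => Subtype.ext (cube_conj hx a)
  have σD : ∀ a : Q, (a : G) ∈ D ↔ (σh a : G) ∈ D := by
    intro a
    constructor
    · intro h
      show x * a * x⁻¹ ∈ D
      rwa [hDx _ h]
    · intro h
      have h1 : x * (x * a * x⁻¹) * x⁻¹ = x * a * x⁻¹ := hDx _ h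
      have h2 : x * (a : G) * x⁻¹ = a := by
        have := mul_left_cancel (mul_right_cancel h1)
        exact this
      exact h2 ▸ h
  -- transporting subgroups of the quotient
  have lift : ∀ R : Subgroup Q, (∀ r ∈ R, σh r ∈ R) → (∃ r ∈ R, (r : G) ∉ D) → R = ⊤ := by
    intro R hR ⟨r, hr, hrD⟩
    have h := small (R.map Q.subtype) (Subgroup.map_subtype_le R) ?_ ⟨r, ⟨r, hr, rfl⟩, notD r r.2 hrD⟩
    · refine eq_top_iff.2 fun a _ => ?_
      obtain ⟨b, hb, hba⟩ := h.ge a.2
      exact (Subtype.ext hba : b = a) ▸ hb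
    · rintro - ⟨a, ha, rfl⟩
      exact ⟨σh a, hR a ha, rfl⟩
  haveI : Nontrivial (Q ⧸ D.subgroupOf Q) := by
    refine QuotientGroup.nontrivial_iff.2 ?_
    rw [Ne, Subgroup.subgroupOf_eq_top]
    exact not_le_of_gt hlt
  have hQ' : IsPGroup s (Q ⧸ D.subgroupOf Q) := hQ.to_quotient _
  -- the quotient is commutative, of exponent `s`
  have hab : ∀ a b : Q, π a * π b = π b * π a := by
    have hR : (Subgroup.center (Q ⧸ D.subgroupOf Q)).comap π = ⊤ := by
      refine lift _ (fun r hr => ?_) ?_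
      · rw [Subgroup.mem_comap, Subgroup.mem_center_iff] at hr ⊢
        intro g
        obtain ⟨g, rfl⟩ := QuotientGroup.mk'_surjective _ g
        have h1 := hr (π (σh (σh g)))
        rw [← map_mul, ← map_mul, ← inv_mul_eq_one, ← map_inv, ← map_mul, πone] at h1
        rw [← map_mul, ← map_mul, ← inv_mul_eq_one, ← map_inv, ← map_mul, πone]
        have h2 := (σD _).1 h1
        rwa [map_mul, map_inv, map_mul, map_mul, σ3] at h2
      · haveI := hQ'.center_nontrivial
        obtain ⟨⟨z, hz⟩, hz1⟩ := exists_ne (1 : Subgroup.center (Q ⧸ D.subgroupOf Q))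
        obtain ⟨r, rfl⟩ := QuotientGroup.mk'_surjective _ z
        exact ⟨r, hz, fun h => hz1 (Subtype.ext ((πone r).2 h))⟩
    intro a b
    have := hR.ge (Subgroup.mem_top a)
    rw [Subgroup.mem_comap, Subgroup.mem_center_iff] at this
    exact (this (π b)).symm
  have hexp : ∀ a : Q, (a : G) ^ s ∈ D := by
    let E : Subgroup Q :=
      { carrier := {a | π a ^ s = 1}
        mul_mem' := fun {a b} ha hb => by
          show π (a * b) ^ s = 1
          rw [map_mul, (show Commute (π a) (π b) from hab a b).mul_pow, ha, hb, one_mul]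
        one_mem' := by simp
        inv_mem' := fun {a} ha => by
          show π a⁻¹ ^ s = 1
          rw [map_inv, inv_pow, ha, inv_one] }
    have hE : E = ⊤ := by
      refine lift E (fun r hr => ?_) ?_
      · show π (σh r) ^ s = 1
        have h1 : π (r ^ s) = 1 := (map_pow π r s).trans hr
        rw [← map_pow, ← map_pow, πone, ← σD, ← πone, h1]
      · obtain ⟨k, hk0, hk⟩ := hQ'.nontrivial_iff_card.1 inferInstance
        obtain ⟨z, hz⟩ := exists_prime_orderOf_dvd_card' (G := Q ⧸ D.subgroupOf Q) s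
          (hk ▸ dvd_pow_self s hk0.ne')
        obtain ⟨r, rfl⟩ := QuotientGroup.mk'_surjective _ z
        refine ⟨r, show π r ^ s = 1 from hz ▸ pow_orderOf_eq_one _, fun h => ?_⟩
        have h1 := (πone r).2 h
        rw [hπ] at h1
        rw [h1, orderOf_one] at hz
        omega
    intro a
    have := hE.ge (Subgroup.mem_top a)
    have h1 : π (a ^ s) = 1 := (map_pow π a s).trans this
    simpa using (πone _).1 h1
  -- displacement
  have disp : ∀ a ∈ Q, a⁻¹ * (x * a * x⁻¹) ∈ D → a ∈ D := by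
    intro a haQ hb
    set b := a⁻¹ * (x * a * x⁻¹) with hb'
    have h1 : x * a * x⁻¹ = a * b := by rw [hb']; group
    have h2 : x * b * x⁻¹ = b := hDx b hb
    have h3' : a * b ^ 3 = a := by
      conv_rhs => rw [← cube_conj hx a]
      rw [h1, show x * (a * b) * x⁻¹ = (x * a * x⁻¹) * (x * b * x⁻¹) by group, h1, h2,
        show x * (a * b * b) * x⁻¹ = (x * a * x⁻¹) * (x * b * x⁻¹) * (x * b * x⁻¹) by group, h1, h2]
      rw [pow_succ, pow_two]; group
    have hb3 : b ^ 3 = 1 := mul_eq_left.1 h3'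
    obtain ⟨k, hk⟩ := hQ ⟨b, hDQ hb⟩
    have hk' : b ^ s ^ k = 1 := congrArg Subtype.val hk
    have hco : Nat.Coprime 3 (s ^ k) :=
      ((Nat.coprime_primes Nat.prime_three hs.out).2 (by omega)).pow_right k
    have hb1 : b = 1 := by
      rw [← orderOf_eq_one_iff]
      exact Nat.eq_one_of_dvd_coprimes hco (orderOf_dvd_of_pow_eq_one hb3)
        (orderOf_dvd_of_pow_eq_one hk')
    rw [hb1, mul_one] at h1
    exact (memD a).2 ⟨haQ, commute_of_conj_eq h1⟩
  have hcomD : ∀ a ∈ Q, ∀ d ∈ D, Commute (a⁻¹ * (x * a * x⁻¹)) d := by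
    intro a haQ d hd
    have h1 := hDx _ (hnorm a haQ d hd)
    rw [show x * (a * d * a⁻¹) * x⁻¹ = (x * a * x⁻¹) * (x * d * x⁻¹) * (x * a * x⁻¹)⁻¹ by group,
      hDx d hd] at h1
    show a⁻¹ * (x * a * x⁻¹) * d = d * (a⁻¹ * (x * a * x⁻¹))
    calc a⁻¹ * (x * a * x⁻¹) * d
        = a⁻¹ * ((x * a * x⁻¹) * d * (x * a * x⁻¹)⁻¹) * (x * a * x⁻¹) := by group
      _ = _ := by rw [h1]; group
  -- a complement to `D` centralising it
  set C : Subgroup G := Q ⊓ Subgroup.centralizer (D : Set G) with hC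
  have memC : ∀ a, a ∈ C ↔ a ∈ Q ∧ ∀ d ∈ D, Commute a d := fun a => by
    rw [hC, Subgroup.mem_inf, Subgroup.mem_centralizer_iff]
    exact and_congr_right fun _ => ⟨fun h d hd => (h d hd).symm, fun h d hd => (h d hd).symm⟩
  have hCx : ∀ a ∈ C, x * a * x⁻¹ ∈ C := by
    intro a ha
    refine (memC _).2 ⟨hinv a ((memC a).1 ha).1, fun d hd => ?_⟩
    have h1 := ((memC a).1 ha).2 d hd
    have h2 := h1.map (MulAut.conj x).toMonoidHom
    simp only [MulEquiv.coe_toMonoidHom, MulAut.conj_apply] at h2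
    rwa [hDx d hd] at h2
  obtain ⟨a₀, ha₀Q, ha₀⟩ := SetLike.exists_of_lt hlt
  have ha₁C : a₀⁻¹ * (x * a₀ * x⁻¹) ∈ C := (memC _).2
    ⟨Q.mul_mem (Q.inv_mem ha₀Q) (hinv a₀ ha₀Q), hcomD a₀ ha₀Q⟩
  -- choose an element of `C`, an eigenvector when `s ≡ 1 mod 3`
  obtain ⟨a, haC, haD, heig⟩ : ∃ a ∈ C, a ∉ D ∧
      (s % 3 = 1 → ∃ k : ℕ, (a ^ k)⁻¹ * (x * a * x⁻¹) ∈ D) := by
    by_cases hs3 : s % 3 = 1
    swap
    · exact ⟨_, ha₁C, fun h => ha₀ (disp a₀ ha₀Q h), fun h => absurd h hs3⟩
    set a := a₀⁻¹ * (x * a₀ * x⁻¹) with ha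
    have haQ : a ∈ Q := ((memC a).1 ha₁C).1
    have haD : a ∉ D := fun h => ha₀ (disp a₀ ha₀Q h)
    obtain ⟨l, hl⟩ : ∃ l : ZMod s, l ^ 2 + l + 1 = 0 := by
      obtain ⟨w, hw⟩ := exists_prime_orderOf_dvd_card' (G := (ZMod s)ˣ) 3 (by
        rw [Nat.card_eq_fintype_card, ZMod.card_units]; omega)
      refine ⟨(w : ZMod s), ?_⟩
      have h1 : ((w : ZMod s) - 1) * ((w : ZMod s) ^ 2 + (w : ZMod s) + 1) = 0 := by
        have hw3 : (w : ZMod s) ^ 3 = 1 := by
          rw [← Units.val_pow_eq_pow_val, ← hw, pow_orderOf_eq_one, Units.val_one]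
        linear_combination hw3
      refine (mul_eq_zero.1 h1).resolve_left fun h => ?_
      rw [sub_eq_zero, Units.val_eq_one] at h
      rw [h, orderOf_one] at hw
      omega
    set a' := x * a * x⁻¹ with ha'
    by_cases heig' : ∃ k : ℕ, (a ^ k)⁻¹ * a' ∈ D
    · exact ⟨a, ha₁C, haD, fun _ => heig'⟩
    set k := (-l).val with hk
    have hkl : (k : ZMod s) = -l := by rw [hk, ZMod.natCast_zmod_val]
    refine ⟨a' * a ^ k, C.mul_mem (hCx a ha₁C) (C.pow_mem ha₁C k), fun h => heig' ?_, fun _ => ?_⟩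
    · refine ⟨(l).val, ?_⟩
      set A : Q := ⟨a, haQ⟩
      have h1 : π (σh A) * π A ^ k = 1 := by
        rw [← map_pow, ← map_mul, πone]; exact h
      have h2 : π A ^ s = 1 := by rw [← map_pow, πone]; simpa using hexp A
      have h3 : π A ^ k * π A ^ l.val = 1 := by
        rw [← pow_add, ← orderOf_dvd_iff_pow_eq_one]
        refine (orderOf_dvd_of_pow_eq_one h2).trans ((ZMod.natCast_eq_zero_iff _ _).1 ?_)
        rw [Nat.cast_add, hkl, ZMod.natCast_zmod_val, neg_add_cancel]
      have h4 : π (σh A) = π A ^ l.val := by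
        rw [eq_inv_of_mul_eq_one_left h1, inv_eq_of_mul_eq_one_right h3]
      have : π ((A ^ l.val)⁻¹ * σh A) = 1 := by
        rw [map_mul, map_inv, map_pow, ← h4, inv_mul_cancel]
      exact (πone _).1 this
    · refine ⟨k + (s - 1), ?_⟩
      set A : Q := ⟨a, haQ⟩
      set A1 := σh A
      set A2 := σh A1
      -- the product over the orbit lies in `D`
      have horb : π A2 * π A1 * π A = 1 := by
        rw [← map_mul, ← map_mul, πone]
        refine disp _ (A2 * A1 * A).2 ?_
        have h1 : π ((A2 * A1 * A)⁻¹ * σh (A2 * A1 * A)) = 1 := by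
          simp only [map_mul, map_inv, A2, A1, σ3]
          rw [inv_mul_eq_one, hab (σh (σh A)), mul_assoc, hab (σh (σh A)), ← mul_assoc,
            hab (σh A), mul_assoc, mul_assoc, hab (σh A) (σh (σh A))]
        exact (πone _).1 h1
      have hAs : ∀ B : Q, π B ^ s = 1 := fun B => by
        rw [← map_pow, πone]; simpa using hexp B
      have hA2 : π A2 = (π A1)⁻¹ * (π A)⁻¹ := by
        rw [mul_assoc] at horb
        rw [eq_inv_of_mul_eq_one_left horb, mul_inv_rev, (Commute.inv_inv (hab A A1)).eq]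
      set B := A1 * A ^ k
      have key : π (σh B) = π B ^ (k + (s - 1)) := by
        simp only [B, map_mul, map_pow]
        rw [(show Commute (π A1) (π A ^ k) from Commute.pow_right (hab A1 A) k).mul_pow, ← pow_mul]
        rw [show σh A1 = A2 from rfl, hA2, show σh A = A1 from rfl]
        have e1 : ∀ (g : Q ⧸ D.subgroupOf Q) (m1 m2 : ℕ), g ^ s = 1 → (m1 : ZMod s) = m2 →
            g ^ m1 = g ^ m2 := fun g m1 m2 hg hm => by
          rw [pow_eq_pow_iff_modEq]
          exact ((ZMod.natCast_eq_natCast_iff _ _ _).1 hm).of_dvd (orderOf_dvd_of_pow_eq_one hg)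
        have e2 : ∀ g : Q ⧸ D.subgroupOf Q, g ^ s = 1 → g⁻¹ = g ^ (s - 1) := fun g hg =>
          inv_eq_of_mul_eq_one_right (by
            rw [← pow_succ', Nat.sub_add_cancel hs.out.one_le, hg])
        rw [e2 _ (hAs A1), e2 _ (hAs A),
          mul_assoc, (show Commute (π A) (π A1) from hab A A1).pow_pow (s - 1) k |>.eq,
          ← mul_assoc, ← pow_add]
        have hcast : ((s - 1 : ℕ) : ZMod s) = -1 := by
          rw [Nat.cast_sub hs.out.one_le, ZMod.natCast_self, zero_sub, Nat.cast_one]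
        congr 1
        · exact e1 _ _ _ (hAs A1) (by rw [Nat.cast_add, Nat.cast_add, add_comm])
        · exact e1 _ _ _ (hAs A) (by
            rw [Nat.cast_mul, Nat.cast_add, hcast, hkl]; linear_combination -hl)
      have : π ((B ^ (k + (s - 1)))⁻¹ * σh B) = 1 := by
        rw [map_mul, map_inv, map_pow, key, inv_mul_cancel]
      exact (πone _).1 this
  -- the pair
  obtain ⟨haQ, hac⟩ := (memC a).1 haC
  set a' := x * a * x⁻¹ with ha'
  obtain ⟨ha'Q, ha'c⟩ := (memC a').1 (hCx a haC)
  set b := a⁻¹ * a' with hb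
  have hbD : b ∉ D := fun h => haD (disp a haQ h)
  have hbQ : b ∈ Q := Q.mul_mem (Q.inv_mem haQ) ha'Q
  have hbc : ∀ d ∈ D, Commute b d := hcomD a haQ
  have hcommD : ∀ u ∈ Q, ∀ v ∈ Q, u * v * u⁻¹ * v⁻¹ ∈ D := by
    intro u hu v hv
    have : π (⟨u, hu⟩ * ⟨v, hv⟩ * ⟨u, hu⟩⁻¹ * ⟨v, hv⟩⁻¹ : Q) = 1 := by
      rw [map_mul, map_mul, map_mul, map_inv, map_inv, hab, mul_inv_cancel_right, mul_inv_cancel]
    exact (πone _).1 this
  -- `b` has order `s`
  have hbs : b ^ s = 1 := by
    set e := a' * a⁻¹ * a'⁻¹ * (a⁻¹)⁻¹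
    have heD : e ∈ D := hcommD _ ha'Q _ (Q.inv_mem haQ)
    have hea : Commute e a⁻¹ := ((hac e heD).symm).inv_right
    have heb : Commute e a' := (ha'c e heD).symm
    have hba : a' * a⁻¹ = e * a⁻¹ * a' := by simp only [e]; group
    have has : a' ^ s = a ^ s := by
      rw [ha', conj_pow]; exact hDx _ (hexp ⟨a, haQ⟩)
    have he1 : e ^ s = 1 := by
      have h1 : SemiconjBy a' a⁻¹ (e * a⁻¹) := hba
      have h2 := (h1.pow_right s).eq
      have h3 : Commute a' (a⁻¹ ^ s) := by
        rw [inv_pow]; exact (ha'c _ (hexp ⟨a, haQ⟩)).inv_right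
      rw [h3.eq, hea.mul_pow] at h2
      exact mul_eq_right.1 (mul_right_cancel h2).symm
    have hch : s ∣ s.choose 2 := hs.out.dvd_choose_self two_ne_zero (by omega)
    obtain ⟨j, hj⟩ := hch
    rw [hb, mul_pow_of_central hba hea heb s, hj, pow_mul, he1, one_pow, one_mul, inv_pow, has,
      inv_mul_cancel]
  -- the two factors of order three
  obtain ⟨A, hA⟩ : ∃ A, A = a⁻¹ * x * a := ⟨_, rfl⟩
  obtain ⟨B, hB⟩ : ∃ B, B = x⁻¹ := ⟨_, rfl⟩
  have hAB : A * B = b := by rw [hA, hB, hb, ha']; group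
  set b'' := B * A with hb''
  have hb''x : b'' = x⁻¹ * b * x := by rw [hb'', ← hAB, hB]; group
  have hb''Q : b'' ∈ Q := by
    have h1 : x⁻¹ * b * x = x * (x * b * x⁻¹) * x⁻¹ := by
      conv_lhs => rw [← cube_conj hx b]
      group
    rw [hb''x, h1]
    exact hinv _ (hinv _ hbQ)
  have hA3 : A ^ 3 = 1 := by
    have h1 := conj_pow (i := 3) (a := a⁻¹) (b := x)
    rw [inv_inv] at h1
    rw [hA, h1, hx, mul_one, inv_mul_cancel]
  have hB3 : B ^ 3 = 1 := by rw [hB, inv_pow, hx, inv_one]
  have hrk := rk_trOp_sub_le ρ h3 hA3 hB3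
  rw [hAB, ← hb''] at hrk
  have hrn := rk_add_nul (trOp ρ b - trOp ρ b'')
  rw [not_good_iff] at hbad
  have hA1 : A ≠ 1 := by
    intro h
    refine notD a haQ haD ?_
    have : x = 1 := by
      have h1 : a * (a⁻¹ * x * a) * a⁻¹ = a * 1 * a⁻¹ := by rw [← hA, h]
      simpa [mul_assoc] using h1
    rw [this]; exact Commute.one_left _
  have hx1 : x ≠ 1 := fun h => hq₀x (h ▸ Commute.one_left _)
  have hfA := hbad A hA1
  have hfB := hbad B (by rw [hB]; simpa using hx1)
  have hb1 : b ≠ 1 := fun h => hbD (h ▸ D.one_mem)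
  set c := b * b'' * b⁻¹ * b''⁻¹ with hc
  have hcD : c ∈ D := hcommD _ hbQ _ hb''Q
  have hcu : Commute b c := hbc c hcD
  have hcv : Commute b'' c := by
    have h1 := hcu.map (MulAut.conj x⁻¹).toMonoidHom
    simp only [MulEquiv.coe_toMonoidHom, MulAut.conj_apply, inv_inv] at h1
    rwa [← hb''x, mul_assoc x⁻¹, ← ((memD c).1 hcD).2.eq, inv_mul_cancel_left] at h1
  by_cases hcomm : Commute b b''
  · have hn1 := nul_trOp_sub_le_of_commute ρ hcomm
    have h1 : b * b''⁻¹ ≠ 1 := by
      intro h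
      have h' : x⁻¹ * b * x = b := by rw [← hb''x]; exact (mul_inv_eq_one.1 h).symm
      refine hbD ((memD b).2 ⟨hbQ, ?_⟩)
      calc x * b = x * (x⁻¹ * b * x) := by rw [h']
        _ = b * x := by group
    have h2 : b * b'' ≠ 1 := by
      intro h
      have h' : x⁻¹ * b * x = b⁻¹ := by rw [← hb''x]; exact eq_inv_of_mul_eq_one_right h
      have h'' : x⁻¹ * (x⁻¹ * b * x) * x = b := by
        rw [h', show x⁻¹ * b⁻¹ * x = (x⁻¹ * b * x)⁻¹ by group, h', inv_inv]
      refine hbD ((memD b).2 ⟨hbQ, ?_⟩)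
      have hxx : x * x = x⁻¹ := (inv_eq_of_mul_eq_one_right (by rw [← pow_two, ← pow_succ', hx])).symm
      calc x * b = (x⁻¹ * x⁻¹) * b := by
            rw [show x⁻¹ * x⁻¹ = x from by rw [← mul_inv_rev, hxx, inv_inv]]
        _ = x⁻¹ * (x⁻¹ * b * x) * x * (x⁻¹ * x⁻¹) := by group
        _ = b * x := by
            rw [h'', show x⁻¹ * x⁻¹ = x from by rw [← mul_inv_rev, hxx, inv_inv]]
    have := hbad _ h1
    have := hbad _ h2
    omega
  · have hc1 : c ≠ 1 := fun h => hcomm (by
      rw [hc, mul_inv_eq_one, mul_inv_eq_iff_eq_mul] at h; exact h)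
    -- no eigenvector
    have hs3 : s % 3 ≠ 1 := by
      intro h
      obtain ⟨k, hk⟩ := heig h
      refine hcomm ?_
      set d := (a ^ k)⁻¹ * a' with hd
      have haCl : a ∈ Subgroup.closure ({a} ∪ (D : Set G)) :=
        Subgroup.subset_closure (Or.inl (Set.mem_singleton a))
      have hbz : b ∈ Subgroup.closure ({a} ∪ (D : Set G)) := by
        rw [hb, show a' = a ^ k * d by rw [hd]; group]
        exact Subgroup.mul_mem _ (Subgroup.inv_mem _ haCl)
          (Subgroup.mul_mem _ (Subgroup.pow_mem _ haCl k)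
            (Subgroup.subset_closure (Or.inr hk)))
      have hclx : ∀ g ∈ Subgroup.closure ({a} ∪ (D : Set G)),
          x * g * x⁻¹ ∈ Subgroup.closure ({a} ∪ (D : Set G)) := by
        intro g hg
        induction hg using Subgroup.closure_induction with
        | mem g hg =>
          rcases hg with rfl | hg
          · rw [← ha', show a' = g ^ k * d by rw [hd]; group]
            exact Subgroup.mul_mem _ (Subgroup.pow_mem _ haCl k)
              (Subgroup.subset_closure (Or.inr hk))
          · rw [hDx g hg]; exact Subgroup.subset_closure (Or.inr hg)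
        | one => simp
        | mul g h _ _ h1 h2 =>
          rw [show x * (g * h) * x⁻¹ = x * g * x⁻¹ * (x * h * x⁻¹) by group]
          exact Subgroup.mul_mem _ h1 h2
        | inv g _ h1 =>
          rw [show x * g⁻¹ * x⁻¹ = (x * g * x⁻¹)⁻¹ by group]
          exact Subgroup.inv_mem _ h1
      have hb''z : b'' ∈ Subgroup.closure ({a} ∪ (D : Set G)) := by
        have := hclx _ (hclx _ hbz)
        rwa [hb''x, show x⁻¹ * b * x = x * (x * b * x⁻¹) * x⁻¹ from by
          conv_lhs => rw [← cube_conj hx b]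
          group]
      -- `b` commutes with `a` and with `D`
      have hab' : Commute b a := by
        rw [hb, show a' = a ^ k * d by rw [hd]; group]
        exact ((Commute.refl a).inv_left).mul_left
          (((Commute.refl a).pow_left k).mul_left (hac d hk).symm)
      have hcl : Subgroup.closure ({a} ∪ (D : Set G)) ≤ Subgroup.centralizer {b} := by
        rw [Subgroup.closure_le]
        rintro g (rfl | hg)
        · exact Subgroup.mem_centralizer_singleton_iff.2 hab'.symm.eq
        · exact Subgroup.mem_centralizer_singleton_iff.2 (hbc g hg).symm.eq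
      exact (Subgroup.mem_centralizer_singleton_iff.1 (hcl hb''z)).symm
    have hvu : b'' * b = c⁻¹ * b * b'' := by rw [hc]; group
    have hcs : c ^ s = 1 := by
      have h1 : SemiconjBy b'' b (c⁻¹ * b) := hvu
      have h2 := (h1.pow_right s).eq
      rw [hbs, mul_one, (hcu.symm.inv_left).mul_pow, hbs, mul_one] at h2
      have := mul_eq_right.1 h2.symm
      rwa [inv_pow, inv_eq_one] at this
    have hfc := hbad c hc1
    rcases eq_or_lt_of_le h5 with h5' | h5'
    · obtain ⟨h, hh1, hh⟩ := exists_of_commute ρ hcu.symm hcs hbs hb1 (fun k hk => by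
        have hkD : b ^ k ∈ D := by
          rw [eq_inv_of_mul_eq_one_right hk]; exact D.inv_mem hcD
        rcases Nat.eq_zero_or_pos (k % s) with h0 | h0
        · rw [pow_eq_pow_mod k hbs, h0, pow_zero, mul_one] at hk
          exact hc1 hk
        · obtain ⟨m, hm⟩ := Nat.exists_mul_mod_eq_one_of_coprime
            ((hs.out.coprime_iff_not_dvd.2 fun hd => by
              have := Nat.le_of_dvd h0 hd
              have := Nat.mod_lt k hs.out.pos
              omega).symm) hs.out.one_lt
          refine hbD ?_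
          rw [← pow_one b, ← hm.2, ← pow_eq_pow_mod _ hbs, pow_mul, ← pow_eq_pow_mod k hbs]
          exact D.pow_mem hkD m)
      have := hbad h hh1
      rw [← h5'] at hh
      omega
    · have hs11 : 11 ≤ s := by
        by_contra hlt
        have : s = 6 ∨ s = 7 ∨ s = 8 ∨ s = 9 ∨ s = 10 := by omega
        rcases this with rfl | rfl | rfl | rfl | rfl
        all_goals first | omega | exact absurd hs.out (by norm_num)
      have hn2 := nul_trOp_sub_le_of_class_two ρ hK hbs hcs hcu hcv hvu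
      have h1 : s * finrank K V ≤
          s * (2 * fx ρ A + 2 * fx ρ B) + s * nul (trOp ρ b - trOp ρ b'') := by
        rw [← mul_add]; exact Nat.mul_le_mul_left s (by omega)
      obtain ⟨t, rfl⟩ : ∃ t, s = t + 2 := ⟨s - 2, by omega⟩
      nlinarith [hfA, hfB, hfc, hs11, h1, hn2]

end Cfsg.Agent.FixedSpace
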