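import Cfsg.Agent.Lib.FixedSpace.Poly

/-!
# Counting weights

The inequalities between weight multiplicities, numbers of raising steps and the fixed space bound
for the polynomials of one degree `k ≤ p - 1`.
-/

set_option autoImplicit false

namespace Cfsg.Agent.FixedSpace

/-- The indices of weight `j`. -/
def wSet (p k : ℕ) (j : ℤ) : Finset ℕ :=
  (Finset.range (k + 1)).filter fun i => ((p : ℤ) - 1) ∣ 2 * (i : ℤ) - k - j

/-- The number of weights `j`. -/
def wCnt (p k : ℕ) (j : ℤ) : ℕ := (wSet p k j).card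

/-- The number of weights `j` that can be raised `l` times. -/
def wRaise (p k l : ℕ) (j : ℤ) : ℕ := ((wSet p k j).filter fun i => i + l ≤ k).card

theorem mem_wSet {p k i : ℕ} {j : ℤ} :
    i ∈ wSet p k j ↔ i ≤ k ∧ ((p : ℤ) - 1) ∣ 2 * (i : ℤ) - k - j := by
  simp [wSet, Nat.lt_succ_iff]

theorem small_dvd {N x : ℤ} (h : N ∣ x) (h1 : -(2 * N) < x) (h2 : x < N) : x = 0 ∨ x = -N := by
  obtain ⟨c, rfl⟩ := h
  have hN : 0 < N := by linarith
  have hc1 : -2 < c := by nlinarith
  have hc2 : c < 1 := by nlinarith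
  obtain rfl | rfl : c = 0 ∨ c = -1 := by omega
  · exact Or.inl (mul_zero N)
  · exact Or.inr (by ring)

theorem wCnt_zero_of_parity {p k : ℕ} {j : ℤ} (hp : Odd p) (hj : Odd ((k : ℤ) + j)) :
    wCnt p k j = 0 := by
  rw [wCnt, Finset.card_eq_zero]
  refine Finset.eq_empty_of_forall_notMem fun i hi => ?_
  obtain ⟨-, c, hc⟩ := mem_wSet.1 hi
  obtain ⟨a, rfl⟩ := hp
  obtain ⟨b, hb⟩ := hj
  push_cast at hc
  rw [show ((2 : ℤ) * a + 1 - 1) * c = 2 * (a * c) by ring] at hc
  omega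

theorem wCnt_three {p k : ℕ} (h7 : 7 ≤ p) (hk : k ≤ p - 1) (hodd : Odd k) :
    wCnt p k 3 ≤ (if 3 ≤ k then 1 else 0) + (if p ≤ k + 4 then 1 else 0) := by
  obtain ⟨a, rfl⟩ := hodd
  have hsub : wSet p (2 * a + 1) 3 ⊆ (if 3 ≤ 2 * a + 1 then {a + 2} else ∅) ∪
      (if p ≤ 2 * a + 1 + 4 then {(2 * a + 1 + 4 - p) / 2} else ∅) := by
    intro i hi
    obtain ⟨hik, hd⟩ := mem_wSet.1 hi
    rcases small_dvd hd (by push_cast; omega) (by push_cast; omega) with h | h
    · refine Finset.mem_union_left _ ?_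
      rw [if_pos (by push_cast at h; omega), Finset.mem_singleton]
      push_cast at h
      omega
    · refine Finset.mem_union_right _ ?_
      rw [if_pos (by push_cast at h; omega), Finset.mem_singleton]
      push_cast at h
      omega
  refine ((Finset.card_le_card hsub).trans (Finset.card_union_le _ _)).trans ?_
  gcongr <;> split_ifs <;> simp

theorem wRaise_pos {p k l i : ℕ} {j : ℤ} (hi : i + l ≤ k)
    (hd : ((p : ℤ) - 1) ∣ 2 * (i : ℤ) - k - j) : 1 ≤ wRaise p k l j :=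
  Finset.card_pos.2 ⟨i, Finset.mem_filter.2 ⟨mem_wSet.2 ⟨by omega, hd⟩, hi⟩⟩

theorem wRaise_le {p k l : ℕ} {j : ℤ} : wRaise p k l j ≤ wCnt p k j :=
  Finset.card_filter_le _ _

theorem wCnt_six_le {p k : ℕ} : wCnt p k 6 ≤ wCnt p k 4 + 1 := by
  have h : ((wSet p k 6).erase 0).card ≤ (wSet p k 4).card := by
    refine Finset.card_le_card_of_injOn (fun i => i - 1) (fun i hi => ?_) (fun i hi j hj h => ?_)
    · obtain ⟨hi0, hi⟩ := Finset.mem_erase.1 hi
      obtain ⟨hik, hd⟩ := mem_wSet.1 hi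
      show i - 1 ∈ wSet p k 4
      refine mem_wSet.2 ⟨by omega, ?_⟩
      rw [Nat.cast_sub (by omega)]
      convert hd using 1
      push_cast
      ring
    · have hi0 := (Finset.mem_erase.1 hi).1
      have hj0 := (Finset.mem_erase.1 hj).1
      simp only at h
      omega
  have := Finset.pred_card_le_card_erase (s := wSet p k 6) (a := 0)
  unfold wCnt
  omega

theorem fixBound_four {k : ℕ} (h : 2 ≤ k) (h' : k ≠ 4) : k + 1 ≤ 4 * fixBound k := by
  unfold fixBound
  split_ifs <;> omega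

theorem fixBound_even {k : ℕ} (h : Even k) (h' : k ≠ 4) : k + 2 ≤ 4 * fixBound k := by
  obtain ⟨a, rfl⟩ := h
  unfold fixBound
  split_ifs <;> omega

theorem fixBound_five {k : ℕ} (h : 2 ≤ k) : k + 1 ≤ 5 * fixBound k := by
  unfold fixBound
  split_ifs <;> omega

theorem two_le_fixBound {k : ℕ} (h : 3 ≤ k) (h' : k ≠ 4) : 2 ≤ fixBound k := by
  unfold fixBound
  split_ifs <;> omega

/-- The odd degrees: one weight `±1` each, and a raising step for each weight `3`. -/
theorem odd_facts {p k : ℕ} (h7 : 7 ≤ p) (hp : Odd p) (hk : k ≤ p - 1) (hodd : Odd k) :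
    1 ≤ wCnt p k 1 ∧ 1 ≤ wCnt p k (-1) ∧ wCnt p k 3 ≤ 2 ∧ (k = 1 → wCnt p k 3 = 0) ∧
      wCnt p k 3 ≤ wRaise p k 1 (-1) + wRaise p k (p - 4) 3 ∧
      1 ≤ wRaise p k 1 (-1) := by
  have h3 := wCnt_three h7 hk hodd
  obtain ⟨a, rfl⟩ := hodd
  obtain ⟨b, rfl⟩ := hp
  have hJ : 1 ≤ wRaise (2 * b + 1) (2 * a + 1) 1 (-1) :=
    wRaise_pos (i := a) (by omega) ⟨0, by push_cast; ring⟩
  refine ⟨Finset.card_pos.2 ⟨a + 1, mem_wSet.2 ⟨by omega, ⟨0, by push_cast; ring⟩⟩⟩,
    le_trans hJ wRaise_le, ?_, fun h => ?_, ?_, hJ⟩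
  · refine h3.trans ?_
    split_ifs <;> omega
  · rw [if_neg (by omega), if_neg (by omega)] at h3
    omega
  · refine h3.trans ?_
    by_cases hc : 2 * b + 1 ≤ 2 * a + 1 + 4
    · have hQ : 1 ≤ wRaise (2 * b + 1) (2 * a + 1) (2 * b + 1 - 4) 3 :=
        wRaise_pos (i := a + 2 - b) (by omega) ⟨-1, by
          rw [Nat.cast_sub (by omega)]
          push_cast
          ring⟩
      split_ifs <;> omega
    · rw [if_neg hc]
      split_ifs <;> omega

/-- The inequality for an element `u` of order `p`, `p ≠ 11`. -/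
theorem factor_one {p k : ℕ} (h7 : 7 ≤ p) (hp : Odd p) (h11 : p ≠ 11) (hk : k ≤ p - 1) :
    k + 1 + 2 * wCnt p k 3 + wCnt p k 6 ≤
      4 * fixBound k + 2 * wRaise p k 1 (-1) + 2 * wRaise p k (p - 4) 3 + wCnt p k 4 := by
  rcases Nat.even_or_odd k with he | ho
  · have h3 : wCnt p k 3 = 0 := wCnt_zero_of_parity hp (by
      obtain ⟨a, rfl⟩ := he; exact ⟨a + 1, by push_cast; ring⟩)
    rw [h3]
    by_cases h4 : k = 4
    · subst h4
      have hfb : fixBound 4 = 1 := rfl
      rw [hfb]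
      suffices h : wCnt p 4 6 + 1 ≤ wCnt p 4 4 by omega
      by_cases h13 : p = 7 ∨ p = 9
      · rcases h13 with rfl | rfl <;> decide
      · have h6 : wCnt p 4 6 = 0 := by
          rw [wCnt, Finset.card_eq_zero]
          refine Finset.eq_empty_of_forall_notMem fun i hi => ?_
          obtain ⟨hik, hd⟩ := mem_wSet.1 hi
          obtain ⟨b, rfl⟩ := hp
          rcases small_dvd hd (by push_cast; omega) (by push_cast; omega) with h | h <;>
            · push_cast at h; omega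
        rw [h6]
        exact Finset.card_pos.2 ⟨4, mem_wSet.2 ⟨le_rfl, ⟨0, by norm_num⟩⟩⟩
    · have h1 := wCnt_six_le (p := p) (k := k)
      have h2 := fixBound_even he h4
      omega
  · obtain ⟨h1, h1', h32, hk1, h3, hJ⟩ := odd_facts h7 hp hk ho
    have h6 : wCnt p k 6 = 0 := wCnt_zero_of_parity hp (by
      obtain ⟨a, rfl⟩ := ho; exact ⟨a + 3, by push_cast; ring⟩)
    rw [h6]
    by_cases hk0 : k = 1
    · have := hk1 hk0
      omega
    · have := fixBound_four (k := k) (by obtain ⟨a, rfl⟩ := ho; omega)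
        (by obtain ⟨a, rfl⟩ := ho; omega)
      omega

/-- The inequality for an element `u` of order `11`. -/
theorem factor_eleven {k : ℕ} (hk : k ≤ 10) :
    k + 1 + 2 * wCnt 11 k 3 + 2 * wCnt 11 k 6 ≤
      4 * fixBound k + 2 * wRaise 11 k 1 (-1) + 2 * wRaise 11 k 7 3 + 2 * wRaise 11 k 4 6 +
        wRaise 11 k 1 6 := by
  interval_cases k <;> decide

/-- The inequality for an element `u` of order at least `p²`. -/
theorem factor_two {p k : ℕ} (h7 : 7 ≤ p) (hp : Odd p) (hk : k ≤ p - 1) :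
    k + 1 + 2 * wCnt p k 3 ≤ 5 * fixBound k + wCnt p k 1 + wCnt p k (-1) := by
  rcases Nat.even_or_odd k with he | ho
  · have h3 : wCnt p k 3 = 0 := wCnt_zero_of_parity hp (by
      obtain ⟨a, rfl⟩ := he; exact ⟨a + 1, by push_cast; ring⟩)
    rw [h3]
    by_cases h0 : k = 0
    · subst h0
      simp [fixBound]
      omega
    · have := fixBound_five (k := k) (by obtain ⟨a, rfl⟩ := he; omega)
      omega
  · obtain ⟨h1, h1', h32, hk1, h3, hJ⟩ := odd_facts h7 hp hk ho
    by_cases hk0 : k = 1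
    · have := hk1 hk0
      omega
    · have hk4 : k ≠ 4 := by obtain ⟨a, rfl⟩ := ho; omega
      have hk3 : 3 ≤ k := by obtain ⟨a, rfl⟩ := ho; omega
      have := fixBound_four (k := k) (by omega) hk4
      have := two_le_fixBound hk3 hk4
      omega

end Cfsg.Agent.FixedSpace
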