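import Cfsg.Agent.Lib.FixedSpace.Linear

/-!
# Sections of representations

Sub and quotient representations, additivity of eigenspace dimensions of elements of order prime to
the characteristic, superadditivity of ranks, and triviality of normal `ℓ`-groups in irreducible
representations in characteristic `ℓ`.
-/

set_option autoImplicit false

namespace Cfsg.Agent.FixedSpace

open Module

universe u v w

variable {G : Type u} [Group G] {K : Type v} [Field K] {V : Type w} [AddCommGroup V] [Module K V]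
  (ρ : Representation K G V) (W : Submodule K V) (hW : ∀ g, ∀ v ∈ W, ρ g v ∈ W)

/-- The subrepresentation on an invariant subspace. -/
noncomputable def subR : Representation K G W where
  toFun g := (ρ g).restrict (hW g)
  map_one' := LinearMap.ext fun x => Subtype.ext (by simp [LinearMap.restrict_apply])
  map_mul' g h := LinearMap.ext fun x => Subtype.ext (by simp [LinearMap.restrict_apply])

/-- The quotient representation by an invariant subspace. -/
noncomputable def quotR : Representation K G (V ⧸ W) where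
  toFun g := W.mapQ W (ρ g) (fun v hv => hW g v hv)
  map_one' := by
    apply LinearMap.ext; intro x
    obtain ⟨v, rfl⟩ := W.mkQ_surjective x
    simp [Submodule.mapQ_apply]
  map_mul' g h := by
    apply LinearMap.ext; intro x
    obtain ⟨v, rfl⟩ := W.mkQ_surjective x
    simp [Submodule.mapQ_apply]

theorem subR_apply (g : G) (x : W) : ((subR ρ W hW g x : W) : V) = ρ g x := rfl

theorem quotR_mk (g : G) (v : V) : quotR ρ W hW g (W.mkQ v) = W.mkQ (ρ g v) := rfl

/-- The eigenspace. -/
noncomputable abbrev eig (h : G) (μ : K) : Submodule K V :=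
  LinearMap.ker (ρ h - μ • (1 : Module.End K V))

theorem mem_eig {h : G} {μ : K} {v : V} : v ∈ eig ρ h μ ↔ ρ h v = μ • v := by
  rw [eig, LinearMap.mem_ker, LinearMap.sub_apply, LinearMap.smul_apply, Module.End.one_apply,
    sub_eq_zero]

theorem eig_one (h : G) : eig ρ h 1 = fixSub ρ h := by rw [eig, fixSub, one_smul]

theorem eig_quot_le_map {h : G} {m : ℕ} (hm : h ^ m = 1) (hK : (m : K) ≠ 0)
    {μ : K} (hμ : μ ^ m = 1) : eig (quotR ρ W hW) h μ ≤ (eig ρ h μ).map W.mkQ := by
  have hm0 : m ≠ 0 := fun h0 => hK (by simp [h0])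
  have hμ0 : μ ≠ 0 := fun h0 => by rw [h0, zero_pow hm0] at hμ; exact zero_ne_one hμ
  intro q hq
  obtain ⟨v, rfl⟩ := W.mkQ_surjective q
  set P : Module.End K V := ∑ i ∈ Finset.range m, (μ⁻¹ • ρ h) ^ i
  have hP : (μ⁻¹ • ρ h - 1) * P = 0 := by
    rw [mul_geom_sum, smul_pow, ← map_pow, hm, map_one, inv_pow, hμ, inv_one, one_smul, sub_self]
  refine ⟨(m : K)⁻¹ • P v, ?_, ?_⟩
  · refine Submodule.smul_mem _ _ ((mem_eig ρ).2 ?_)
    have h1 := congrArg (fun e : Module.End K V => e v) hP
    simp only [Module.End.mul_apply, LinearMap.sub_apply, LinearMap.smul_apply,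
      Module.End.one_apply, LinearMap.zero_apply, sub_eq_zero] at h1
    rw [inv_smul_eq_iff₀ hμ0] at h1
    exact h1
  · have hfix : ∀ i : ℕ, W.mkQ (((μ⁻¹ • ρ h) ^ i) v) = W.mkQ v := by
      intro i
      induction i with
      | zero => simp
      | succ i ih =>
        rw [pow_succ', Module.End.mul_apply, LinearMap.smul_apply, map_smul,
          ← quotR_mk ρ W hW, ih, (mem_eig _).1 hq, inv_smul_smul₀ hμ0]
    rw [map_smul, LinearMap.sum_apply, map_sum, Finset.sum_congr rfl (fun i _ => hfix i),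
      Finset.sum_const, Finset.card_range, ← Nat.cast_smul_eq_nsmul K, inv_smul_smul₀ hK]

theorem finrank_eig_add [FiniteDimensional K V] {h : G} {m : ℕ} (hm : h ^ m = 1) (hK : (m : K) ≠ 0)
    {μ : K} (hμ : μ ^ m = 1) :
    finrank K (eig ρ h μ) =
      finrank K (eig (subR ρ W hW) h μ) + finrank K (eig (quotR ρ W hW) h μ) := by
  have hm0 : m ≠ 0 := fun h0 => hK (by simp [h0])
  have hμ0 : μ ≠ 0 := fun h0 => by rw [h0, zero_pow hm0] at hμ; exact zero_ne_one hμ
  let f : eig ρ h μ →ₗ[K] eig (quotR ρ W hW) h μ :=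
    (W.mkQ ∘ₗ (eig ρ h μ).subtype).codRestrict _ fun v => by
      rw [mem_eig, LinearMap.comp_apply, Submodule.subtype_apply, quotR_mk, (mem_eig ρ).1 v.2,
        map_smul]
  have hsurj : LinearMap.range f = ⊤ := by
    rw [LinearMap.range_eq_top]
    rintro ⟨q, hq⟩
    obtain ⟨v, hv, hvq⟩ := eig_quot_le_map ρ W hW hm hK hμ hq
    exact ⟨⟨v, hv⟩, Subtype.ext hvq⟩
  let g : eig (subR ρ W hW) h μ →ₗ[K] LinearMap.ker f :=
    LinearMap.codRestrict _ ((W.subtype ∘ₗ (eig (subR ρ W hW) h μ).subtype).codRestrict _ fun x => by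
      rw [mem_eig]; exact congrArg Subtype.val ((mem_eig _).1 x.2)) fun x => by
      rw [LinearMap.mem_ker]
      exact Subtype.ext ((Submodule.Quotient.mk_eq_zero W).2 x.1.2)
  have hg : Function.Bijective g := by
    refine ⟨fun x y hxy => Subtype.ext (Subtype.ext (congrArg (fun z => z.1.1) hxy)), fun x => ?_⟩
    have hx : (x.1 : V) ∈ W :=
      (Submodule.Quotient.mk_eq_zero W).1 (congrArg Subtype.val (LinearMap.mem_ker.1 x.2))
    exact ⟨⟨⟨x.1, hx⟩, (mem_eig _).2 (Subtype.ext ((mem_eig ρ).1 x.1.2))⟩, rfl⟩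
  have h1 := LinearMap.finrank_range_add_finrank_ker f
  rw [hsurj, finrank_top, ← (LinearEquiv.ofBijective g hg).finrank_eq] at h1
  omega

theorem fx_add [FiniteDimensional K V] {h : G} {m : ℕ} (hm : h ^ m = 1) (hK : (m : K) ≠ 0) :
    fx ρ h = fx (subR ρ W hW) h + fx (quotR ρ W hW) h := by
  have := finrank_eig_add ρ W hW hm hK (one_pow m)
  rwa [eig_one, eig_one, eig_one] at this

/-- The rank of the restriction of an endomorphism to a subspace. -/
noncomputable abbrev rkOn (f : Module.End K V) (E : Submodule K V) : ℕ := finrank K (E.map f)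

theorem rkOn_superadd [FiniteDimensional K V] (f : Module.End K V) (hf : ∀ v ∈ W, f v ∈ W)
    (E : Submodule K V) (E₁ : Submodule K W) (E₂ : Submodule K (V ⧸ W))
    (h₁ : E₁.map W.subtype ≤ E) (h₂ : E₂ ≤ E.map W.mkQ) :
    rkOn (f.restrict hf) E₁ + rkOn (W.mapQ W f hf) E₂ ≤ rkOn f E := by
  let g : E.map f →ₗ[K] V ⧸ W := W.mkQ ∘ₗ (E.map f).subtype
  have h := LinearMap.finrank_range_add_finrank_ker g
  have hr : finrank K (E₂.map (W.mapQ W f hf)) ≤ finrank K (LinearMap.range g) := by
    refine Submodule.finrank_mono ?_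
    rintro x ⟨q, hq, rfl⟩
    obtain ⟨v, hv, rfl⟩ := h₂ hq
    exact ⟨⟨f v, v, hv, rfl⟩, rfl⟩
  have hk : finrank K (E₁.map (f.restrict hf)) ≤ finrank K (LinearMap.ker g) := by
    let φ : E₁.map (f.restrict hf) →ₗ[K] LinearMap.ker g :=
      LinearMap.codRestrict _
        ((W.subtype ∘ₗ (E₁.map (f.restrict hf)).subtype).codRestrict _ fun x => by
          obtain ⟨y, hy, hyx⟩ := x.2
          exact ⟨y, h₁ ⟨y, hy, rfl⟩, congrArg Subtype.val hyx⟩)
        fun x => by
          rw [LinearMap.mem_ker]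
          exact (Submodule.Quotient.mk_eq_zero W).2 x.1.2
    exact LinearMap.finrank_le_finrank_of_injective (f := φ) fun x y hxy =>
      Subtype.ext (Subtype.ext (congrArg (fun z => z.1.1) hxy))
  unfold rkOn
  omega

variable {ρ}

/-- Irreducibility. -/
def Irred (ρ : Representation K G V) : Prop :=
  ∀ U : Submodule K V, (∀ g, ∀ v ∈ U, ρ g v ∈ U) → U = ⊥ ∨ U = ⊤

/-- A normal `ℓ`-subgroup acts trivially in an irreducible representation in characteristic `ℓ`. -/
theorem apply_eq_of_normal_pGroup {ℓ : ℕ} [hl : Fact ℓ.Prime] (hK : (ℓ : K) = 0)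
    (hirr : Irred ρ) (N : Subgroup G) [hN : N.Normal] [Finite N] (hNp : IsPGroup ℓ N) (n : G)
    (hn : n ∈ N) (v : V) : ρ n v = v := by
  classical
  by_cases hV : Nontrivial V
  swap
  · rw [not_nontrivial_iff_subsingleton] at hV
    exact Subsingleton.elim _ _
  let U : Submodule K V := ⨅ n ∈ N, fixSub ρ n
  have hmem : ∀ v, v ∈ U ↔ ∀ n ∈ N, ρ n v = v := fun v => by simp [U, sub_eq_zero]
  have hU : U ≠ ⊥ := by
    obtain ⟨v₀, hv₀⟩ := exists_ne (0 : V)
    let M : AddSubgroup V := AddSubgroup.closure (Set.range fun n : N => ρ n v₀)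
    have hMinv : ∀ (n : N), ∀ x ∈ M, ρ n x ∈ M := by
      intro n x hx
      induction hx using AddSubgroup.closure_induction with
      | mem x hx =>
        obtain ⟨m, rfl⟩ := hx
        exact AddSubgroup.subset_closure ⟨n * m, by simp [Module.End.mul_apply]⟩
      | zero => simp
      | add x y _ _ hx hy => simpa using M.add_mem hx hy
      | neg x _ hx => simpa using M.neg_mem hx
    let _ : MulAction N M :=
      { smul := fun n x => ⟨ρ n x, hMinv n x x.2⟩
        one_smul := fun x => Subtype.ext (show ρ ((1 : N) : G) (x : V) = x by simp)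
        mul_smul := fun a b x => Subtype.ext (show ρ ((a * b : N) : G) (x : V) = ρ a (ρ b x) by
          rw [Subgroup.coe_mul, map_mul, Module.End.mul_apply]) }
    have hl0 : ∀ x : V, ℓ • x = 0 := fun x => by rw [← Nat.cast_smul_eq_nsmul K, hK, zero_smul]
    have : AddGroup.FG M := by
      rw [AddGroup.fg_iff_addSubgroup_fg]
      exact ⟨(Set.finite_range fun n : N => ρ n v₀).toFinset, by simp [M]⟩
    have : Finite M := AddCommGroup.finite_of_fg_torsion _ fun x =>
      isOfFinAddOrder_iff_nsmul_eq_zero.2 ⟨ℓ, hl.out.pos, Subtype.ext (hl0 _)⟩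
    have hcard : ℓ ∣ Nat.card M := by
      have hv : (⟨v₀, AddSubgroup.subset_closure ⟨1, by simp⟩⟩ : M) ≠ 0 :=
        fun h => hv₀ (congrArg Subtype.val h)
      have h1 := addOrderOf_dvd_natCard (⟨v₀, AddSubgroup.subset_closure ⟨1, by simp⟩⟩ : M)
      rwa [addOrderOf_eq_prime (Subtype.ext (hl0 _)) hv] at h1
    obtain ⟨b, hb, hb0⟩ := hNp.exists_fixed_point_of_prime_dvd_card_of_fixed_point M hcard
      (a := (0 : M)) (fun n => Subtype.ext (show ρ n ((0 : M) : V) = _ by simp))
    rw [Submodule.ne_bot_iff]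
    refine ⟨b, (hmem _).2 fun n hn => congrArg Subtype.val (hb ⟨n, hn⟩), fun h => hb0 ?_⟩
    exact (Subtype.ext h).symm
  have hinv : ∀ g, ∀ v ∈ U, ρ g v ∈ U := by
    intro g v hv
    rw [hmem] at hv ⊢
    intro n hn
    have := hv (g⁻¹ * n * g) (by simpa using hN.conj_mem n hn g⁻¹)
    calc ρ n (ρ g v) = ρ g (ρ (g⁻¹ * n * g) v) := by
          rw [← Module.End.mul_apply, ← Module.End.mul_apply, ← map_mul, ← map_mul]
          congr 2
          group
      _ = _ := by rw [this]
  exact (hmem v).1 ((hirr U hinv).resolve_left hU ▸ Submodule.mem_top) n hn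

end Cfsg.Agent.FixedSpace
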