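import Cfsg.Agent.Lib.FixedSpace.Edge
import Cfsg.Agent.Lib.FixedSpace.Sections

/-!
# The six fixed spaces in an extension of `SL(2,p)` by an `ℓ`-group
-/

set_option autoImplicit false

namespace Cfsg.Agent.FixedSpace

open Module Matrix
open scoped MatrixGroups

universe u v w

variable {p : ℕ} [hp : Fact p.Prime] {L : Type u} [Group L] [Finite L]
  {K : Type v} [Field K]

theorem finrank_le_lift_sum (h7 : 7 ≤ p) (h2 : (2 : K) ≠ 0) (h3 : (3 : K) ≠ 0) (hpK : (p : K) ≠ 0)
    (f : L →* SL(2, ZMod p)) (hf : Function.Surjective f)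
    (hker : f.ker = ⊥ ∨ ∃ ℓ : ℕ, Fact ℓ.Prime ∧ (ℓ : K) = 0 ∧ IsPGroup ℓ f.ker)
    (l : Fin 3 × Bool → L) (hl3 : ∀ e, l e ^ 3 = 1) (hlf : ∀ e, f (l e) = edgeElt h7 e) :
    ∀ (n : ℕ) {V : Type w} [AddCommGroup V] [Module K V] [FiniteDimensional K V]
      (ρ : Representation K L V), finrank K V = n → n ≤ ∑ e, fx ρ (l e) := by
  intro n
  induction n using Nat.strong_induction_on with
  | _ n IH =>
    intro V _ _ _ ρ hn
    by_cases hirr : Irred ρ
    · have htriv : ∀ a ∈ f.ker, ρ a = 1 := by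
        intro a ha
        rcases hker with h | ⟨ℓ, hℓ, hℓK, hℓN⟩
        · rw [h, Subgroup.mem_bot] at ha
          rw [ha, map_one]
        · exact LinearMap.ext fun v => apply_eq_of_normal_pGroup hℓK hirr f.ker hℓN a ha v
      obtain ⟨s, hs⟩ := hf.hasRightInverse
      have hwd : ∀ a b : L, f a = f b → ρ a = ρ b := fun a b h => by
        have h1 := htriv (b⁻¹ * a) (by rw [MonoidHom.mem_ker, map_mul, map_inv, h, inv_mul_cancel])
        rw [show a = b * (b⁻¹ * a) by rw [mul_inv_cancel_left], map_mul, h1, mul_one]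
      let σ : Representation K SL(2, ZMod p) V :=
        { toFun := fun g => ρ (s g)
          map_one' := (hwd _ 1 (by rw [hs, map_one])).trans (map_one ρ)
          map_mul' := fun a b => (hwd _ (s a * s b) (by rw [map_mul, hs, hs, hs])).trans
            (map_mul ρ _ _) }
      have hσ : ∀ a, σ (f a) = ρ a := fun a => hwd _ _ (hs (f a))
      rw [← hn]
      refine (finrank_le_edge_sum σ h7 h2 h3 hpK).trans (le_of_eq ?_)
      refine Finset.sum_congr rfl fun e _ => ?_
      have : fixSub σ (edgeElt h7 e) = fixSub ρ (l e) := by rw [fixSub, fixSub, ← hlf, hσ]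
      rw [fx, fx, this]
    · unfold Irred at hirr
      push Not at hirr
      obtain ⟨U, hU, hU0, hU1⟩ := hirr
      have h1 := Submodule.finrank_quotient_add_finrank U
      have h4 : 0 < finrank K U := Nat.pos_of_ne_zero fun h =>
        hU0 (Submodule.finrank_eq_zero.1 h)
      have h5 : 0 < finrank K (V ⧸ U) := by
        have := Submodule.finrank_lt hU1
        omega
      have hA := IH (finrank K U) (by omega) (subR ρ U hU) rfl
      have hB := IH (finrank K (V ⧸ U)) (by omega) (quotR ρ U hU) rfl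
      have h3' : ((3 : ℕ) : K) ≠ 0 := by exact_mod_cast h3
      rw [Finset.sum_congr rfl (fun e _ => fx_add ρ U hU (hl3 e) h3'), Finset.sum_add_distrib]
      omega

/-- In characteristic other than `2`, `3`, `p`. -/
theorem good_of_ne_char (h7 : 7 ≤ p) (h2 : (2 : K) ≠ 0) (h3 : (3 : K) ≠ 0) (hpK : (p : K) ≠ 0)
    (f : L →* SL(2, ZMod p)) (hf : Function.Surjective f)
    (hker : f.ker = ⊥ ∨ ∃ ℓ : ℕ, Fact ℓ.Prime ∧ (ℓ : K) = 0 ∧ IsPGroup ℓ f.ker)
    {V : Type w} [AddCommGroup V] [Module K V] [FiniteDimensional K V]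
    (ρ : Representation K L V) : Good ρ := by
  classical
  have hk3 : ¬ 3 ∣ Nat.card f.ker := by
    rcases hker with h | ⟨ℓ, hℓ, hℓK, hℓN⟩
    · rw [h, Subgroup.card_bot]; norm_num
    · obtain ⟨k, hk⟩ := hℓN.exists_card_eq
      rw [hk]
      intro h
      have h' := Nat.prime_three.dvd_of_dvd_pow h
      rw [Nat.prime_dvd_prime_iff_eq Nat.prime_three hℓ.out] at h'
      exact h3 (by rw [← h'] at hℓK; exact_mod_cast hℓK)
  have hlift : ∀ e, ∃ a : L, a ^ 3 = 1 ∧ f a = edgeElt h7 e := by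
    intro e
    obtain ⟨b, hb⟩ := hf (edgeElt h7 e)
    have hb3 : b ^ 3 ∈ f.ker := by rw [MonoidHom.mem_ker, map_pow, hb, edgeElt_cube]
    set N := Nat.card f.ker
    have hN : (b ^ 3) ^ N = 1 := by
      have := pow_card_eq_one' (x := (⟨b ^ 3, hb3⟩ : f.ker))
      exact congrArg Subtype.val this
    obtain ⟨k, hk⟩ := Nat.exists_mul_mod_eq_one_of_coprime
      ((Nat.prime_three.coprime_iff_not_dvd.2 hk3).symm) (by norm_num : 1 < 3)
    refine ⟨b ^ (N * k), ?_, ?_⟩
    · rw [← pow_mul, show N * k * 3 = 3 * N * k by ring, pow_mul, pow_mul, hN, one_pow]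
    · rw [map_pow, hb, pow_eq_pow_mod _ (edgeElt_cube h7 e), hk.2, pow_one]
  choose l hl3 hlf using hlift
  have h := finrank_le_lift_sum h7 h2 h3 hpK f hf hker l hl3 hlf _ ρ rfl
  by_contra hbad
  rw [not_good_iff] at hbad
  have h1 : ∑ e, 6 * fx ρ (l e) < ∑ _e : Fin 3 × Bool, finrank K V :=
    Finset.sum_lt_sum_of_nonempty Finset.univ_nonempty fun e _ =>
      hbad _ fun h => edgeElt_ne_one h7 e (by rw [← hlf, h, map_one])
  rw [← Finset.mul_sum, Finset.sum_const, Finset.card_univ, Fintype.card_prod, Fintype.card_fin,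
    Fintype.card_bool, smul_eq_mul] at h1
  omega

end Cfsg.Agent.FixedSpace
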