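import Cfsg.Agent.Lib.FixedSpace.Linear

/-!
# Six elements of order three in `SL(2,p)`

In every representation of `SL(2,p)`, `p ≥ 7`, over a field of characteristic other than `2`, `3`
and `p`, six fixed elements of order three have fixed spaces spanning the whole space. They come
from the three edges of a path in the Farey graph modulo `p` from `∞` to `2·∞`.
-/

set_option autoImplicit false

namespace Cfsg.Agent.FixedSpace

open Module Matrix
open scoped MatrixGroups

universe v w

variable {p : ℕ} [hp : Fact p.Prime]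

/-- The unipotent element. -/
def cc (p : ℕ) : SL(2, ZMod p) := ⟨!![1, 1; 0, 1], by simp [Matrix.det_fin_two]⟩

/-- The element of order four. -/
def jj (p : ℕ) : SL(2, ZMod p) := ⟨!![0, -1; 1, 0], by simp [Matrix.det_fin_two]⟩

/-- The central involution. -/
def zz (p : ℕ) : SL(2, ZMod p) := ⟨!![-1, 0; 0, -1], by simp [Matrix.det_fin_two]⟩

theorem coe_cc : (cc p : Matrix (Fin 2) (Fin 2) (ZMod p)) = !![1, 1; 0, 1] := rfl

theorem coe_jj : (jj p : Matrix (Fin 2) (Fin 2) (ZMod p)) = !![0, -1; 1, 0] := rfl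

theorem coe_zz : (zz p : Matrix (Fin 2) (Fin 2) (ZMod p)) = !![-1, 0; 0, -1] := rfl

/-- `1 / 2` -/
def half (p : ℕ) : ZMod p := ((p + 1) / 2 : ℕ)

theorem two_mul_half (h7 : 7 ≤ p) : 2 * half p = 1 := by
  have hodd : Odd p := hp.out.odd_of_ne_two (by omega)
  obtain ⟨k, hk⟩ := hodd
  rw [half, show (p + 1) / 2 = k + 1 by omega, show (2 : ZMod p) = ((2 : ℕ) : ZMod p) by norm_num,
    ← Nat.cast_mul, show 2 * (k + 1) = p + 1 by omega, Nat.cast_add, ZMod.natCast_self,
    Nat.cast_one, zero_add]

/-- Frames for the three edges, and a fourth one at the end. -/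
def frame (h7 : 7 ≤ p) : Fin 4 → SL(2, ZMod p) :=
  ![1, ⟨!![0, -1; 1, -half p], by simp [Matrix.det_fin_two]⟩,
    ⟨!![-1, 2; -half p, 0], by simp [Matrix.det_fin_two, two_mul_half h7]⟩,
    ⟨!![2, 1; 0, half p], by simp [Matrix.det_fin_two, two_mul_half h7]⟩]

/-- The six elements of order three. -/
def edgeElt (h7 : 7 ≤ p) (e : Fin 3 × Bool) : SL(2, ZMod p) :=
  let g := frame h7 e.1.castSucc
  bif e.2 then g * (jj p * (cc p * (jj p)⁻¹) * (jj p)⁻¹) * g⁻¹ else g * (cc p * (jj p)⁻¹) * g⁻¹

theorem coe_frame (h7 : 7 ≤ p) (j : Fin 4) : (frame h7 j : Matrix (Fin 2) (Fin 2) (ZMod p)) =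
    ![1, !![0, -1; 1, -half p], !![-1, 2; -half p, 0], !![2, 1; 0, half p]] j := by
  fin_cases j <;> rfl

theorem zz_comm (g : SL(2, ZMod p)) : Commute (zz p) g := by
  apply Subtype.ext
  ext i j
  fin_cases i <;> fin_cases j <;> simp [coe_zz, Matrix.mul_apply, Fin.sum_univ_two]

theorem zz_sq : zz p * zz p = 1 := by
  apply Subtype.ext
  ext i j
  fin_cases i <;> fin_cases j <;> simp [coe_zz]

theorem jj_sq : jj p * jj p = zz p := by
  apply Subtype.ext
  ext i j
  fin_cases i <;> fin_cases j <;> simp [coe_jj, coe_zz]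

theorem jj_inv : (jj p)⁻¹ = zz p * jj p := by
  rw [inv_eq_iff_mul_eq_one, ← mul_assoc]
  apply Subtype.ext
  ext i j
  fin_cases i <;> fin_cases j <;> simp [coe_jj, coe_zz]

theorem zz_inv : (zz p)⁻¹ = zz p := inv_eq_of_mul_eq_one_right zz_sq

theorem cc_pow (n : ℕ) : ((cc p ^ n : SL(2, ZMod p)) : Matrix (Fin 2) (Fin 2) (ZMod p)) =
    !![1, (n : ZMod p); 0, 1] := by
  induction n with
  | zero => ext i j; fin_cases i <;> fin_cases j <;> simp
  | succ n ih =>
    rw [pow_succ]
    ext i j
    fin_cases i <;> fin_cases j <;> simp [ih, coe_cc, Matrix.mul_apply, Fin.sum_univ_two, add_comm]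

theorem cc_pow_p : cc p ^ p = 1 := by
  apply Subtype.ext
  rw [cc_pow, ZMod.natCast_self]
  ext i j
  fin_cases i <;> fin_cases j <;> simp

theorem ord_three : (cc p * (jj p)⁻¹) ^ 3 = 1 := by
  apply Subtype.ext
  rw [jj_inv, pow_succ, pow_two]
  ext i j
  fin_cases i <;> fin_cases j <;> simp [coe_cc, coe_jj, coe_zz, Matrix.mul_apply, Fin.sum_univ_two]

theorem ord_three_ne (h7 : 7 ≤ p) : cc p * (jj p)⁻¹ ≠ 1 := by
  haveI : Fact (1 < p) := ⟨by omega⟩
  intro h
  have := congrArg (fun m : SL(2, ZMod p) => (m : Matrix (Fin 2) (Fin 2) (ZMod p)) 1 1) h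
  simp [jj_inv, coe_cc, coe_jj, coe_zz, Matrix.mul_apply, Fin.sum_univ_two] at this

theorem edgeElt_cube (h7 : 7 ≤ p) (e : Fin 3 × Bool) : edgeElt h7 e ^ 3 = 1 := by
  unfold edgeElt
  cases e.2 <;> simp [conj_pow, ord_three]

theorem edgeElt_ne_one (h7 : 7 ≤ p) (e : Fin 3 × Bool) : edgeElt h7 e ≠ 1 := by
  unfold edgeElt
  cases e.2 <;> simp [conj_eq_one_iff, ord_three_ne h7]

/-- The unipotent subgroup. -/
def uu (m : ZMod p) : SL(2, ZMod p) := ⟨!![1, m; 0, 1], by simp [Matrix.det_fin_two]⟩

theorem coe_uu (m : ZMod p) : (uu m : Matrix (Fin 2) (Fin 2) (ZMod p)) = !![1, m; 0, 1] := rfl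

theorem frame_step (h7 : 7 ≤ p) (j : Fin 3) :
    frame h7 j.succ * cc p * (frame h7 j.succ)⁻¹ =
      frame h7 j.castSucc * jj p * cc p * (frame h7 j.castSucc * jj p)⁻¹ := by
  have h2 := two_mul_half h7
  obtain ⟨U, hUc, hU⟩ : ∃ U : SL(2, ZMod p), Commute U (cc p) ∧
      frame h7 j.succ = frame h7 j.castSucc * jj p * U := by
    have hcomm : ∀ m : ZMod p, Commute (uu m) (cc p) := fun m => by
      apply Subtype.ext
      ext i k
      fin_cases i <;> fin_cases k <;>
        simp [coe_cc, coe_uu, Matrix.mul_apply, Fin.sum_univ_two, add_comm]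
    refine ⟨_, hcomm (![-half p, -2, 0] j), ?_⟩
    apply Subtype.ext
    ext i k
    fin_cases j <;> fin_cases i <;> fin_cases k <;>
      simp [coe_frame, coe_jj, coe_uu, Matrix.mul_apply, Fin.sum_univ_two] <;> linear_combination -h2
  rw [hU, mul_assoc _ U, hUc.eq]
  group

theorem frame_last (h7 : 7 ≤ p) : frame h7 3 * cc p * (frame h7 3)⁻¹ = cc p ^ 4 := by
  have h2 := two_mul_half h7
  have h4 := cc_pow (p := p) 4
  simp only [Matrix.SpecialLinearGroup.coe_pow, coe_cc] at h4
  rw [mul_inv_eq_iff_eq_mul]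
  apply Subtype.ext
  ext i k
  fin_cases i <;> fin_cases k <;>
    simp [h4, coe_frame, coe_cc, Matrix.mul_apply, Fin.sum_univ_two] <;> linear_combination (-2) * h2

variable {K : Type v} [Field K] {V : Type w} [AddCommGroup V] [Module K V]
  (σ : Representation K SL(2, ZMod p) V)

/-- `σ g - σ z σ g⁻¹`. -/
noncomputable def theta (g : SL(2, ZMod p)) : Module.End K V := σ g - σ (zz p) * σ g⁻¹

theorem range_theta_sub_le (h3 : (3 : K) ≠ 0) {x i : SL(2, ZMod p)} (hx : x ^ 3 = 1)
    (hi : i * i = zz p) :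
    LinearMap.range (theta σ (i * x) - theta σ (x * i)) ≤
      fixSub σ x ⊔ fixSub σ (i * x * i⁻¹) := by
  have hi' : i⁻¹ = zz p * i := by
    rw [inv_eq_iff_mul_eq_one, (zz_comm i).eq, ← mul_assoc, hi, zz_sq]
  have hZZ : σ (zz p) * σ (zz p) = 1 := by rw [← map_mul, zz_sq, map_one]
  have key : theta σ (i * x) - theta σ (x * i) = σ i * norm σ x 3 - norm σ x 3 * σ i := by
    have h1 : (i * x)⁻¹ = zz p * (x⁻¹ * i) := by
      rw [_root_.mul_inv_rev, hi', ← mul_assoc, ← (zz_comm x⁻¹).eq, mul_assoc]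
    have h2 : (x * i)⁻¹ = zz p * (i * x⁻¹) := by rw [_root_.mul_inv_rev, hi', mul_assoc]
    simp only [theta, h1, h2, map_mul, ← mul_assoc, hZZ, one_mul, inv_eq_norm_three σ hx]
    noncomm_ring
  rw [key]
  rintro v ⟨u, rfl⟩
  rw [LinearMap.sub_apply]
  have hP : ∀ u, norm σ x 3 u ∈ fixSub σ x := fun u => norm_range_le σ hx ⟨u, rfl⟩
  refine sub_mem (Submodule.mem_sup_right ?_) (Submodule.mem_sup_left (hP _))
  rw [mem_fixSub, Module.End.mul_apply, map_mul, map_mul, Module.End.mul_apply,
    Module.End.mul_apply, ← Module.End.mul_apply (σ i⁻¹) (σ i), ← map_mul, inv_mul_cancel, map_one,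
    Module.End.one_apply, (mem_fixSub σ).1 (hP u)]

/-- The six fixed spaces span. -/
theorem edge_span (h7 : 7 ≤ p) (h2 : (2 : K) ≠ 0) (h3 : (3 : K) ≠ 0) (hK : (p : K) ≠ 0) :
    ⨆ e : Fin 3 × Bool, fixSub σ (edgeElt h7 e) = ⊤ := by
  classical
  set S := ⨆ e : Fin 3 × Bool, fixSub σ (edgeElt h7 e) with hS
  have hle : ∀ e, fixSub σ (edgeElt h7 e) ≤ S := fun e =>
    le_iSup (fun e => fixSub σ (edgeElt h7 e)) e
  -- the steps
  set W : Fin 4 → SL(2, ZMod p) := fun j => frame h7 j * cc p * (frame h7 j)⁻¹ with hW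
  have hstep : ∀ j : Fin 3,
      LinearMap.range (theta σ (W j.succ) - theta σ (W j.castSucc)) ≤ S := by
    intro j
    set g := frame h7 j.castSucc with hg
    have e1 : W j.castSucc = g * (cc p * (jj p)⁻¹) * g⁻¹ * (g * jj p * g⁻¹) := by
      simp only [hW, ← hg]; group
    have e2 : W j.succ = g * jj p * g⁻¹ * (g * (cc p * (jj p)⁻¹) * g⁻¹) := by
      simp only [hW, frame_step, ← hg]; group
    rw [e1, e2]
    refine (range_theta_sub_le σ h3 (by rw [conj_pow, ord_three, mul_one, mul_inv_cancel]) ?_).trans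
      (sup_le (hle (j, false)) ?_)
    · rw [show g * jj p * g⁻¹ * (g * jj p * g⁻¹) = g * (jj p * jj p) * g⁻¹ by group, jj_sq,
        ← (zz_comm g).eq, mul_inv_cancel_right]
    · convert hle (j, true) using 2
      simp only [edgeElt, ← hg, cond_true]
      group
  set c := cc p with hc
  set Z := σ (zz p) with hZ
  have hD : LinearMap.range (theta σ (c ^ 4) - theta σ c) ≤ S := by
    have h4 : W 3 = c ^ 4 := frame_last h7
    have h0 : W 0 = c := by simp [hW, frame, hc]
    rw [← h4, ← h0, show theta σ (W 3) - theta σ (W 0) = (theta σ (W (Fin.succ 2)) -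
      theta σ (W (Fin.castSucc 2))) + (theta σ (W (Fin.succ 1)) - theta σ (W (Fin.castSucc 1))) +
      (theta σ (W (Fin.succ 0)) - theta σ (W (Fin.castSucc 0))) by
        simp only [Fin.succ_zero_eq_one, Fin.castSucc_zero,
          show Fin.succ (2 : Fin 3) = 3 from rfl, show Fin.castSucc (2 : Fin 3) = 2 from rfl,
          show Fin.succ (1 : Fin 3) = 2 from rfl, show Fin.castSucc (1 : Fin 3) = 1 from rfl]
        abel]
    rintro v ⟨u, rfl⟩
    exact add_mem (add_mem (hstep 2 ⟨u, rfl⟩) (hstep 1 ⟨u, rfl⟩)) (hstep 0 ⟨u, rfl⟩)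
  -- the moved part of `c` lies in `S`
  set N := norm σ c p with hN
  set q : Module.End K V := (p : Module.End K V) - N with hq
  have hcp : c ^ p = 1 := cc_pow_p
  have hgen : ∀ m : ℕ, ¬ p ∣ m → norm σ (c ^ m) p = N := by
    intro m hm
    simp only [hN, norm]
    refine Finset.sum_bij (fun i _ => m * i % p) (fun i _ => Finset.mem_range.2
      (Nat.mod_lt _ hp.out.pos)) (fun a ha b hb h => ?_) (fun b hb => ?_) (fun i _ => ?_)
    · exact Nat.ModEq.eq_of_lt_of_lt (Nat.ModEq.cancel_left_of_coprime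
        ((hp.out.coprime_iff_not_dvd.2 hm)) h) (Finset.mem_range.1 ha) (Finset.mem_range.1 hb)
    · obtain ⟨k, hk⟩ := Nat.exists_mul_mod_eq_one_of_coprime
        ((hp.out.coprime_iff_not_dvd.2 hm).symm) hp.out.one_lt
      refine ⟨k * b % p, Finset.mem_range.2 (Nat.mod_lt _ hp.out.pos), ?_⟩
      rw [Nat.mul_mod, Nat.mod_mod, ← Nat.mul_mod, ← mul_assoc, Nat.mul_mod, hk.2, one_mul,
        Nat.mod_mod, Nat.mod_eq_of_lt (Finset.mem_range.1 hb)]
    · rw [map_pow, ← pow_mul]
      exact pow_eq_pow_mod _ (by rw [← map_pow, hcp, map_one])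
  -- inverse of `g - 1` on the moved part
  set A : ℕ → Module.End K V := fun m => ∑ j ∈ Finset.range p, (j : Module.End K V) * σ (c ^ m) ^ j
    with hA
  have hAq : ∀ m : ℕ, ¬ p ∣ m → (σ (c ^ m) - 1) * A m = q := by
    intro m hm
    set G := σ (c ^ m) with hG
    have hGp : G ^ p = 1 := by rw [hG, ← map_pow, ← pow_mul, mul_comm, pow_mul, hcp, one_pow, map_one]
    have h : ∀ k : ℕ, (G - 1) * ∑ j ∈ Finset.range k, (j : Module.End K V) * G ^ j =
        (k : Module.End K V) * G ^ k - ∑ j ∈ Finset.range k, G ^ (j + 1) := by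
      intro k
      induction k with
      | zero => simp
      | succ k ih =>
        rw [Finset.sum_range_succ, mul_add, ih, Finset.sum_range_succ, ← mul_assoc,
          ← (Nat.cast_commute k (G - 1)).eq, mul_assoc, sub_mul, one_mul, ← pow_succ',
          Nat.cast_succ, add_mul, one_mul, mul_sub]
        abel
    have hsum : ∑ j ∈ Finset.range p, G ^ (j + 1) = N := by
      rw [← hgen m hm, norm, ← hG]
      have h1 := Finset.sum_range_succ' (fun j => G ^ j) p
      rw [Finset.sum_range_succ, hGp, pow_zero] at h1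
      exact (add_right_cancel h1).symm
    rw [hA, h, hsum, hGp, mul_one, hq]
  have hqq : q * q = (p : Module.End K V) * q := by
    have hNN : N * N = (p : Module.End K V) * N := by
      have h1 : ∀ i, N * σ c ^ i = N := by
        intro i
        induction i with
        | zero => simp
        | succ i ih =>
          have h0 : N * (σ c - 1) = 0 := by
            rw [hN, norm, geom_sum_mul, ← map_pow, hcp, map_one, sub_self]
          rw [mul_sub, mul_one, sub_eq_zero] at h0
          rw [pow_succ', ← mul_assoc, h0, ih]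
      conv_lhs => arg 2; rw [hN, norm]
      rw [Finset.mul_sum, Finset.sum_congr rfl (fun i _ => h1 i), Finset.sum_const,
        Finset.card_range, nsmul_eq_mul]
    simp only [hq, mul_sub, sub_mul, hNN, ← (Nat.cast_commute p N).eq]
    abel
  have hcomm : ∀ (g : SL(2, ZMod p)) (h : Commute g c), Commute (σ g) q := fun g h =>
    (Nat.commute_cast _ _).sub_right (Commute.sum_right _ _ _ fun i _ => (h.map σ).pow_right i)
  have hqS : LinearMap.range q ≤ S := by
    set g := c ^ (5 * (p - 1)) with hg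
    set G := σ g with hG
    have hg5 : ¬ p ∣ 5 * (p - 1) := fun h => by
      rcases hp.out.dvd_mul.1 h with h | h
      · have := Nat.le_of_dvd (by norm_num) h; omega
      · have := Nat.le_of_dvd (by omega) h; omega
    have hgeq : g = (c⁻¹) ^ 5 := by
      rw [hg, show c⁻¹ = c ^ (p - 1) from inv_eq_of_mul_eq_one_right (by
        rw [← pow_succ', Nat.sub_add_cancel hp.out.one_le, hcp]), ← pow_mul, mul_comm]
    have hGp : G ^ p = 1 := by
      rw [hG, ← map_pow, hg, ← pow_mul, mul_comm, pow_mul, hcp, one_pow, map_one]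
    have hDeq : theta σ (c ^ 4) - theta σ c = σ c * ((σ (c ^ 3) - 1) * (1 + Z * G)) := by
      have e1 : c ^ 4 * g = c⁻¹ := by rw [hgeq]; group
      have e2 : c * g = (c ^ 4)⁻¹ := by rw [hgeq]; group
      have e3 : σ c * σ (c ^ 3) = σ (c ^ 4) := by rw [← map_mul, ← pow_succ']
      have e4 : σ (c ^ 4) * G = σ c⁻¹ := by rw [hG, ← map_mul, e1]
      have e5 : σ c * G = σ (c ^ 4)⁻¹ := by rw [hG, ← map_mul, e2]
      have hZc : ∀ h, σ h * Z = Z * σ h := fun h => by rw [hZ, ← map_mul, ← map_mul, (zz_comm h).eq]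
      simp only [theta, ← hZ, sub_mul, mul_sub, mul_add, mul_one, one_mul, ← mul_assoc, e3, hZc]
      have e6 : σ c * (σ (c ^ 3) * G) = σ c⁻¹ := by rw [← mul_assoc, e3, e4]
      simp only [mul_assoc, e4, e5, e6]
      abel
    have halt : (1 + G) * ∑ j ∈ Finset.range p, (-G) ^ j = 2 := by
      have := mul_neg_geom_sum (-G) p
      rw [sub_neg_eq_add, (hp.out.odd_of_ne_two (by omega)).neg_pow, hGp, sub_neg_eq_add] at this
      rw [this, one_add_one_eq_two]
    set alt := ∑ j ∈ Finset.range p, (-G) ^ j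
    have hZZ : Z * Z = 1 := by rw [hZ, ← map_mul, zz_sq, map_one]
    have hGZ : Commute G Z := ((zz_comm g).symm).map σ
    set B := A (5 * (p - 1))
    have hB : (G - 1) * B = q := hAq _ hg5
    have hR : (1 + Z * G) * ((q * alt) * (1 + Z) - 2 * B * (1 - Z)) = 4 * q := by
      have hqG : Commute (1 + G) q :=
        (Commute.one_left _).add_left (hcomm g (Commute.pow_self c _))
      have hqZ : Commute Z q := hcomm _ (zz_comm c)
      have haltZ : Commute Z alt := Commute.sum_right _ _ _ fun j _ => (hGZ.symm.neg_right).pow_right j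
      have hBZ : Commute Z B := Commute.sum_right _ _ _ fun j _ =>
        (Nat.commute_cast _ _).mul_right ((((zz_comm (c ^ _)).map σ)).pow_right j)
      have h1 : (1 + Z * G) * (1 + Z) = (1 + G) * (1 + Z) := by
        simp only [add_mul, mul_add, mul_one, one_mul, mul_assoc, hGZ.eq]
        rw [← mul_assoc Z Z G, hZZ, one_mul]
        abel
      have h1' : (1 + Z * G) * (1 - Z) = (1 - G) * (1 - Z) := by
        simp only [sub_mul, add_mul, mul_sub, mul_one, one_mul, mul_assoc, hGZ.eq]
        rw [← mul_assoc Z Z G, hZZ, one_mul]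
        abel
      have c1 : Commute (1 + Z) (q * alt) :=
        (Commute.one_left _).add_left (hqZ.mul_right haltZ)
      have c2 : Commute (1 - Z) (2 * B) :=
        (Commute.one_left _).sub_left ((Commute.ofNat_right Z 2).mul_right hBZ)
      calc (1 + Z * G) * ((q * alt) * (1 + Z) - 2 * B * (1 - Z))
          = (1 + Z * G) * (1 + Z) * (q * alt) - (1 + Z * G) * (1 - Z) * (2 * B) := by
            rw [mul_sub, ← c1.eq, ← c2.eq, mul_assoc, mul_assoc]
        _ = (1 + G) * (q * alt) * (1 + Z) - (1 - G) * (2 * B) * (1 - Z) := by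
            rw [h1, h1', mul_assoc (1 + G), mul_assoc (1 - G), c1.eq, c2.eq, ← mul_assoc (1 + G),
              ← mul_assoc (1 - G)]
        _ = q * ((1 + G) * alt) * (1 + Z) + 2 * ((G - 1) * B) * (1 - Z) := by
            rw [← mul_assoc (1 + G), hqG.eq, mul_assoc q]
            noncomm_ring
        _ = 4 * q := by
            rw [halt, hB]
            have : q * 2 = 2 * q := (Commute.ofNat_right q 2).eq
            rw [this]
            noncomm_ring
    have h3' : ¬ p ∣ 3 := fun h => by have := Nat.le_of_dvd (by norm_num) h; omega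
    have hA3q : q * A 3 = A 3 * q := (Commute.sum_left _ _ _ fun j _ =>
      (Nat.cast_commute _ _).mul_left (((hcomm (c ^ 3) (Commute.pow_self c 3))).pow_left j)).symm.eq
    have key : (theta σ (c ^ 4) - theta σ c) *
        (((q * alt) * (1 + Z) - 2 * B * (1 - Z)) * A 3) = σ c * ((4 * (p : Module.End K V)) * q) := by
      rw [hDeq, mul_assoc (σ c), mul_assoc (σ (c ^ 3) - 1), ← mul_assoc (1 + Z * G), hR,
        mul_assoc (4 : Module.End K V), hA3q, ← mul_assoc (4 : Module.End K V),
        (Commute.ofNat_left 4 (A 3)).eq, mul_assoc (A 3), ← mul_assoc (σ (c ^ 3) - 1), hAq 3 h3',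
        ← mul_assoc q, ← (Commute.ofNat_left 4 q).eq, mul_assoc (4 : Module.End K V), hqq,
        ← mul_assoc (4 : Module.End K V)]
    rintro v ⟨u, rfl⟩
    have h1 : σ c (((4 * p : ℕ) : K) • q (σ c⁻¹ u)) ∈ S := by
      have h2 := hD ⟨(((q * alt) * (1 + Z) - 2 * B * (1 - Z)) * A 3) (σ c⁻¹ u), rfl⟩
      rw [← Module.End.mul_apply, key,
        show (4 : Module.End K V) * (p : Module.End K V) = ((4 * p : ℕ) : Module.End K V) by
          push_cast; rfl,
        Module.End.mul_apply, Module.End.mul_apply, Module.End.natCast_apply,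
        ← Nat.cast_smul_eq_nsmul K] at h2
      exact h2
    have hqc : σ c (q (σ c⁻¹ u)) = q u := by
      rw [← Module.End.mul_apply, (hcomm c (Commute.refl c)).eq, Module.End.mul_apply,
        ← Module.End.mul_apply (σ c), ← map_mul, mul_inv_cancel, map_one, Module.End.one_apply]
    rw [map_smul, hqc] at h1
    have h40 : ((4 * p : ℕ) : K) ≠ 0 := by
      rw [Nat.cast_mul, show ((4 : ℕ) : K) = 2 * 2 by norm_num]
      exact mul_ne_zero (mul_ne_zero h2 h2) hK
    have h5 := Submodule.smul_mem S (((4 * p : ℕ) : K))⁻¹ h1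
    rwa [smul_smul, inv_mul_cancel₀ h40, one_smul] at h5
  -- the quotient by `S` is trivial
  let π := S.mkQ
  have hπ0 : ∀ v, π v = 0 ↔ v ∈ S := fun v => Submodule.Quotient.mk_eq_zero S
  have hπc : ∀ v, π (σ c v) = π v := by
    intro v
    rw [← sub_eq_zero, ← map_sub, hπ0]
    have hN0 : N * (σ c - 1) = 0 := by
      rw [hN, norm, geom_sum_mul, ← map_pow, hcp, map_one, sub_self]
    have : q (σ c v - v) = (p : K) • (σ c v - v) := by
      have h := congrArg (fun e : Module.End K V => e v) hN0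
      simp only [Module.End.mul_apply, LinearMap.sub_apply, Module.End.one_apply,
        LinearMap.zero_apply] at h
      rw [hq, LinearMap.sub_apply, h, sub_zero, Module.End.natCast_apply, Nat.cast_smul_eq_nsmul]
    have h1 := hqS ⟨σ c v - v, rfl⟩
    rw [this] at h1
    simpa [smul_smul, hK] using Submodule.smul_mem _ (p : K)⁻¹ h1
  have hπci : ∀ v, π (σ c⁻¹ v) = π v := fun v => by
    conv_rhs => rw [show v = σ c (σ c⁻¹ v) by
      rw [← Module.End.mul_apply, ← map_mul, mul_inv_cancel, map_one, Module.End.one_apply]]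
    exact (hπc _).symm
  have hzc : ∀ (h : SL(2, ZMod p)) (v : V), Z (σ h v) = σ h (Z v) := fun h v => by
    rw [← Module.End.mul_apply, hZ, ← map_mul, (zz_comm h).eq, map_mul, Module.End.mul_apply]
  have hrel : ∀ v, π v + π (σ (jj p) (Z v)) + π (σ (jj p) (σ c⁻¹ v)) = 0 := by
    intro v
    set x := cc p * (jj p)⁻¹ with hx
    have hxS : norm σ x 3 v ∈ S := by
      refine hle (0, false) ?_
      simpa [edgeElt, frame] using norm_range_le σ ord_three ⟨v, rfl⟩
    have hxi : σ x ^ 2 = σ (jj p) * σ c⁻¹ := by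
      rw [← map_pow, show x ^ 2 = x⁻¹ from (inv_eq_of_mul_eq_one_right (by
        rw [← pow_succ', hx, ord_three])).symm, hx, _root_.mul_inv_rev, inv_inv, ← hc, map_mul]
    rw [← hπ0] at hxS
    simp only [norm, Finset.sum_range_succ, Finset.sum_range_zero, zero_add, pow_zero, pow_one,
      hxi, LinearMap.add_apply, Module.End.one_apply, map_add, Module.End.mul_apply] at hxS
    rw [hx, map_mul, Module.End.mul_apply, ← hc, hπc, jj_inv, map_mul, Module.End.mul_apply,
      ← hZ, hzc] at hxS
    exact hxS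
  rw [eq_top_iff]
  intro v _
  rw [← hπ0]
  have hplus : ∀ v, Z v = v → π v = 0 := by
    intro v hv
    have key : ∀ v, Z v = v → π v = -((2 : K) • π (σ (jj p) v)) := by
      intro v hv
      have h : ∀ i : ℕ, π (σ (jj p) (σ (c⁻¹ ^ i) v)) =
          if Even i then π (σ (jj p) v) else -π v - π (σ (jj p) v) := by
        intro i
        induction i with
        | zero => simp
        | succ i ih =>
          have hw : Z (σ (c⁻¹ ^ i) v) = σ (c⁻¹ ^ i) v := by rw [hzc, hv]
          have h1 := hrel (σ (c⁻¹ ^ i) v)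
          rw [hw, ← Module.End.mul_apply (σ c⁻¹), ← map_mul, ← pow_succ'] at h1
          have hpi : π (σ (c⁻¹ ^ i) v) = π v := by
            clear h1 ih hw
            induction i with
            | zero => simp
            | succ i ih => rw [pow_succ', map_mul, Module.End.mul_apply, hπci, ih]
          rw [hpi, ih] at h1
          rcases Nat.even_or_odd i with he | he
          · rw [if_pos he] at h1
            rw [if_neg (Nat.not_even_iff_odd.2 he.add_one), eq_neg_of_add_eq_zero_right h1]
            abel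
          · rw [if_neg (Nat.not_even_iff_odd.2 he)] at h1
            rw [if_pos he.add_one, eq_neg_of_add_eq_zero_right h1]
            abel
      have h1 := h p
      rw [inv_pow, hcp, inv_one, map_one, Module.End.one_apply,
        if_neg (Nat.not_even_iff_odd.2 (hp.out.odd_of_ne_two (by omega)))] at h1
      linear_combination (norm := module) (h1 : π (σ (jj p) v) = -π v - π (σ (jj p) v))
    have h1 := key v hv
    have h2' := key (σ (jj p) v) (by rw [hzc, hv])
    rw [← Module.End.mul_apply, ← map_mul, jj_sq, ← hZ, hv] at h2'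
    have h4 : (3 : K) • π v = 0 := by
      linear_combination (norm := module) (-1 : K) • h1 + (2 : K) • h2'
    exact (smul_eq_zero.1 h4).resolve_left h3
  have hminus : ∀ v, Z v = -v → π v = 0 := by
    intro v hv
    have h : ∀ i : ℕ, π (σ (jj p) (σ (c⁻¹ ^ i) v)) = π (σ (jj p) v) - (i : K) • π v := by
      intro i
      induction i with
      | zero => simp
      | succ i ih =>
        have hw : Z (σ (c⁻¹ ^ i) v) = -σ (c⁻¹ ^ i) v := by rw [hzc, hv, map_neg]
        have h1 := hrel (σ (c⁻¹ ^ i) v)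
        rw [hw, ← Module.End.mul_apply (σ c⁻¹), ← map_mul, ← pow_succ', map_neg, map_neg] at h1
        have hpi : π (σ (c⁻¹ ^ i) v) = π v := by
          clear h1 ih hw
          induction i with
          | zero => simp
          | succ i ih => rw [pow_succ', map_mul, Module.End.mul_apply, hπci, ih]
        rw [hpi, ih] at h1
        rw [eq_neg_of_add_eq_zero_right h1, Nat.cast_succ, add_smul, one_smul]
        abel
    have h1 := h p
    rw [inv_pow, hcp, inv_one, map_one, Module.End.one_apply, eq_comm, sub_eq_self] at h1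
    exact (smul_eq_zero.1 h1).resolve_left hK
  have hZ2 : Z (Z v) = v := by
    rw [← Module.End.mul_apply, hZ, ← map_mul, zz_sq, map_one, Module.End.one_apply]
  have h1 := hplus (v + Z v) (by rw [map_add, hZ2, add_comm])
  have h1' := hminus (v - Z v) (by rw [map_sub, hZ2, neg_sub])
  have h4 : (2 : K) • π v = 0 := by
    rw [map_add] at h1
    rw [map_sub] at h1'
    linear_combination (norm := module) (1 : K) • h1 + (1 : K) • h1'
  exact (smul_eq_zero.1 h4).resolve_left h2

/-- The dimension is at most the total dimension of the six fixed spaces. -/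
theorem finrank_le_edge_sum [FiniteDimensional K V] (h7 : 7 ≤ p) (h2 : (2 : K) ≠ 0)
    (h3 : (3 : K) ≠ 0) (hK : (p : K) ≠ 0) :
    finrank K V ≤ ∑ e : Fin 3 × Bool, fx σ (edgeElt h7 e) := by
  have key : ∀ s : Finset (Fin 3 × Bool), finrank K ↥(s.sup fun e => fixSub σ (edgeElt h7 e)) ≤
      ∑ e ∈ s, fx σ (edgeElt h7 e) := by
    intro s
    induction s using Finset.induction_on with
    | empty => simp
    | insert x s hx ih =>
      rw [Finset.sup_insert, Finset.sum_insert hx]
      exact (Submodule.finrank_add_le_finrank_add_finrank _ _).trans (Nat.add_le_add_left ih _)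
  refine le_trans ?_ (key Finset.univ)
  rw [Finset.sup_univ_eq_iSup, edge_span σ h7 h2 h3 hK, finrank_top]

end Cfsg.Agent.FixedSpace
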