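import Mathlib

/-!
# Linear algebra of fixed spaces

Elementary facts about ranks and kernels of endomorphisms, and the two cheap ways to an element
with a large fixed space: an element of order the characteristic, and a pair of commuting elements
of the same prime order.
-/

set_option autoImplicit false

namespace Cfsg.Agent.FixedSpace

open Module

universe u v w

variable {K : Type v} [Field K] {V : Type w} [AddCommGroup V] [Module K V]

section Ops

variable [FiniteDimensional K V]

/-- The rank of an endomorphism. -/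
noncomputable abbrev rk (f : Module.End K V) : ℕ := finrank K (LinearMap.range f)

/-- The nullity of an endomorphism. -/
noncomputable abbrev nul (f : Module.End K V) : ℕ := finrank K (LinearMap.ker f)

theorem rk_add_nul (f : Module.End K V) : rk f + nul f = finrank K V :=
  LinearMap.finrank_range_add_finrank_ker f

theorem rk_add_le (f g : Module.End K V) : rk (f + g) ≤ rk f + rk g :=
  le_trans (Submodule.finrank_mono (by
    rintro x ⟨y, rfl⟩
    exact Submodule.add_mem_sup ⟨y, rfl⟩ ⟨y, rfl⟩))
    (Submodule.finrank_add_le_finrank_add_finrank _ _)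

omit [FiniteDimensional K V] in
theorem rk_neg (f : Module.End K V) : rk (-f) = rk f := by
  rw [rk, rk, LinearMap.range_neg]

theorem rk_sub_le (f g : Module.End K V) : rk (f - g) ≤ rk f + rk g := by
  rw [sub_eq_add_neg]
  exact (rk_add_le f (-g)).trans (le_of_eq (by rw [rk_neg]))

theorem rk_mul_le_left (f g : Module.End K V) : rk (f * g) ≤ rk f :=
  Submodule.finrank_mono (LinearMap.range_comp_le_range g f)

theorem rk_mul_le_right (f g : Module.End K V) : rk (f * g) ≤ rk g := by
  rw [rk, rk, Module.End.mul_eq_comp, LinearMap.range_comp]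
  exact Submodule.finrank_map_le _ _

theorem nul_mul_le (f g : Module.End K V) : nul (f * g) ≤ nul f + nul g := by
  let φ : LinearMap.ker (f * g) →ₗ[K] LinearMap.ker f :=
    (g.domRestrict (LinearMap.ker (f * g))).codRestrict _ (fun x => by
      have := x.2
      rw [LinearMap.mem_ker, Module.End.mul_apply] at this
      exact this)
  have h1 := LinearMap.finrank_range_add_finrank_ker φ
  have h2 : finrank K (LinearMap.range φ) ≤ nul f := Submodule.finrank_le _
  have h3 : finrank K (LinearMap.ker φ) ≤ nul g := by
    let ψ : LinearMap.ker φ →ₗ[K] LinearMap.ker g :=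
      (((LinearMap.ker (f * g)).subtype).comp (LinearMap.ker φ).subtype).codRestrict _ (fun x => by
        have := x.2
        rw [LinearMap.mem_ker] at this
        exact congrArg Subtype.val this)
    refine LinearMap.finrank_le_finrank_of_injective (f := ψ) fun x y hxy => ?_
    have := congrArg Subtype.val hxy
    exact Subtype.ext (Subtype.ext this)
  unfold nul at *
  omega

theorem nul_pow_le (f : Module.End K V) : ∀ r : ℕ, nul (f ^ r) ≤ r * nul f
  | 0 => by simp [nul, Module.End.one_eq_id]
  | r + 1 => by
    rw [pow_succ]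
    refine (nul_mul_le _ _).trans ?_
    rw [Nat.succ_mul]
    exact Nat.add_le_add_right (nul_pow_le f r) _

end Ops

/-- The fixed space of an element. -/
noncomputable abbrev fixSub {G : Type u} [Group G] (ρ : Representation K G V) (h : G) :
    Submodule K V := LinearMap.ker (ρ h - 1)

/-- The dimension of the fixed space of an element. -/
noncomputable abbrev fx {G : Type u} [Group G] (ρ : Representation K G V) (h : G) : ℕ :=
  finrank K (fixSub ρ h)

/-- Some non-identity element fixes a subspace of at least a sixth of the dimension. -/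
def Good {G : Type u} [Group G] (ρ : Representation K G V) : Prop :=
  ∃ h : G, h ≠ 1 ∧ finrank K V ≤ 6 * fx ρ h

section Group

variable {G : Type u} [Group G] (ρ : Representation K G V)

theorem mem_fixSub {h : G} {v : V} : v ∈ fixSub ρ h ↔ ρ h v = v := by
  rw [fixSub, LinearMap.mem_ker, LinearMap.sub_apply, Module.End.one_apply, sub_eq_zero]

theorem Good.of_hom {H : Type*} [Group H] (f : H →* G) (hf : Function.Injective f)
    (h : Good (ρ.comp f)) : Good ρ := by
  obtain ⟨x, hx, hle⟩ := h
  exact ⟨f x, fun h1 => hx (hf (h1.trans (map_one f).symm)), hle⟩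

variable {ρ}

theorem not_good_iff : ¬ Good ρ ↔ ∀ h : G, h ≠ 1 → 6 * fx ρ h < finrank K V := by
  simp [Good, not_le]

variable (ρ) [FiniteDimensional K V]

/-- An element of prime order equal to the characteristic. -/
theorem finrank_le_of_char {r : ℕ} [hr : Fact r.Prime] (hK : (r : K) = 0) {h : G} (hh : h ^ r = 1) :
    finrank K V ≤ r * fx ρ h := by
  by_cases hV : Nontrivial V
  swap
  · rw [not_nontrivial_iff_subsingleton] at hV
    rw [Module.finrank_zero_of_subsingleton]
    exact Nat.zero_le _
  haveI : CharP K r := by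
    obtain ⟨q, hq⟩ := CharP.exists K
    rcases (Nat.dvd_prime hr.out).1 ((CharP.cast_eq_zero_iff K q r).1 hK) with h1 | h1
    · subst h1
      have := @CharP.cast_eq_zero K _ 1 hq
      rw [Nat.cast_one] at this
      exact absurd this one_ne_zero
    · exact h1 ▸ hq
  haveI : CharP (Module.End K V) r :=
    charP_of_injective_algebraMap (FaithfulSMul.algebraMap_injective K (Module.End K V)) r
  have h0 : (ρ h - 1) ^ r = 0 := by
    rw [sub_pow_char_of_commute r (Commute.one_right _), one_pow, ← map_pow, hh, map_one, sub_self]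
  have := nul_pow_le (ρ h - 1) r
  rw [h0] at this
  have h1 : LinearMap.ker (0 : Module.End K V) = ⊤ := LinearMap.ker_zero
  rw [nul, h1, finrank_top] at this
  exact this

/-- The norm element of a cyclic subgroup. -/
noncomputable def norm (h : G) (r : ℕ) : Module.End K V := ∑ i ∈ Finset.range r, ρ h ^ i

omit [FiniteDimensional K V] in
theorem norm_range_le {h : G} {r : ℕ} (hh : h ^ r = 1) :
    LinearMap.range (norm ρ h r) ≤ fixSub ρ h := by
  rintro x ⟨y, rfl⟩
  have : (ρ h - 1) * norm ρ h r = 0 := by
    rw [norm, mul_geom_sum, ← map_pow, hh, map_one, sub_self]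
  rw [fixSub, LinearMap.mem_ker]
  simpa using congrArg (fun e : Module.End K V => e y) this

omit [FiniteDimensional K V] in
theorem sum_norm (a b : G) (hc : Commute a b) (r : ℕ) [hr : Fact r.Prime] (hb : b ^ r = 1) :
    ∑ k ∈ Finset.range r, norm ρ (a * b ^ k) r =
      (r : Module.End K V) + (norm ρ a r - 1) * norm ρ b r := by
  classical
  have hexp : ∀ k i : ℕ, ρ (a * b ^ k) ^ i = ρ a ^ i * ρ b ^ (k * i) := by
    intro k i
    rw [← map_pow, (hc.pow_right k).mul_pow, ← pow_mul, map_mul, map_pow, map_pow]
  simp only [norm, hexp]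
  rw [Finset.sum_comm]
  have h0 : 0 ∈ Finset.range r := Finset.mem_range.2 hr.out.pos
  rw [← Finset.add_sum_erase _ _ h0, ← Finset.add_sum_erase (Finset.range r) (fun i => ρ a ^ i) h0]
  simp only [pow_zero, mul_zero, one_mul, Finset.sum_const, Finset.card_range, nsmul_one,
    add_sub_cancel_left, Finset.sum_mul]
  congr 1
  refine Finset.sum_congr rfl fun i hi => ?_
  rw [← Finset.mul_sum]
  congr 1
  obtain ⟨hi0, hi'⟩ := Finset.mem_erase.1 hi
  rw [Finset.mem_range] at hi'
  have hper : ∀ m : ℕ, ρ b ^ m = ρ b ^ (m % r) := fun m => pow_eq_pow_mod m (by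
    rw [← map_pow, hb, map_one])
  simp only [hper (_ * i)]
  have hmap : Set.InjOn (fun k => k * i % r) (Finset.range r) := by
    intro x hx y hy hxy
    simp only [Finset.coe_range, Set.mem_Iio] at hx hy
    have hcop : Nat.Coprime r i :=
      hr.out.coprime_iff_not_dvd.2 fun hd => absurd (Nat.le_of_dvd (Nat.pos_of_ne_zero hi0) hd) (by omega)
    exact Nat.ModEq.eq_of_lt_of_lt
      (Nat.ModEq.cancel_right_of_coprime hcop hxy) hx hy
  refine (Finset.sum_image hmap).symm.trans (Finset.sum_congr ?_ fun _ _ => rfl)
  refine Finset.eq_of_subset_of_card_le (fun x hx => ?_) ?_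
  · obtain ⟨k, -, rfl⟩ := Finset.mem_image.1 hx
    exact Finset.mem_range.2 (Nat.mod_lt _ hr.out.pos)
  · rw [Finset.card_image_of_injOn hmap]

/-- Two commuting elements of order `r` generating a subgroup of type `(r, r)`. -/
theorem exists_of_commute {r : ℕ} [hr : Fact r.Prime] {a b : G} (hc : Commute a b) (ha : a ^ r = 1)
    (hb : b ^ r = 1) (hb1 : b ≠ 1) (hab : ∀ k : ℕ, a * b ^ k ≠ 1) :
    ∃ h : G, h ≠ 1 ∧ finrank K V ≤ (r + 1) * fx ρ h := by
  by_contra hne
  push Not at hne
  by_cases hK : (r : K) = 0
  · have := finrank_le_of_char ρ hK hb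
    have := hne b hb1
    rw [Nat.succ_mul] at this
    omega
  have ha1 : a ≠ 1 := by simpa using hab 0
  have htop : ⊤ ≤ (Finset.range r).sup (fun k => fixSub ρ (a * b ^ k)) ⊔ fixSub ρ b := by
    intro v _
    have key := congrArg (fun e : Module.End K V => e v) (sum_norm ρ a b hc r hb)
    simp only [LinearMap.coe_sum, Finset.sum_apply, LinearMap.add_apply, Module.End.natCast_apply,
      Module.End.mul_apply, LinearMap.sub_apply, Module.End.one_apply] at key
    have hrv : (r : K) • v = ∑ k ∈ Finset.range r, norm ρ (a * b ^ k) r v + norm ρ b r v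
        - norm ρ a r (norm ρ b r v) := by
      rw [key, Nat.cast_smul_eq_nsmul]
      abel
    have hmem : (r : K) • v ∈
        (Finset.range r).sup (fun k => fixSub ρ (a * b ^ k)) ⊔ fixSub ρ b := by
      rw [hrv]
      refine sub_mem (add_mem (Submodule.sum_mem _ fun k hk => Submodule.mem_sup_left ?_)
        (Submodule.mem_sup_right (norm_range_le ρ hb ⟨v, rfl⟩))) (Submodule.mem_sup_left ?_)
      · exact Finset.le_sup (f := fun k => fixSub ρ (a * b ^ k)) hk
          (norm_range_le ρ (by rw [(hc.pow_right k).mul_pow, ha, ← pow_mul, mul_comm, pow_mul, hb,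
            one_pow, one_mul]) ⟨v, rfl⟩)
      · exact Finset.le_sup (f := fun k => fixSub ρ (a * b ^ k))
          (Finset.mem_range.2 hr.out.pos) (by simpa using norm_range_le ρ ha ⟨_, rfl⟩)
    simpa [smul_smul, hK] using Submodule.smul_mem _ (r : K)⁻¹ hmem
  have hsum : ∀ s : Finset ℕ, finrank K ↥(s.sup fun k => fixSub ρ (a * b ^ k)) ≤
      ∑ k ∈ s, fx ρ (a * b ^ k) := by
    intro s
    induction s using Finset.induction_on with
    | empty => simp
    | insert x s hx ih =>
      rw [Finset.sup_insert, Finset.sum_insert hx]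
      exact (Submodule.finrank_add_le_finrank_add_finrank _ _).trans (Nat.add_le_add_left ih _)
  have h1 : finrank K V ≤ ∑ k ∈ Finset.range r, fx ρ (a * b ^ k) + fx ρ b := by
    rw [← finrank_top]
    exact ((Submodule.finrank_mono htop).trans
      (Submodule.finrank_add_le_finrank_add_finrank _ _)).trans (Nat.add_le_add_right (hsum _) _)
  have h2 : (r + 1) * (∑ k ∈ Finset.range r, fx ρ (a * b ^ k)) < r * finrank K V := by
    rw [Finset.mul_sum]
    calc ∑ k ∈ Finset.range r, (r + 1) * fx ρ (a * b ^ k)
        < ∑ k ∈ Finset.range r, finrank K V :=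
          Finset.sum_lt_sum_of_nonempty (Finset.nonempty_range_iff.2 hr.out.ne_zero)
            fun k _ => hne _ (hab k)
      _ = r * finrank K V := by simp
  have h3 := hne b hb1
  nlinarith

omit [FiniteDimensional K V] in
/-- An element of order three with `3` invertible: `1 + x + x²` has the fixed space as its range. -/
theorem range_norm_three (h3 : (3 : K) ≠ 0) {x : G} (hx : x ^ 3 = 1) :
    LinearMap.range (norm ρ x 3) = fixSub ρ x := by
  refine le_antisymm (norm_range_le ρ hx) fun v hv => ?_
  rw [mem_fixSub] at hv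
  refine ⟨(3 : K)⁻¹ • v, ?_⟩
  have : norm ρ x 3 v = (3 : K) • v := by
    simp only [norm, Finset.sum_range_succ, Finset.sum_range_zero, zero_add, pow_zero, pow_one,
      pow_two, LinearMap.add_apply, Module.End.one_apply, Module.End.mul_apply, hv]
    module
  rw [map_smul, this, smul_smul, inv_mul_cancel₀ h3, one_smul]

omit [FiniteDimensional K V] in
theorem rk_norm_three (h3 : (3 : K) ≠ 0) {x : G} (hx : x ^ 3 = 1) :
    rk (norm ρ x 3) = fx ρ x := by
  rw [rk, range_norm_three ρ h3 hx]

omit [FiniteDimensional K V] in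
theorem inv_eq_norm_three {x : G} (hx : x ^ 3 = 1) :
    ρ x⁻¹ = norm ρ x 3 - 1 - ρ x := by
  have : x⁻¹ = x ^ 2 := by
    rw [inv_eq_iff_mul_eq_one, ← pow_succ', hx]
  rw [this, map_pow]
  simp only [norm, Finset.sum_range_succ, Finset.sum_range_zero, zero_add, pow_zero, pow_one]
  abel

end Group

end Cfsg.Agent.FixedSpace
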