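import Cfsg.Agent.Lib.FixedSpace.Reduce
import Cfsg.Agent.Lib.PSL2.SmallIso
import Cfsg.Agent.Lib.Homogeneous.Cores
import Cfsg.Agent.Lib.PCore.Basic
import Cfsg.Agent.S0205
import Cfsg.Agent.S2119
import Cfsg.Agent.S3099

/-!
# A nonidentity element fixing a sixth of the space

If the solvable radical of a finite group has index above `120`, some nonidentity element fixes a
subspace of at least a sixth of the dimension in every representation.
-/

set_option autoImplicit false

namespace Cfsg.Agent.FixedSpace

open Module Subgroup Matrix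
open scoped MatrixGroups

universe u v w

variable {H : Type u} [Group H] [Finite H]

/-- The last term of the derived series, with solvable quotient. -/
theorem exists_perfect_residual (hns : ¬ Group.IsSolvable H) :
    ∃ N : Subgroup H, ∃ _ : N.Normal, N ≠ ⊥ ∧ Group.IsPerfect N ∧ Group.IsSolvable (H ⧸ N) := by
  classical
  have hanti : Antitone (derivedSeries H) := antitone_nat_of_succ_le fun n => by
    rw [derivedSeries_succ]
    exact commutator_le_self _
  obtain ⟨N, ⟨n, rfl⟩, hmin⟩ := (Set.toFinite (Set.range (derivedSeries H))).exists_minimal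
    (Set.range_nonempty _)
  have hstab : ⁅derivedSeries H n, derivedSeries H n⁆ = derivedSeries H n := by
    rw [← derivedSeries_succ]
    exact le_antisymm (hanti n.le_succ) (hmin ⟨_, rfl⟩ (hanti n.le_succ))
  refine ⟨_, inferInstance, fun h => hns ((Group.isSolvable_def H).2 ⟨n, h⟩), ⟨?_⟩,
    (Group.isSolvable_def _).2 ⟨n, ?_⟩⟩
  · refine map_injective (derivedSeries H n).subtype_injective ?_
    rw [map_subtype_commutator, hstab, ← MonoidHom.range_eq_map, range_subtype]
  · rw [← map_derivedSeries_eq (QuotientGroup.mk'_surjective (derivedSeries H n)),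
      Subgroup.map_eq_bot_iff, QuotientGroup.ker_mk']

/-- A group whose perfect residual has a solvable kernel over `A₅` has radical of index at most
`120`. -/
theorem index_le_of_alternating_five {N : Subgroup H} [N.Normal]
    (hsol : Group.IsSolvable (H ⧸ N)) (φ : N →* alternatingGroup (Fin 5))
    (hφ : Function.Surjective φ) (hker : Group.IsSolvable φ.ker) :
    (Cfsg.solvableRadical H).index ≤ 120 := by
  classical
  haveI hA5 : IsSimpleGroup (alternatingGroup (Fin 5)) := inferInstance
  have hA5c : ∀ a : alternatingGroup (Fin 5), (∀ b, a * b = b * a) → a = 1 := by decide +kernel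
  have hA5ns : ¬ Group.IsSolvable (alternatingGroup (Fin 5)) := by
    intro h
    have h1 := IsSimpleGroup.comm_iff_isSolvable.2 h
    obtain ⟨a, ha⟩ : ∃ a : alternatingGroup (Fin 5), a ≠ 1 := exists_ne 1
    exact ha (hA5c a (h1 a))
  have hk : φ.ker = Cfsg.solvableRadical N := by
    refine le_antisymm (Homogeneous.le_solvableRadical inferInstance hker) ?_
    obtain ⟨hn, hs⟩ := Homogeneous.solvableRadical_spec (G := N)
    haveI := hn
    haveI := hs
    haveI : ((Cfsg.solvableRadical N).map φ).Normal := Subgroup.Normal.map hn φ hφ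
    rcases IsSimpleGroup.eq_bot_or_eq_top_of_normal ((Cfsg.solvableRadical N).map φ) inferInstance
      with h | h
    · exact (Subgroup.map_eq_bot_iff _).1 h
    · exfalso
      apply hA5ns
      have h1 : Group.IsSolvable ((Cfsg.solvableRadical N).map φ) :=
        Group.isSolvable_of_surjective (φ.subgroupMap_surjective (Cfsg.solvableRadical N))
      rw [h] at h1
      haveI := h1
      exact Group.isSolvable_of_surjective
        (f := (Subgroup.topEquiv (G := alternatingGroup (Fin 5))).toMonoidHom)
        Subgroup.topEquiv.surjective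
  haveI : φ.ker.Characteristic := hk ▸ Homogeneous.solvableRadical_characteristic
  -- the action on the quotient
  let c : ∀ h : H, MulAut N := fun h => MulAut.conjNormal h
  let C : Subgroup H :=
    { carrier := {h | ∀ n : N, φ (c h n) = φ n}
      one_mem' := fun n => by simp [c]
      mul_mem' := fun {a b} ha hb n => by
        show φ (MulAut.conjNormal (a * b) n) = φ n
        rw [map_mul, MulAut.mul_apply]
        exact (ha _).trans (hb n)
      inv_mem' := fun {a} ha n => by
        show φ (MulAut.conjNormal a⁻¹ n) = φ n
        rw [← ha (MulAut.conjNormal a⁻¹ n)]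
        show φ (MulAut.conjNormal a (MulAut.conjNormal a⁻¹ n)) = φ n
        rw [← MulAut.mul_apply, ← map_mul, mul_inv_cancel, map_one, MulAut.one_apply] }
  have hkc : ∀ (h : H) (n : N), φ n = 1 → φ (c h n) = 1 := fun h n hn => by
    rw [← MonoidHom.mem_ker] at hn ⊢
    have := (inferInstance : φ.ker.Characteristic).fixed (c h)
    rw [← this] at hn
    exact hn
  obtain ⟨s, hs⟩ := hφ.hasRightInverse
  have hwd : ∀ (h : H) (m n : N), φ m = φ n → φ (c h m) = φ (c h n) := fun h m n hmn => by
    have := hkc h (m⁻¹ * n) (by rw [map_mul, map_inv, hmn, inv_mul_cancel])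
    rw [map_mul, map_mul, map_inv, map_inv, inv_mul_eq_one] at this
    exact this
  let T : H → alternatingGroup (Fin 5) →* alternatingGroup (Fin 5) := fun h =>
    { toFun := fun a => φ (c h (s a))
      map_one' := (hwd h _ 1 (by rw [hs, map_one])).trans (by rw [map_one, map_one])
      map_mul' := fun a b => (hwd h _ (s a * s b) (by rw [map_mul, hs, hs, hs])).trans
        (by rw [map_mul, map_mul]) }
  have hT : ∀ g h a, T (g * h) a = T g (T h a) := fun g h a => by
    show φ (c (g * h) (s a)) = φ (c g (s (φ (c h (s a)))))
    refine (congrArg φ ?_).trans (hwd g _ _ (hs _).symm)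
    show MulAut.conjNormal (g * h) (s a) = _
    rw [map_mul, MulAut.mul_apply]
  have hT1 : ∀ a, T 1 a = a := fun a => by
    show φ (MulAut.conjNormal (1 : H) (s a)) = a
    rw [map_one, MulAut.one_apply, hs]
  let Ψ : H →* MulAut (alternatingGroup (Fin 5)) :=
    { toFun := fun h =>
        { toFun := T h
          invFun := T h⁻¹
          left_inv := fun a => by rw [← hT, inv_mul_cancel, hT1]
          right_inv := fun a => by rw [← hT, mul_inv_cancel, hT1]
          map_mul' := (T h).map_mul }
      map_one' := MulEquiv.ext hT1
      map_mul' := fun g h => MulEquiv.ext fun a => hT g h a }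
  have hΨ : Ψ.ker = C := by
    ext h
    rw [MonoidHom.mem_ker]
    refine ⟨fun hh n => ?_, fun hh => MulEquiv.ext fun a => ?_⟩
    · have h1 := congrArg (fun e : MulAut (alternatingGroup (Fin 5)) => e (φ n)) hh
      exact (hwd h _ _ (hs (φ n)).symm).trans h1
    · show φ (c h (s a)) = a
      rw [hh, hs]
  -- `C` is solvable
  haveI hCn : C.Normal := hΨ ▸ inferInstance
  have hCN : ∀ n : N, (n : H) ∈ C → φ n = 1 := by
    intro n hn
    refine hA5c _ fun b => ?_
    obtain ⟨m, rfl⟩ := hφ b
    have h1 := hn m
    have h2 : c (n : H) m = n * m * n⁻¹ := Subtype.ext (by simp [c, MulAut.conjNormal_apply])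
    rw [h2, map_mul, map_mul, map_inv, mul_inv_eq_iff_eq_mul] at h1
    exact h1
  have hCsol : Group.IsSolvable C := by
    refine ThreeInvol.solvable_of_ker_range ((QuotientGroup.mk' N).comp C.subtype) ?_ ?_
    · haveI := hker
      let ι : ((QuotientGroup.mk' N).comp C.subtype).ker →* φ.ker :=
        { toFun := fun x => ⟨⟨((x : C) : H), (QuotientGroup.eq_one_iff _).1 x.2⟩,
            hCN _ (x : C).2⟩
          map_one' := rfl
          map_mul' := fun _ _ => rfl }
      exact Group.isSolvable_of_isSolvable_injective (f := ι) fun a b h =>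
        Subtype.ext (Subtype.ext (congrArg (fun z : φ.ker => (((z : N)) : H)) h))
    · haveI := hsol
      infer_instance
  have h1 : (Cfsg.solvableRadical H).index ≤ C.index :=
    Nat.le_of_dvd (Nat.pos_of_ne_zero Subgroup.index_ne_zero_of_finite)
      (Subgroup.index_dvd_of_le (Homogeneous.le_solvableRadical hCn hCsol))
  have h2 : C.index ≤ Nat.card (MulAut (alternatingGroup (Fin 5))) := by
    rw [← hΨ, Subgroup.index_ker]
    exact Subgroup.card_le_card_group _
  have h3 : Nat.card (MulAut (alternatingGroup (Fin 5))) = 120 := by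
    rw [← Nat.card_eq_of_bijective _ (S2119.result 5 (by norm_num) (by norm_num)), Nat.card_perm,
      Nat.card_eq_fintype_card, Fintype.card_fin]
    rfl
  omega

variable {K : Type v} [Field K] {V : Type w} [AddCommGroup V] [Module K V] [FiniteDimensional K V]

/-- An odd-order extension of `SL(2,p)`, `p ≥ 7`, is impossible. -/
theorem false_of_extension {p : ℕ} [Fact p.Prime] (h7 : 7 ≤ p) {L : Type u} [Group L] [Finite L]
    (σ : Representation K L V) (hbad : ¬ Good σ) (f : L →* SL(2, ZMod p))
    (hf : Function.Surjective f) (hodd : Odd (Nat.card f.ker)) : False := by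
  obtain ⟨M, hM, hmin⟩ := (Set.toFinite {M : Subgroup L | M.map f = ⊤}).exists_minimal
    ⟨⊤, Subgroup.map_top_of_surjective f hf⟩
  have hsurj : Function.Surjective (f.comp M.subtype) := fun y => by
    have : y ∈ M.map f := hM.symm ▸ Subgroup.mem_top y
    obtain ⟨m, hm, rfl⟩ := this
    exact ⟨⟨m, hm⟩, rfl⟩
  refine false_of_minimal (σ := σ.comp M.subtype) h7
    (fun h => hbad (Good.of_hom σ _ M.subtype_injective h)) (f.comp M.subtype) hsurj ?_ ?_
  · refine Odd.of_dvd_nat hodd ?_
    let ι : (f.comp M.subtype).ker →* f.ker :=
      { toFun := fun x => ⟨((x : M) : L), x.2⟩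
        map_one' := rfl
        map_mul' := fun _ _ => rfl }
    exact Subgroup.card_dvd_of_injective ι fun a b h =>
      Subtype.ext (Subtype.ext (congrArg (fun z : f.ker => (z : L)) h))
  · intro M' hM'
    rw [← Subgroup.map_map] at hM'
    have h1 : M'.map M.subtype = M :=
      le_antisymm (Subgroup.map_subtype_le _) (hmin hM' (Subgroup.map_subtype_le _))
    refine Subgroup.map_injective M.subtype_injective ?_
    rw [h1, ← MonoidHom.range_eq_map, Subgroup.range_subtype]

/-- The dichotomy. -/
theorem good_of_index (hR : 120 < (Cfsg.solvableRadical H).index) (ρ : Representation K H V) :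
    Good ρ := by
  classical
  by_contra hbad
  have hns : ¬ Group.IsSolvable H := by
    intro h
    haveI := h
    have : Cfsg.solvableRadical H = ⊤ := top_le_iff.1
      (Homogeneous.le_solvableRadical inferInstance inferInstance)
    rw [this, Subgroup.index_top] at hR
    omega
  obtain ⟨N, hN, hN0, hperf, hsol⟩ := exists_perfect_residual hns
  haveI := hperf
  have heven : Even (Nat.card N) := by
    by_contra hne
    haveI := S0205.result (G := N) (Nat.not_even_iff_odd.1 hne)
    have h := (Group.isSolvable_def N).1 inferInstance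
    obtain ⟨n, hn⟩ := h
    refine hN0 ?_
    have hall : ∀ n, derivedSeries N n = ⊤ := fun n => by
      induction n with
      | zero => rfl
      | succ n ih =>
        rw [derivedSeries_succ, ih, ← _root_.commutator_def]
        exact hperf.commutator_eq_top
    rw [hall n] at hn
    exact (Subgroup.eq_bot_iff_forall _).2 fun x hx => congrArg Subtype.val
      ((Subgroup.eq_bot_iff_forall _).1 hn (⟨x, hx⟩ : N) (Subgroup.mem_top _))
  have hbadN : ¬ Good (ρ.comp N.subtype) := fun h =>
    hbad (Good.of_hom ρ _ N.subtype_injective h)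
  have hodd : Odd (Nat.card (Cfsg.oddCore N)) := PCore.odd_card_oddCore
  set π := QuotientGroup.mk' (Cfsg.oddCore N)
  have hπ : Function.Surjective π := QuotientGroup.mk'_surjective _
  rcases S3099.result hperf (pRankLE_two_of_bad hbad N) heven with
    ⟨F, _, _, hFodd, hF3, ⟨e⟩⟩ | ⟨-, ⟨e⟩, -⟩
  · let ψ : N →* SL(2, F) := e.toMonoidHom.comp π
    have hψ : Function.Surjective ψ := e.surjective.comp hπ
    have hψk : ψ.ker = Cfsg.oddCore N :=
      (MonoidHom.ker_mulEquiv_comp π e).trans (QuotientGroup.ker_mk' _)
    obtain ⟨r, hr⟩ := CharP.exists F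
    haveI := hr
    haveI hrp : Fact r.Prime := ⟨CharP.char_is_prime F r⟩
    obtain ⟨⟨m, hm⟩, hr', hcard⟩ := FiniteField.card F r
    simp only [PNat.mk_coe] at hcard
    have hr2 : r ≠ 2 := by
      rintro rfl
      rw [hcard] at hFodd
      exact Nat.not_even_iff_odd.2 hFodd (Nat.even_pow.2 ⟨even_two, hm.ne'⟩)
    by_cases hr6 : r ≤ 5
    · have hle := card_le_of_cyclic (r := r) ψ hψ fun P hP => isCyclic_of_bad hbadN hr6 hr2 hP
      have hr5 : r = 5 := by
        have := hrp.out.two_le
        rcases (show r = 2 ∨ r = 3 ∨ r = 4 ∨ r = 5 by omega) with h | h | h | h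
        · exact absurd h hr2
        · omega
        · exact absurd (h ▸ hrp.out) (by norm_num)
        · exact h
      have hc5 : Fintype.card F = 5 := by
        have : r ≤ Fintype.card F := by
          rw [hcard]
          exact Nat.le_self_pow hm.ne' r
        omega
      obtain ⟨e5⟩ := PSL2.psl_four_five_iso (F := F) (Or.inr hc5)
      have := index_le_of_alternating_five hsol (e5.toMonoidHom.comp (PSL2.mk.comp ψ))
        (e5.surjective.comp (PSL2.mk_surjective.comp hψ)) (by
          rw [show (e5.toMonoidHom.comp (PSL2.mk.comp ψ)).ker = (PSL2.mk.comp ψ).ker from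
            MonoidHom.ker_mulEquiv_comp _ e5]
          refine ThreeInvol.solvable_of_ker_range (ψ.comp (PSL2.mk.comp ψ).ker.subtype) ?_ ?_
          · haveI : Group.IsSolvable ψ.ker := by
              rw [hψk]
              exact S0205.result hodd
            let ι : (ψ.comp (PSL2.mk.comp ψ).ker.subtype).ker →* ψ.ker :=
              { toFun := fun x => ⟨((x : (PSL2.mk.comp ψ).ker) : N), x.2⟩
                map_one' := rfl
                map_mul' := fun _ _ => rfl }
            exact Group.isSolvable_of_isSolvable_injective (f := ι) fun a b h =>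
              Subtype.ext (Subtype.ext (congrArg (fun z : ψ.ker => (z : N)) h))
          · have hle : (ψ.comp (PSL2.mk.comp ψ).ker.subtype).range ≤ Subgroup.center SL(2, F) := by
              rintro _ ⟨x, rfl⟩
              exact (SetLike.ext_iff.1 PSL2.ker_mk _).1 x.2
            haveI : Group.IsSolvable (Subgroup.center SL(2, F)) :=
              Group.isSolvable_of_comm fun a b => Subtype.ext (Subgroup.mem_center_iff.1 b.2 a)
            exact Group.isSolvable_of_isSolvable_injective (f := Subgroup.inclusion hle)
              (Subgroup.inclusion_injective hle))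
      omega
    · have h7 : 7 ≤ r := by
        rcases (show r = 6 ∨ 7 ≤ r by omega) with h | h
        · exact absurd (h ▸ hrp.out) (by norm_num)
        · exact h
      let i : SL(2, ZMod r) →* SL(2, F) :=
        Matrix.SpecialLinearGroup.map (ZMod.castHom (dvd_refl r) F)
      have hi : Function.Injective i := by
        intro a b h
        ext x y
        exact (ZMod.castHom (dvd_refl r) F).injective
          (congrArg (fun z : SL(2, F) => z.1 x y) h)
      let L0 : Subgroup N := i.range.comap ψ
      let f0 : L0 →* SL(2, ZMod r) := (MonoidHom.ofInjective hi).symm.toMonoidHom.comp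
        ((ψ.comp L0.subtype).codRestrict i.range fun x => x.2)
      have hf0 : ∀ x : L0, i (f0 x) = ψ x := fun x => MonoidHom.apply_ofInjective_symm hi _
      refine false_of_extension h7 ((ρ.comp N.subtype).comp L0.subtype)
        (fun h => hbadN (Good.of_hom _ _ L0.subtype_injective h)) f0 (fun y => ?_) ?_
      · obtain ⟨n, hn⟩ := hψ (i y)
        exact ⟨⟨n, y, hn.symm⟩, hi ((hf0 _).trans hn)⟩
      · refine Odd.of_dvd_nat hodd ?_
        let ι : f0.ker →* Cfsg.oddCore N :=
          { toFun := fun x => ⟨((x : L0) : N), by
              rw [← hψk, MonoidHom.mem_ker, ← hf0, x.2, map_one]⟩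
            map_one' := rfl
            map_mul' := fun _ _ => rfl }
        exact Subgroup.card_dvd_of_injective ι fun a b h =>
          Subtype.ext (Subtype.ext (congrArg (fun z : Cfsg.oddCore N => (z : N)) h))
  · exact false_of_alternating_seven ((e.toMonoidHom.comp (QuotientGroup.mk' _)).comp π)
      ((e.surjective.comp (QuotientGroup.mk'_surjective _)).comp hπ)
      fun P hP => by
        haveI : Fact (Nat.Prime 3) := ⟨Nat.prime_three⟩
        exact isCyclic_of_bad hbadN (by norm_num) (by norm_num) hP

end Cfsg.Agent.FixedSpace
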