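import Cfsg.Agent.Lib.FixedSpace.Linear

/-!
# Products of two elements of order three, and pairs generating a group of class two

For `A³ = B³ = 1` the operators `w + w⁻¹` for `w = AB` and `w = BA` differ by a map of rank at most
twice the sum of the fixed spaces of `A` and `B`. For `u v = c v u` with `c` commuting with both, the
difference of these operators for `u` and `v` has small kernel.
-/

set_option autoImplicit false

namespace Cfsg.Agent.FixedSpace

open Module

universe u v w

variable {G : Type u} [Group G] {K : Type v} [Field K] {V : Type w} [AddCommGroup V] [Module K V]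
  [FiniteDimensional K V] (ρ : Representation K G V)

/-- `ρ g + ρ g⁻¹`. -/
noncomputable def trOp (g : G) : Module.End K V := ρ g + ρ g⁻¹

theorem rk_trOp_sub_le (h3 : (3 : K) ≠ 0) {A B : G} (hA : A ^ 3 = 1) (hB : B ^ 3 = 1) :
    rk (trOp ρ (A * B) - trOp ρ (B * A)) ≤ 2 * fx ρ A + 2 * fx ρ B := by
  have key : trOp ρ (A * B) - trOp ρ (B * A) =
      (norm ρ B 3 * ρ A⁻¹ - ρ A⁻¹ * norm ρ B 3) - (ρ B * norm ρ A 3 - norm ρ A 3 * ρ B) := by
    have hA' := inv_eq_norm_three ρ hA
    have hB' := inv_eq_norm_three ρ hB
    simp only [trOp, mul_inv_rev, map_mul, hA', hB']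
    noncomm_ring
  have h1 := rk_norm_three ρ h3 hA
  have h2 := rk_norm_three ρ h3 hB
  rw [key]
  refine (rk_sub_le _ _).trans ?_
  have e1 := rk_sub_le (norm ρ B 3 * ρ A⁻¹) (ρ A⁻¹ * norm ρ B 3)
  have e2 := rk_sub_le (ρ B * norm ρ A 3) (norm ρ A 3 * ρ B)
  have e3 := rk_mul_le_left (norm ρ B 3) (ρ A⁻¹)
  have e4 := rk_mul_le_right (ρ A⁻¹) (norm ρ B 3)
  have e5 := rk_mul_le_right (ρ B) (norm ρ A 3)
  have e6 := rk_mul_le_left (norm ρ A 3) (ρ B)
  omega

theorem nul_trOp_sub_le_of_commute {u v : G} (hc : Commute u v) :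
    nul (trOp ρ u - trOp ρ v) ≤ fx ρ (u * v⁻¹) + fx ρ (u * v) := by
  have key : trOp ρ u - trOp ρ v = ρ u⁻¹ * ((ρ (u * v⁻¹) - 1) * (ρ (u * v) - 1)) := by
    simp only [trOp, sub_mul, mul_sub, mul_one, one_mul, ← map_mul]
    have e1 : u⁻¹ * (u * v⁻¹ * (u * v)) = u := by
      rw [mul_assoc u, inv_mul_cancel_left, ← mul_assoc, ← (hc.inv_right).eq, inv_mul_cancel_right]
    have e2 : u⁻¹ * (u * v⁻¹) = v⁻¹ := inv_mul_cancel_left u _
    have e3 : u⁻¹ * (u * v) = v := inv_mul_cancel_left u _
    rw [e1, e2, e3]
    abel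
  rw [key]
  refine (nul_mul_le _ _).trans ?_
  have h0 : nul (ρ u⁻¹) = 0 := by
    rw [nul, LinearMap.ker_eq_bot.2 (fun x y h => by
      simpa [← Module.End.mul_apply, ← map_mul] using congrArg (ρ u) h), finrank_bot]
  rw [h0, zero_add]
  exact nul_mul_le _ _

variable {s : ℕ}

/-- The scaled projector onto the part without fixed points of `c`. -/
noncomputable def moved (c : G) (s : ℕ) : Module.End K V := (s : Module.End K V) - norm ρ c s

omit [FiniteDimensional K V] in
theorem norm_mul_eq {h : G} (hs : h ^ s = 1) (m : ℕ) :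
    norm ρ h s * ρ h ^ m = norm ρ h s := by
  induction m with
  | zero => rw [pow_zero, mul_one]
  | succ m ih =>
    have : norm ρ h s * (ρ h - 1) = 0 := by
      rw [norm, geom_sum_mul, ← map_pow, hs, map_one, sub_self]
    rw [mul_sub, mul_one, sub_eq_zero] at this
    rw [pow_succ', ← mul_assoc, this, ih]

omit [FiniteDimensional K V] in
theorem norm_sq {h : G} (hs : h ^ s = 1) :
    norm ρ h s * norm ρ h s = s • norm ρ h s := by
  conv_lhs => arg 2; rw [norm]
  rw [Finset.mul_sum, Finset.sum_congr rfl (fun i _ => norm_mul_eq ρ hs i), Finset.sum_const,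
    Finset.card_range]

omit [FiniteDimensional K V] in
theorem moved_mul_norm {c : G} (hs : c ^ s = 1) : moved ρ c s * norm ρ c s = 0 := by
  rw [moved, sub_mul, norm_sq ρ hs, nsmul_eq_mul, sub_self]

omit [FiniteDimensional K V] in
theorem commute_norm {a c : G} (h : Commute a c) (r : ℕ) : Commute (ρ a) (norm ρ c r) :=
  Commute.sum_right _ _ _ fun i _ => (h.map ρ).pow_right i

omit [FiniteDimensional K V] in
theorem commute_moved {a c : G} (h : Commute a c) : Commute (ρ a) (moved ρ c s) :=
  (Nat.commute_cast _ _).sub_right (commute_norm ρ h s)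

/-- Kernel bound for a pair with central commutator `c`. -/
theorem nul_trOp_sub_le_of_class_two [hs : Fact s.Prime] (hK : (s : K) ≠ 0) {u v c : G}
    (hu : u ^ s = 1) (hcs : c ^ s = 1) (hcu : Commute u c) (hcv : Commute v c)
    (huv : v * u = c⁻¹ * u * v) :
    s * nul (trOp ρ u - trOp ρ v) + 2 * fx ρ c ≤ s * fx ρ c + 2 * finrank K V := by
  classical
  set M := moved ρ c s with hM
  set E : ℕ → Module.End K V := fun j => M * norm ρ (c ^ j * u) s with hE
  have hpw : ∀ j, (c ^ j * u) ^ s = 1 := fun j => by
    rw [((hcu.symm).pow_left j).mul_pow, ← pow_mul, mul_comm j s, pow_mul, hcs, one_pow, hu, mul_one]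
  have hMu : ∀ j, Commute (ρ (c ^ j * u)) M := fun j =>
    commute_moved ρ (((Commute.refl c).pow_left j).mul_left hcu)
  have hMN : ∀ j, Commute M (norm ρ (c ^ j * u) s) := fun j =>
    Commute.sum_right _ _ _ fun i _ => ((hMu j).symm).pow_right i
  have hMM : M * M = (s : Module.End K V) * M := by
    conv_lhs => arg 2; rw [hM, moved]
    rw [mul_sub, moved_mul_norm ρ hcs, sub_zero, (Nat.cast_commute s M).eq]
  have hcomm : ∀ i j, Commute (ρ (c ^ i * u)) (norm ρ (c ^ j * u) s) := fun i j =>
    commute_norm ρ ((((Commute.refl c).pow_pow i j).mul_right (hcu.symm.pow_left i)).mul_left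
      ((hcu.pow_right j).mul_right (Commute.refl u))) s
  have hEc : ∀ i j, Commute (ρ (c ^ i * u)) (E j) := fun i j => (hMu i).mul_right (hcomm i j)
  have hEfix : ∀ j, ρ (c ^ j * u) * E j = E j := by
    intro j
    have h1 := norm_mul_eq ρ (hpw j) 1
    rw [pow_one] at h1
    rw [(hEc j j).eq, hE]
    simp only [mul_assoc, h1]
  -- different idempotents annihilate one another
  have horth : ∀ i j, i < s → j < s → i ≠ j → E i * E j = 0 := by
    intro i j hi hj hne
    set X := E i * E j with hX
    have hl : ρ (c ^ i * u) * X = X := by rw [hX, ← mul_assoc, hEfix]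
    have hl' : ρ (c ^ j * u) * X = X := by
      rw [hX, ← mul_assoc, (hEc j i).eq, mul_assoc, hEfix]
    -- some nontrivial power of `c` fixes the range of `X`
    have hk : ∀ a b : ℕ, a ≤ b → ρ (c ^ a * u) * X = X → ρ (c ^ b * u) * X = X →
        ρ (c ^ (b - a)) * X = X := by
      intro a b hab ha hb
      calc ρ (c ^ (b - a)) * X = ρ (c ^ (b - a)) * (ρ (c ^ a * u) * X) := by rw [ha]
        _ = X := by
          rw [← mul_assoc, ← map_mul, ← mul_assoc (c ^ (b - a)), ← pow_add,
            Nat.sub_add_cancel hab, hb]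
    obtain ⟨k, hk0, hks, hkX⟩ : ∃ k, 0 < k ∧ k < s ∧ ρ (c ^ k) * X = X := by
      rcases Nat.lt_or_gt_of_ne hne with h | h
      · exact ⟨j - i, by omega, by omega, hk i j h.le hl hl'⟩
      · exact ⟨i - j, by omega, by omega, hk j i h.le hl' hl⟩
    have hcX : ∀ m, ρ (c ^ (k * m)) * X = X := by
      intro m
      induction m with
      | zero => simp
      | succ m ih => rw [Nat.mul_succ, pow_add, map_mul, mul_assoc, hkX, ih]
    obtain ⟨m, hm⟩ := Nat.exists_mul_mod_eq_one_of_coprime
      ((hs.out.coprime_iff_not_dvd.2 fun hd => absurd (Nat.le_of_dvd hk0 hd) (by omega)).symm)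
      hs.out.one_lt
    have h1 : ρ c * X = X := by
      have := hcX m
      rwa [pow_eq_pow_mod (k * m) hcs, hm.2, pow_one] at this
    have hN : norm ρ c s * X = (s : Module.End K V) * X := by
      have hall : ∀ t : ℕ, ρ c ^ t * X = X := by
        intro t
        induction t with
        | zero => simp
        | succ t ih => rw [pow_succ, mul_assoc, h1, ih]
      rw [norm, Finset.sum_mul, Finset.sum_congr rfl (fun t _ => hall t), Finset.sum_const,
        Finset.card_range, nsmul_eq_mul]
    have hMX : M * X = 0 := by rw [hM, moved, sub_mul, hN, sub_self]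
    have hMX' : M * X = (s : Module.End K V) * X := by
      simp only [hX, hE, ← mul_assoc, hMM]
    rw [hMX] at hMX'
    ext x
    have := congrArg (fun e : Module.End K V => e x) hMX'
    simp only [LinearMap.zero_apply, Module.End.mul_apply, Module.End.natCast_apply] at this
    rw [← Nat.cast_smul_eq_nsmul K] at this
    simpa [hK] using this.symm
  -- squares
  have hsq : ∀ j, E j * E j = ((s * s : ℕ) : Module.End K V) * E j := by
    intro j
    simp only [hE]
    rw [mul_assoc, ← mul_assoc (norm ρ _ s), ← (hMN j).eq, mul_assoc M (norm ρ _ s),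
      norm_sq ρ (hpw j), ← mul_assoc, hMM, nsmul_eq_mul, Nat.cast_mul]
    rw [mul_assoc (s : Module.End K V) M, ← mul_assoc M, ← (Nat.cast_commute s M).eq]
    simp only [mul_assoc]
  -- conjugation by `v` shifts the index
  have hshift : ∀ j, ρ v * norm ρ (c ^ (j + 1) * u) s = norm ρ (c ^ j * u) s * ρ v := by
    intro j
    simp only [norm, Finset.mul_sum, Finset.sum_mul, ← map_pow, ← map_mul]
    refine Finset.sum_congr rfl fun i _ => congrArg ρ ?_
    have h1 : v * (c ^ (j + 1) * u) = c ^ j * u * v := by
      rw [← mul_assoc, (hcv.pow_right _).eq, mul_assoc, huv, ← mul_assoc, ← mul_assoc, pow_succ,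
        mul_inv_cancel_right]
    exact (SemiconjBy.pow_right h1 i).eq
  have hshiftE : ∀ j, ρ v * E (j + 1) = E j * ρ v := by
    intro j
    simp only [hE]
    rw [← mul_assoc, (commute_moved ρ hcv).eq, mul_assoc, hshift, mul_assoc]
  -- all the ranks agree
  have hrk : ∀ j, rk (E j) = rk (E 0) := by
    intro j
    induction j with
    | zero => rfl
    | succ j ih =>
      rw [← ih]
      have h1 : E (j + 1) = ρ v⁻¹ * E j * ρ v := by
        rw [mul_assoc, ← hshiftE, ← mul_assoc, ← map_mul, inv_mul_cancel, map_one, one_mul]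
      have h2 : E j = ρ v * E (j + 1) * ρ v⁻¹ := by
        rw [hshiftE, mul_assoc, ← map_mul, mul_inv_cancel, map_one, mul_one]
      refine le_antisymm ?_ ?_
      · rw [h1]; exact (rk_mul_le_left _ _).trans (rk_mul_le_right _ _)
      · conv_lhs => rw [h2]
        exact (rk_mul_le_left _ _).trans (rk_mul_le_right _ _)
  -- the ranges are independent, inside the kernel of the norm
  have hsum : s * rk (E 0) + fx ρ c ≤ finrank K V := by
    let φ : (Π j : Fin s, LinearMap.range (E j)) →ₗ[K] LinearMap.range M :=
      LinearMap.codRestrict _ (∑ j : Fin s, (LinearMap.range (E j)).subtype ∘ₗ LinearMap.proj j)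
        fun x => by
          rw [LinearMap.sum_apply]
          refine Submodule.sum_mem _ fun j _ => ?_
          obtain ⟨y, hy⟩ := (x j).2
          exact ⟨norm ρ (c ^ (j : ℕ) * u) s y, hy⟩
    have hφ : Function.Injective φ := by
      rw [← LinearMap.ker_eq_bot, eq_bot_iff]
      intro x hx
      rw [LinearMap.mem_ker] at hx
      have hx' := congrArg Subtype.val hx
      simp only [φ, LinearMap.codRestrict_apply, LinearMap.sum_apply, LinearMap.comp_apply,
        LinearMap.proj_apply, Submodule.subtype_apply, ZeroMemClass.coe_zero] at hx'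
      rw [Submodule.mem_bot]
      funext i
      apply Subtype.ext
      have := congrArg (E i) hx'
      rw [map_sum, map_zero, Finset.sum_eq_single i] at this
      · obtain ⟨y, hy⟩ := (x i).2
        rw [← hy, ← Module.End.mul_apply, hsq, Module.End.mul_apply, hy, Module.End.natCast_apply,
          ← Nat.cast_smul_eq_nsmul K] at this
        simpa [hK] using this
      · intro j _ hji
        obtain ⟨y, hy⟩ := (x j).2
        rw [← hy, ← Module.End.mul_apply,
          horth i j i.2 j.2 (fun h => hji (Fin.ext h.symm)), LinearMap.zero_apply]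
      · exact fun h => absurd (Finset.mem_univ i) h
    have h1 := LinearMap.finrank_le_finrank_of_injective hφ
    rw [Module.finrank_pi_fintype, Finset.sum_congr rfl (fun (j : Fin s) _ => hrk j),
      Finset.sum_const, Finset.card_univ, Fintype.card_fin, smul_eq_mul] at h1
    have h2 : fx ρ c ≤ nul M := by
      refine Submodule.finrank_mono fun x hx => ?_
      rw [mem_fixSub] at hx
      have hpow : ∀ i, (ρ c ^ i) x = x := fun i => by
        induction i with
        | zero => rfl
        | succ i ih => rw [pow_succ, Module.End.mul_apply, hx, ih]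
      rw [LinearMap.mem_ker, hM, moved, LinearMap.sub_apply, Module.End.natCast_apply, norm,
        LinearMap.sum_apply, Finset.sum_congr rfl (fun i _ => hpow i), Finset.sum_const,
        Finset.card_range, sub_self]
    have h3 := rk_add_nul M
    change s * rk (E 0) ≤ rk M at h1
    omega
  -- the sum of the idempotents
  have htot : ∑ j ∈ Finset.range s, E j = (s : Module.End K V) * M := by
    simp only [hE, ← Finset.mul_sum]
    have h1 : ∑ j ∈ Finset.range s, norm ρ (c ^ j * u) s
        = (s : Module.End K V) + (norm ρ u s - 1) * norm ρ c s := by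
      rw [← sum_norm ρ u c hcu s hcs]
      exact Finset.sum_congr rfl fun j _ => by rw [(hcu.pow_right j).eq]
    rw [h1, mul_add, ← mul_assoc, (Nat.cast_commute s M).eq,
      show M * (norm ρ u s - 1) = (norm ρ u s - 1) * M from ((Commute.sum_left _ _ _ fun i _ =>
        ((commute_moved ρ hcu).pow_left i)).sub_left (Commute.one_left _)).eq.symm,
      mul_assoc, moved_mul_norm ρ hcs, mul_zero, add_zero]
  -- a kernel vector is determined by three projections
  have hnul : nul (trOp ρ u - trOp ρ v) ≤ fx ρ c + rk (E 0) + rk (E 0) := by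
    set T := trOp ρ u - trOp ρ v with hT
    let ψ : LinearMap.ker T →ₗ[K]
        fixSub ρ c × LinearMap.range (E 0) × LinearMap.range (E 1) :=
      LinearMap.prod
        (((norm ρ c s).codRestrict _ fun x => norm_range_le ρ hcs ⟨x, rfl⟩) ∘ₗ
          (LinearMap.ker T).subtype)
        (LinearMap.prod ((E 0).rangeRestrict ∘ₗ (LinearMap.ker T).subtype)
          ((E 1).rangeRestrict ∘ₗ (LinearMap.ker T).subtype))
    have hψ : Function.Injective ψ := by
      rw [← LinearMap.ker_eq_bot, eq_bot_iff]
      intro x hx
      rw [LinearMap.mem_ker] at hx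
      have hN : norm ρ c s (x : V) = 0 := congrArg Subtype.val (Prod.ext_iff.1 hx).1
      have h0 : E 0 (x : V) = 0 := congrArg Subtype.val (Prod.ext_iff.1 (Prod.ext_iff.1 hx).2).1
      have h1 : E 1 (x : V) = 0 := congrArg Subtype.val (Prod.ext_iff.1 (Prod.ext_iff.1 hx).2).2
      have hxT : T (x : V) = 0 := x.2
      have hstep : ∀ j, E j (x : V) = 0 → E (j + 1) (x : V) = 0 → E (j + 2) (x : V) = 0 := by
        intro j ha hb
        set d := c ^ (j + 1) * u with hd
        have hfix : E (j + 1) * ρ d = E (j + 1) := by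
          simp only [hE, mul_assoc]
          congr 1
          have := norm_mul_eq ρ (hpw (j + 1)) 1
          rwa [pow_one] at this
        have hfix' : E (j + 1) * ρ d⁻¹ = E (j + 1) := by
          conv_lhs => rw [← hfix]
          rw [mul_assoc, ← map_mul, mul_inv_cancel, map_one, mul_one]
        have hc1 : ∀ m : ℕ, Commute (ρ (c ^ m)) (E (j + 1)) := fun m =>
          ((commute_moved ρ ((Commute.refl c).pow_left m)).mul_right
            (commute_norm ρ (((Commute.refl c).pow_pow m (j + 1)).mul_right (hcu.symm.pow_left m)) s))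
        have hu1 : E (j + 1) * ρ u = ρ (c ^ (j + 1))⁻¹ * E (j + 1) := by
          have : ρ (c ^ (j + 1)) * (E (j + 1) * ρ u) = E (j + 1) := by
            rw [← mul_assoc, (hc1 _).eq, mul_assoc, ← map_mul, hfix]
          conv_rhs => rw [← this]
          rw [← mul_assoc (ρ _), ← map_mul, inv_mul_cancel, map_one, one_mul]
        have hu2 : E (j + 1) * ρ u⁻¹ = ρ (c ^ (j + 1)) * E (j + 1) := by
          have e : u⁻¹ = c ^ (j + 1) * d⁻¹ := by
            rw [hd, mul_inv_rev, ← mul_assoc, ((hcu.pow_right (j + 1)).inv_left).symm.eq,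
              mul_inv_cancel_right]
          rw [e, map_mul, ← mul_assoc, ← (hc1 _).eq, mul_assoc, hfix']
        have hv1 : E (j + 1) * ρ v = ρ v * E (j + 2) := (hshiftE (j + 1)).symm
        have hv2 : E (j + 1) * ρ v⁻¹ = ρ v⁻¹ * E j := by
          have := hshiftE j
          calc E (j + 1) * ρ v⁻¹ = ρ v⁻¹ * (ρ v * E (j + 1)) * ρ v⁻¹ := by
                rw [← mul_assoc (ρ v⁻¹), ← map_mul, inv_mul_cancel, map_one, one_mul]
            _ = _ := by rw [this, mul_assoc, mul_assoc, ← map_mul, mul_inv_cancel, map_one, mul_one]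
        have h := congrArg (E (j + 1)) hxT
        simp only [hT, trOp, LinearMap.sub_apply, LinearMap.add_apply, map_sub, map_add, map_zero,
          ← Module.End.mul_apply, hu1, hu2, hv1, hv2] at h
        simp only [Module.End.mul_apply, ha, hb, map_zero, add_zero, zero_sub, neg_eq_zero] at h
        have := congrArg (ρ v⁻¹) h
        rwa [← Module.End.mul_apply, ← map_mul, inv_mul_cancel, map_one, Module.End.one_apply,
          map_zero] at this
      have hall : ∀ j, E j (x : V) = 0 ∧ E (j + 1) (x : V) = 0 := by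
        intro j
        induction j with
        | zero => exact ⟨h0, h1⟩
        | succ j ih => exact ⟨ih.2, hstep j ih.1 ih.2⟩
      have := congrArg (fun e : Module.End K V => e (x : V)) htot
      simp only [LinearMap.sum_apply, fun j => (hall j).1, Finset.sum_const_zero, Module.End.mul_apply,
        hM, moved, LinearMap.sub_apply, hN, sub_zero, Module.End.natCast_apply] at this
      rw [Submodule.mem_bot]
      apply Subtype.ext
      rw [← Nat.cast_smul_eq_nsmul K, ← Nat.cast_smul_eq_nsmul K, smul_smul] at this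
      simpa [hK] using this.symm
    have := LinearMap.finrank_le_finrank_of_injective hψ
    rw [Module.finrank_prod, Module.finrank_prod] at this
    have hr1 := hrk 1
    unfold nul fx rk at *
    omega
  have h1 := Nat.mul_le_mul_left s hnul
  rw [mul_add, mul_add] at h1
  omega

end Cfsg.Agent.FixedSpace
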