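import Cfsg.Agent.Lib.FixedSpace.Edge
import Cfsg.Agent.Lib.FixedSpace.Sections

/-!
# Irreducible representations of `SL(2,p)` in characteristic `p`

Every irreducible representation is the module of homogeneous polynomial functions of some degree
`k ≤ p - 1`: it has a basis of weight vectors on which `Σ m⁻¹ cᵐ` raises the index, and an element
of order three fixes a subspace of dimension at least `fixBound k`.
-/

set_option autoImplicit false

namespace Cfsg.Agent.FixedSpace

open Module Matrix
open scoped MatrixGroups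

universe v w

variable {p : ℕ} [hp : Fact p.Prime]

/-- Lower bound for the fixed space of an element of order three on polynomials of degree `k`. -/
def fixBound (k : ℕ) : ℕ := if k % 3 = 1 then k / 3 else k / 3 + 1

/-- Nonzero vectors. -/
abbrev Vec (p : ℕ) : Type := {v : Fin 2 → ZMod p // v ≠ 0}

variable {K : Type v} [Field K]

/-- The action on vectors. -/
def act (g : SL(2, ZMod p)) (v : Vec p) : Vec p :=
  ⟨(g : Matrix (Fin 2) (Fin 2) (ZMod p)).mulVec v.1, fun h => v.2 (by
    have h1 := congrArg ((g⁻¹ : SL(2, ZMod p)) : Matrix (Fin 2) (Fin 2) (ZMod p)).mulVec h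
    rwa [Matrix.mulVec_mulVec, ← Matrix.SpecialLinearGroup.coe_mul, inv_mul_cancel,
      Matrix.SpecialLinearGroup.coe_one, Matrix.one_mulVec, Matrix.mulVec_zero] at h1)⟩

theorem act_one (v : Vec p) : act 1 v = v := Subtype.ext (by simp [act])

theorem act_mul (g h : SL(2, ZMod p)) (v : Vec p) : act (g * h) v = act g (act h v) :=
  Subtype.ext (by simp only [act, Matrix.SpecialLinearGroup.coe_mul, Matrix.mulVec_mulVec])

/-- The representation on functions on nonzero vectors. -/
noncomputable def funRep (p : ℕ) [Fact p.Prime] (K : Type v) [Field K] :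
    Representation K SL(2, ZMod p) (Vec p → K) where
  toFun g :=
    { toFun := fun F v => F (act g⁻¹ v)
      map_add' := fun _ _ => rfl
      map_smul' := fun _ _ => rfl }
  map_one' := LinearMap.ext fun F => funext fun v => by
    show F (act (1 : SL(2, ZMod p))⁻¹ v) = F v
    rw [inv_one, act_one]
  map_mul' g h := LinearMap.ext fun F => funext fun v => by
    show F (act (g * h)⁻¹ v) = F (act h⁻¹ (act g⁻¹ v))
    rw [_root_.mul_inv_rev, act_mul]

theorem funRep_apply (g : SL(2, ZMod p)) (F : Vec p → K) (v : Vec p) :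
    funRep p K g F v = F (act g⁻¹ v) := rfl

/-- The torus element. -/
def tor (g : (ZMod p)ˣ) : SL(2, ZMod p) :=
  ⟨!![(g : ZMod p), 0; 0, ((g⁻¹ : (ZMod p)ˣ) : ZMod p)], by
    simp [Matrix.det_fin_two, -Units.val_inv_eq_inv_val]⟩

theorem coe_tor (g : (ZMod p)ˣ) : (tor g : Matrix (Fin 2) (Fin 2) (ZMod p)) =
    !![(g : ZMod p), 0; 0, ((g⁻¹ : (ZMod p)ˣ) : ZMod p)] := rfl

theorem tor_pow_eq_one (g : (ZMod p)ˣ) : tor g ^ (p - 1) = 1 := by
  have h : ∀ n : ℕ, tor g ^ n = tor (g ^ n) := by
    intro n
    induction n with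
    | zero =>
      apply Subtype.ext
      ext i j
      fin_cases i <;> fin_cases j <;> simp [coe_tor, -Units.val_inv_eq_inv_val]
    | succ n ih =>
      rw [pow_succ, ih]
      apply Subtype.ext
      ext i j
      fin_cases i <;> fin_cases j <;>
        simp [coe_tor, -Units.val_inv_eq_inv_val, Matrix.mul_apply, Fin.sum_univ_two, pow_succ, mul_comm]
  rw [h, ← ZMod.card_units p, pow_card_eq_one]
  apply Subtype.ext
  ext i j
  fin_cases i <;> fin_cases j <;> simp [coe_tor, -Units.val_inv_eq_inv_val]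

theorem tor_cc (g : (ZMod p)ˣ) (m : ℕ) :
    tor g * cc p ^ m * (tor g)⁻¹ = cc p ^ (((g : ZMod p) ^ 2).val * m) := by
  rw [mul_inv_eq_iff_eq_mul]
  apply Subtype.ext
  simp only [Matrix.SpecialLinearGroup.coe_mul, cc_pow, Nat.cast_mul, ZMod.natCast_zmod_val]
  ext i j
  fin_cases i <;> fin_cases j <;> simp [coe_tor, -Units.val_inv_eq_inv_val, Matrix.mul_apply, Fin.sum_univ_two]
  first
    | linear_combination ((m : ZMod p) * (g : ZMod p)) * Units.mul_inv g
    | linear_combination (-(m : ZMod p) * (g : ZMod p)) * Units.mul_inv g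

/-- The operator `Σ m⁻¹ cᵐ`. -/
noncomputable def eOp {V : Type w} [AddCommGroup V] [Module K V]
    (ρ : Representation K SL(2, ZMod p) V) : Module.End K V :=
  ∑ m ∈ Finset.Ico 1 p, (m : K)⁻¹ • ρ (cc p ^ m)

theorem cast_ne_zero [CharP K p] {m : ℕ} (h1 : 1 ≤ m) (h2 : m < p) : (m : K) ≠ 0 := by
  rw [Ne, CharP.cast_eq_zero_iff K p]
  exact fun h => absurd (Nat.le_of_dvd h1 h) (by omega)

variable [CharP K p]

/-- Power sums. -/
theorem sum_pow_Ico {r : ℕ} (hr : r ≤ p - 1) :
    ∑ m ∈ Finset.Ico 1 p, (m : K) ^ r = if r = 0 ∨ r = p - 1 then -1 else 0 := by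
  classical
  have e : ∑ m ∈ Finset.Ico 1 p, (m : K) ^ r =
      ∑ a : (ZMod p)ˣ, (ZMod.castHom (dvd_refl p) K) ((a : ZMod p) ^ r) := by
    refine (Finset.sum_bij (fun (a : (ZMod p)ˣ) _ => (a : ZMod p).val) (fun a _ => ?_) (fun a _ b _ h => ?_)
      (fun m hm => ?_) (fun a _ => ?_)).symm
    · rw [Finset.mem_Ico]
      exact ⟨Nat.one_le_iff_ne_zero.2 fun h => a.ne_zero ((ZMod.val_eq_zero _).1 h),
        ZMod.val_lt _⟩
    · exact Units.ext (ZMod.val_injective p h)
    · rw [Finset.mem_Ico] at hm
      have h0 : (m : ZMod p) ≠ 0 := by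
        rw [Ne, ZMod.natCast_eq_zero_iff]
        exact fun h => absurd (Nat.le_of_dvd (by omega) h) (by omega)
      exact ⟨Units.mk0 _ h0, Finset.mem_univ _, by simp [ZMod.val_cast_of_lt hm.2]⟩
    · rw [map_pow, ← map_natCast (ZMod.castHom (dvd_refl p) K), ZMod.natCast_zmod_val]
  rw [e, ← map_sum, FiniteField.sum_pow_units]
  rcases (show r = 0 ∨ r = p - 1 ∨ (0 < r ∧ r < p - 1) by omega) with h | h | ⟨h1, h2⟩
  · simp [h]
  · simp [h, ZMod.card]
  · rw [if_neg, if_neg (by omega), map_zero]
    rw [ZMod.card]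
    exact fun h => absurd (Nat.le_of_dvd h1 h) (by omega)

/-- The monomial functions. -/
noncomputable def mono (k i : ℕ) (v : Vec p) : K :=
  (ZMod.castHom (dvd_refl p) K (v.1 0)) ^ (k - i) * (ZMod.castHom (dvd_refl p) K (v.1 1)) ^ i

/-- The space of polynomial functions of degree `k`. -/
noncomputable def polySpace (p : ℕ) [Fact p.Prime] (K : Type v) [Field K] [CharP K p] (k : ℕ) :
    Submodule K (Vec p → K) :=
  Submodule.span K (Set.range fun i : Fin (k + 1) => mono k i)

theorem mono_mem {k i : ℕ} (hi : i ≤ k) : mono k i ∈ polySpace p K k :=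
  Submodule.subset_span ⟨⟨i, Nat.lt_succ_of_le hi⟩, rfl⟩

theorem cast_val_eq (a : ZMod p) : (ZMod.castHom (dvd_refl p) K a) = (a.val : K) := by
  conv_lhs => rw [← ZMod.natCast_zmod_val a]
  rw [map_natCast]

theorem mono_indep {k : ℕ} (hk : k ≤ p - 1) :
    LinearIndependent K (fun i : Fin (k + 1) => (mono k i : Vec p → K)) := by
  classical
  rw [Fintype.linearIndependent_iff]
  intro c hc
  let P : Polynomial K := ∑ i : Fin (k + 1), Polynomial.monomial (k - (i : ℕ)) (c i)
  have hdeg : P.natDegree < p := by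
    refine lt_of_le_of_lt (Polynomial.natDegree_sum_le_of_forall_le _ _ fun i _ =>
      (Polynomial.natDegree_monomial_le _).trans (Nat.sub_le k _)) ?_
    have := hp.out.one_lt
    omega
  have hP : P = 0 := by
    refine Polynomial.eq_zero_of_natDegree_lt_card_of_eval_eq_zero' P
      ((Finset.univ : Finset (ZMod p)).image (ZMod.castHom (dvd_refl p) K)) ?_ ?_
    · intro x hx
      obtain ⟨a, -, rfl⟩ := Finset.mem_image.1 hx
      have h := congrFun hc ⟨![a, 1], fun h => one_ne_zero (congrFun h 1)⟩
      simp only [Finset.sum_apply, Pi.smul_apply, mono, Matrix.cons_val_zero, Matrix.cons_val_one,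
        map_one, one_pow, mul_one, smul_eq_mul, Pi.zero_apply] at h
      simp only [P, Polynomial.eval_finset_sum, Polynomial.eval_monomial]
      exact h
    · rw [Finset.card_image_of_injective _ (RingHom.injective _), Finset.card_univ, ZMod.card]
      exact hdeg
  intro i
  have h := congrArg (fun Q => Polynomial.coeff Q (k - (i : ℕ))) hP
  simp only [P, Polynomial.finset_sum_coeff, Polynomial.coeff_monomial, Polynomial.coeff_zero] at h
  rw [Finset.sum_eq_single i (fun j _ hj => if_neg fun h => hj (Fin.ext (by omega))) (by simp),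
    if_pos rfl] at h
  exact h

/-- The basis of monomials. -/
noncomputable def monoBasis {k : ℕ} (hk : k ≤ p - 1) :
    Basis (Fin (k + 1)) K (polySpace p K k) := Basis.span (mono_indep hk)

theorem monoBasis_apply {k : ℕ} (hk : k ≤ p - 1) (i : Fin (k + 1)) :
    ((monoBasis hk i : polySpace p K k) : Vec p → K) = mono k i :=
  congrArg Subtype.val (show monoBasis hk i = _ from Basis.span_apply (mono_indep hk) i)

theorem funRep_cc_pow_mono (k i m : ℕ) :
    funRep p K (cc p ^ m) (mono k i) =
      ∑ r ∈ Finset.range (k - i + 1),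
        ((-1) ^ r * (m : K) ^ r * ((k - i).choose r : K)) • mono (k - i + i) (i + r) := by
  funext v
  have h1 : (cc p ^ m)⁻¹ = (cc p ^ m)⁻¹ := rfl
  have hv : (act (cc p ^ m)⁻¹ v).1 = ![v.1 0 - (m : ZMod p) * v.1 1, v.1 1] := by
    funext j
    simp only [act, Matrix.SpecialLinearGroup.coe_inv, cc_pow, Matrix.adjugate_fin_two]
    fin_cases j <;> simp [Matrix.mulVec, dotProduct, Fin.sum_univ_two] <;> ring
  simp only [funRep_apply, mono, hv, Matrix.cons_val_zero, Matrix.cons_val_one, map_sub, map_mul,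
    map_natCast, Finset.sum_apply, Pi.smul_apply, smul_eq_mul]
  rw [sub_eq_neg_add, add_pow, Finset.sum_mul]
  refine Finset.sum_congr rfl fun r hr => ?_
  rw [Finset.mem_range] at hr
  rw [show k - i + i - (i + r) = k - i - r by omega, neg_pow, mul_pow, pow_add]
  ring

theorem funRep_cc_pow_mem (k m : ℕ) {F : Vec p → K} (hF : F ∈ polySpace p K k) :
    funRep p K (cc p ^ m) F ∈ polySpace p K k := by
  induction hF using Submodule.span_induction with
  | mem x hx =>
    obtain ⟨⟨i, hi⟩, rfl⟩ := hx
    simp only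
    rw [funRep_cc_pow_mono]
    refine Submodule.sum_mem _ fun r hr => Submodule.smul_mem _ _ ?_
    rw [Finset.mem_range] at hr
    rw [show k - i + i = k by omega]
    exact mono_mem (by omega)
  | zero => simp
  | add x y _ _ hx hy => rw [map_add]; exact add_mem hx hy
  | smul a x _ hx => rw [map_smul]; exact Submodule.smul_mem _ _ hx

theorem funRep_eOp_mono (h7 : 7 ≤ p) {k i : ℕ} (hk : k ≤ p - 1) (hi : i ≤ k) :
    eOp (funRep p K) (mono k i) = ((k - i : ℕ) : K) • mono k (i + 1) := by
  have hp2 := hp.out.two_le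
  simp only [eOp, LinearMap.sum_apply, LinearMap.smul_apply, funRep_cc_pow_mono, Finset.smul_sum,
    smul_smul]
  rw [Finset.sum_comm]
  simp only [← Finset.sum_smul, show k - i + i = k by omega]
  have hcoef : ∀ r ∈ Finset.range (k - i + 1),
      ∑ m ∈ Finset.Ico 1 p, (m : K)⁻¹ * ((-1) ^ r * (m : K) ^ r * ((k - i).choose r : K)) =
        if r = 1 then ((k - i : ℕ) : K) else 0 := by
    intro r hr
    rw [Finset.mem_range] at hr
    have h1 : ∀ m ∈ Finset.Ico 1 p,
        (m : K)⁻¹ * ((-1) ^ r * (m : K) ^ r * ((k - i).choose r : K)) =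
          ((-1) ^ r * ((k - i).choose r : K)) * (m : K) ^ (if r = 0 then p - 2 else r - 1) := by
      intro m hm
      rw [Finset.mem_Ico] at hm
      have hm0 : (m : K) ≠ 0 := cast_ne_zero hm.1 hm.2
      rcases Nat.eq_zero_or_pos r with rfl | hr0
      · have hf : (m : K) ^ (p - 1) = 1 := by
          rw [← map_natCast (ZMod.castHom (dvd_refl p) K), ← map_pow,
            ZMod.pow_card_sub_one_eq_one (fun h => hm0 (by
              rw [← map_natCast (ZMod.castHom (dvd_refl p) K), h, map_zero])), map_one]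
        have : (m : K)⁻¹ = (m : K) ^ (p - 2) := by
          refine inv_eq_of_mul_eq_one_right ?_
          rw [← pow_succ', show p - 2 + 1 = p - 1 by omega, hf]
        simp [this]
      · obtain ⟨r', rfl⟩ : ∃ r', r = r' + 1 := ⟨r - 1, by omega⟩
        rw [if_neg (by omega), Nat.add_sub_cancel, pow_succ' (m : K)]
        field_simp
    rw [Finset.sum_congr rfl h1, ← Finset.mul_sum, sum_pow_Ico (by split_ifs <;> omega)]
    rcases Nat.lt_trichotomy r 1 with h | h | h
    · obtain rfl : r = 0 := by omega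
      rw [if_neg (show ¬ (0 = 1) by omega), if_pos rfl]
      rw [if_neg (by omega), mul_zero]
    · subst h
      simp
    · rw [if_neg (by omega : r ≠ 0), if_neg (by omega), if_neg (by omega : r ≠ 1), mul_zero]
  rw [Finset.sum_congr rfl (fun r hr => by rw [hcoef r hr])]
  by_cases hik : i = k
  · subst hik
    simp
  · rw [Finset.sum_eq_single 1 (fun r _ hr => by rw [if_neg hr, zero_smul])
      (fun h => absurd (Finset.mem_range.2 (by omega)) h), if_pos rfl]

theorem funRep_tor_mono (g : (ZMod p)ˣ) {k i : ℕ} (hi : i ≤ k) :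
    funRep p K (tor g) (mono k i) =
      (ZMod.castHom (dvd_refl p) K (g : ZMod p)) ^ (2 * (i : ℤ) - k) • mono k i := by
  funext v
  have hv : (act (tor g)⁻¹ v).1 = ![((g⁻¹ : (ZMod p)ˣ) : ZMod p) * v.1 0, (g : ZMod p) * v.1 1] := by
    funext j
    simp only [act, Matrix.SpecialLinearGroup.coe_inv, coe_tor, Matrix.adjugate_fin_two]
    fin_cases j <;> simp [-Units.val_inv_eq_inv_val, Matrix.mulVec, dotProduct, Fin.sum_univ_two]
  have hg : ZMod.castHom (dvd_refl p) K (g : ZMod p) ≠ 0 :=
    (map_ne_zero _).2 g.ne_zero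
  simp only [funRep_apply, mono, hv, Matrix.cons_val_zero, Matrix.cons_val_one, map_mul,
    Pi.smul_apply, smul_eq_mul]
  rw [show ((g⁻¹ : (ZMod p)ˣ) : ZMod p) = ((g : ZMod p))⁻¹ from Units.val_inv_eq_inv_val g, map_inv₀]
  obtain ⟨j, rfl⟩ := Nat.exists_eq_add_of_le hi
  rw [show 2 * (i : ℤ) - (i + j : ℕ) = (i : ℤ) - j by push_cast; ring, zpow_sub₀ hg, zpow_natCast,
    zpow_natCast, Nat.add_sub_cancel_left, mul_pow, mul_pow, inv_pow]
  field_simp

/-- The polynomial functions contain an element fixed by an element of order three and not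
vanishing at `(1, 0)`. -/
theorem exists_fixed_value {k : ℕ} (h7 : 7 ≤ p) (hk : 2 ≤ k ∨ k = 0) :
    ∃ F ∈ polySpace p K k, funRep p K (cc p * (jj p)⁻¹) F = F ∧
      F ⟨![1, 0], fun h => one_ne_zero (congrFun h 0)⟩ ≠ 0 := by
  rcases hk with hk | rfl
  swap
  · refine ⟨mono 0 0, mono_mem le_rfl, ?_, by simp [mono]⟩
    funext v
    simp [funRep_apply, mono]
  set x := cc p * (jj p)⁻¹ with hx
  set h := (mono k 0 : Vec p → K) - mono k 1 with hh
  have hx3 : x ^ 3 = 1 := ord_three
  have hact : ∀ v : Vec p, (act x⁻¹ v).1 = ![-v.1 1, v.1 0 - v.1 1] := by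
    intro v
    funext j
    simp only [act, hx, _root_.mul_inv_rev, inv_inv, Matrix.SpecialLinearGroup.coe_mul,
      Matrix.SpecialLinearGroup.coe_inv, coe_jj, coe_cc, Matrix.adjugate_fin_two]
    fin_cases j <;> simp [Matrix.mulVec, dotProduct, Fin.sum_univ_two, Matrix.mul_apply] <;> ring
  have hmem : ∀ F ∈ polySpace p K k, funRep p K x F ∈ polySpace p K k := by
    intro F hF
    induction hF using Submodule.span_induction with
    | mem y hy =>
      obtain ⟨⟨i, hi⟩, rfl⟩ := hy
      have : funRep p K x (mono k i) = ∑ r ∈ Finset.range (i + 1),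
          ((-1) ^ (k - i) * ((-1) ^ (i - r) * (i.choose r : K))) • mono k (k - r) := by
        funext v
        simp only [funRep_apply, mono, hact, Matrix.cons_val_zero, Matrix.cons_val_one, map_sub,
          map_neg, Finset.sum_apply, Pi.smul_apply, smul_eq_mul]
        rw [sub_eq_add_neg (ZMod.castHom _ K (v.1 0)), add_pow, Finset.mul_sum]
        refine Finset.sum_congr rfl fun r hr => ?_
        rw [Finset.mem_range] at hr
        rw [show k - (k - r) = r by omega, neg_pow, neg_pow (ZMod.castHom _ K (v.1 1)),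
          show k - r = (k - i) + (i - r) by omega, pow_add]
        ring
      simp only
      rw [this]
      exact Submodule.sum_mem _ fun r _ => Submodule.smul_mem _ _ (mono_mem (Nat.sub_le k r))
    | zero => simp
    | add x y _ _ hx hy => rw [map_add]; exact add_mem hx hy
    | smul a x _ hx => rw [map_smul]; exact Submodule.smul_mem _ _ hx
  have hh' : h ∈ polySpace p K k := sub_mem (mono_mem (Nat.zero_le k)) (mono_mem (by omega))
  refine ⟨norm (funRep p K) x 3 h, ?_, (mem_fixSub _).1 (norm_range_le _ hx3 ⟨h, rfl⟩), ?_⟩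
  · simp only [norm, Finset.sum_range_succ, Finset.sum_range_zero, zero_add, pow_zero, pow_one,
      pow_two, LinearMap.add_apply, Module.End.one_apply, Module.End.mul_apply]
    exact add_mem (add_mem hh' (hmem _ hh')) (hmem _ (hmem _ hh'))
  · simp only [norm, Finset.sum_range_succ, Finset.sum_range_zero, zero_add, pow_zero, pow_one,
      pow_two, LinearMap.add_apply, Module.End.one_apply, Module.End.mul_apply, Pi.add_apply,
      funRep_apply, hh, Pi.sub_apply, mono, hact, Matrix.cons_val_zero, Matrix.cons_val_one]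
    have hk1 : k - 1 ≠ 0 := by omega
    have hk0 : k ≠ 0 := by omega
    simp [zero_pow hk1, zero_pow hk0]
    rw [show k = (k - 1) + 1 by omega, pow_succ, Nat.add_sub_cancel]
    ring_nf
    exact one_ne_zero

/-- Fixed polynomial functions of the element of order three. -/
theorem fixBound_le (h7 : 7 ≤ p) : ∀ k : ℕ, k ≤ p - 1 →
    fixBound k ≤ finrank K ↥(polySpace p K k ⊓ fixSub (funRep p K) (cc p * (jj p)⁻¹)) := by
  intro k
  induction k using Nat.strong_induction_on with
  | _ k IH =>
    intro hk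
    haveI : FiniteDimensional K (polySpace p K k) := (monoBasis hk).finiteDimensional_of_finite
    rcases (show k = 1 ∨ k = 0 ∨ k = 2 ∨ 3 ≤ k by omega) with rfl | h | h | h3
    · simp [fixBound]
    · obtain ⟨F, hF, hFx, hF1⟩ := exists_fixed_value (K := K) h7 (Or.inr h)
      subst h
      simp only [fixBound, Nat.zero_div, Nat.zero_mod, zero_add,
        show ¬ (0 = 1) by omega, if_false]
      refine Submodule.one_le_finrank_iff.2 fun h => hF1 ?_
      have : F = 0 := (Submodule.eq_bot_iff _).1 h F ⟨hF, (mem_fixSub _).2 hFx⟩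
      rw [this, Pi.zero_apply]
    · obtain ⟨F, hF, hFx, hF1⟩ := exists_fixed_value (K := K) h7 (k := k) (Or.inl (by omega))
      subst h
      rw [show fixBound 2 = 1 from rfl]
      refine Submodule.one_le_finrank_iff.2 fun h => hF1 ?_
      have : F = 0 := (Submodule.eq_bot_iff _).1 h F ⟨hF, (mem_fixSub _).2 hFx⟩
      rw [this, Pi.zero_apply]
    · obtain ⟨j, rfl⟩ : ∃ j, k = j + 3 := ⟨k - 3, by omega⟩
      haveI : FiniteDimensional K (polySpace p K j) :=
        (monoBasis (show j ≤ p - 1 by omega)).finiteDimensional_of_finite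
      set x := cc p * (jj p)⁻¹ with hx
      -- multiplication by the fixed cubic
      let C : Vec p → K := fun v => ZMod.castHom (dvd_refl p) K (v.1 0 * v.1 1 * (v.1 0 - v.1 1))
      let M : (Vec p → K) →ₗ[K] (Vec p → K) := LinearMap.mulLeft K C
      have hact : ∀ v : Vec p, (act x⁻¹ v).1 = ![-v.1 1, v.1 0 - v.1 1] := by
        intro v
        funext j
        simp only [act, hx, _root_.mul_inv_rev, inv_inv, Matrix.SpecialLinearGroup.coe_mul,
          Matrix.SpecialLinearGroup.coe_inv, coe_jj, coe_cc, Matrix.adjugate_fin_two]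
        fin_cases j <;> simp [Matrix.mulVec, dotProduct, Fin.sum_univ_two, Matrix.mul_apply] <;> ring
      have hMmono : ∀ i, i ≤ j → M (mono j i) = mono (j + 3) (i + 1) - mono (j + 3) (i + 2) := by
        intro i hi
        funext v
        simp only [M, LinearMap.mulLeft_apply, Pi.mul_apply, C, mono, Pi.sub_apply, map_mul, map_sub]
        rw [show j + 3 - (i + 1) = (j - i) + 2 by omega, show j + 3 - (i + 2) = (j - i) + 1 by omega]
        ring
      have hMmem : ∀ F ∈ polySpace p K j, M F ∈ polySpace p K (j + 3) := by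
        intro F hF
        induction hF using Submodule.span_induction with
        | mem y hy =>
          obtain ⟨⟨i, hi⟩, rfl⟩ := hy
          simp only
          rw [hMmono i (by omega)]
          exact sub_mem (mono_mem (by omega)) (mono_mem (by omega))
        | zero => simp
        | add x y _ _ hx hy => rw [map_add]; exact add_mem hx hy
        | smul a x _ hx => rw [map_smul]; exact Submodule.smul_mem _ _ hx
      have hMinj : ∀ F ∈ polySpace p K j, M F = 0 → F = 0 := by
        classical
        intro F hF h0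
        obtain ⟨c, rfl⟩ := (Submodule.mem_span_range_iff_exists_fun K).1 hF
        let P : Polynomial K := ∑ i : Fin (j + 1), Polynomial.monomial (j - (i : ℕ)) (c i)
        have hdeg : P.natDegree ≤ j := Polynomial.natDegree_sum_le_of_forall_le _ _ fun i _ =>
          (Polynomial.natDegree_monomial_le _).trans (Nat.sub_le j _)
        have hP : P = 0 := by
          refine Polynomial.eq_zero_of_natDegree_lt_card_of_eval_eq_zero' P
            (((Finset.univ : Finset (ZMod p)).filter fun a => a ≠ 0 ∧ a ≠ 1).image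
              (ZMod.castHom (dvd_refl p) K)) ?_ ?_
          · intro y hy
            obtain ⟨a, ha, rfl⟩ := Finset.mem_image.1 hy
            obtain ⟨-, ha0, ha1⟩ := Finset.mem_filter.1 ha
            have h := congrFun h0 ⟨![a, 1], fun h => one_ne_zero (congrFun h 1)⟩
            simp only [M, LinearMap.mulLeft_apply, Pi.mul_apply, Finset.sum_apply, Pi.smul_apply,
              mono, C, Matrix.cons_val_zero, Matrix.cons_val_one, map_one, one_pow, mul_one,
              smul_eq_mul, Pi.zero_apply, mul_eq_zero] at h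
            rcases h with h | h
            · rw [map_eq_zero, mul_eq_zero] at h
              rcases h with h | h
              · exact absurd h ha0
              · exact absurd (sub_eq_zero.1 h) ha1
            · simpa [P, Polynomial.eval_finset_sum, Polynomial.eval_monomial] using h
          · rw [Finset.card_image_of_injective _ (RingHom.injective _)]
            have : ((Finset.univ : Finset (ZMod p)).filter fun a => a ≠ 0 ∧ a ≠ 1) =
                Finset.univ \ {0, 1} := by ext a; simp
            rw [this, Finset.card_sdiff_of_subset (Finset.subset_univ _), Finset.card_univ, ZMod.card,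
              Finset.card_pair zero_ne_one]
            omega
        refine Finset.sum_eq_zero fun i _ => ?_
        have h := congrArg (fun Q => Polynomial.coeff Q (j - (i : ℕ))) hP
        simp only [P, Polynomial.finset_sum_coeff, Polynomial.coeff_monomial,
          Polynomial.coeff_zero] at h
        rw [Finset.sum_eq_single i (fun l _ hl => if_neg fun h => hl (Fin.ext (by omega)))
          (by simp), if_pos rfl] at h
        rw [h, zero_smul]
      have hMfix : ∀ F, funRep p K x F = F → funRep p K x (M F) = M F := by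
        intro F hF
        funext v
        have h := congrFun hF v
        rw [funRep_apply] at h
        simp only [funRep_apply, M, LinearMap.mulLeft_apply, Pi.mul_apply, h]
        congr 1
        simp only [C, hact, Matrix.cons_val_zero, Matrix.cons_val_one]
        congr 1
        ring
      set S := polySpace p K j ⊓ fixSub (funRep p K) x with hS
      set T := polySpace p K (j + 3) ⊓ fixSub (funRep p K) x with hT
      obtain ⟨F, hF, hFx, hF1⟩ :=
        exists_fixed_value (K := K) h7 (k := j + 3) (Or.inl (by omega))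
      haveI : FiniteDimensional K S := Submodule.finiteDimensional_inf_left _ _
      haveI : FiniteDimensional K T := Submodule.finiteDimensional_inf_left _ _
      have hlt : S.map M < T := by
        refine lt_of_le_of_ne ?_ fun h => ?_
        · rintro y ⟨G, ⟨hG1, hG2⟩, rfl⟩
          exact ⟨hMmem G hG1, (mem_fixSub _).2 (hMfix G ((mem_fixSub _).1 hG2))⟩
        · have hFT : F ∈ T := ⟨hF, (mem_fixSub _).2 hFx⟩
          rw [← h] at hFT
          obtain ⟨G, -, rfl⟩ := hFT
          refine hF1 ?_
          simp [M, C]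
      have h1 := Submodule.finrank_lt_finrank_of_lt hlt
      have h2 : finrank K (S.map M) = finrank K S := by
        rw [← LinearMap.range_domRestrict]
        exact LinearMap.finrank_range_of_inj fun a b hab => Subtype.ext (sub_eq_zero.1
          (hMinj _ (sub_mem a.2.1 b.2.1) (by rw [map_sub, sub_eq_zero]; exact hab)))
      have h4 : fixBound j ≤ finrank K S := IH j (by omega) (by omega)
      have : fixBound (j + 3) = fixBound j + 1 := by
        unfold fixBound
        rw [show (j + 3) % 3 = j % 3 by omega, show (j + 3) / 3 = j / 3 + 1 by omega]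
        split_ifs <;> omega
      omega

variable {V : Type w} [AddCommGroup V] [Module K V] [FiniteDimensional K V]

section Classify

variable (g : (ZMod p)ˣ)

/-- The primitive root in `K`. -/
local notation "γ" => ZMod.castHom (dvd_refl p) K (g : ZMod p)

omit [FiniteDimensional K V] in
theorem gen_pow (hg : ∀ a : (ZMod p)ˣ, a ∈ Subgroup.zpowers g) :
    orderOf g = p - 1 ∧ (γ : K) ^ (p - 1) = 1 := by
  have hgp : orderOf g = p - 1 := by
    rw [orderOf_eq_card_of_forall_mem_zpowers hg, Nat.card_eq_fintype_card, ZMod.card_units]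
  exact ⟨hgp, by
    rw [← map_pow, ← Units.val_pow_eq_pow_val, ← hgp, pow_orderOf_eq_one, Units.val_one, map_one]⟩

set_option maxHeartbeats 800000 in
/-- A functional invariant under `cc`, an eigenvector of the torus. -/
theorem exists_functional (h7 : 7 ≤ p) [Nontrivial V] (σ : Representation K SL(2, ZMod p) V)
    (hg : ∀ a : (ZMod p)ˣ, a ∈ Subgroup.zpowers g) :
    ∃ φ : V →ₗ[K] K, φ ≠ 0 ∧ (∀ v, φ (σ (cc p) v) = φ v) ∧
      ∃ k₀ : ℕ, k₀ < p - 1 ∧ ∀ v, φ (σ (tor g) v) = (γ : K) ^ k₀ * φ v := by
  obtain ⟨hgp, hγp⟩ := gen_pow (K := K) g hg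
  obtain ⟨γ', hγ⟩ : ∃ c : K, c = γ := ⟨_, rfl⟩
  rw [← hγ] at hγp ⊢
  have hγ0 : γ' ≠ 0 := hγ ▸ (map_ne_zero _).2 g.ne_zero
  obtain ⟨φ₀, hφ₀, hφ₀c⟩ : ∃ φ : V →ₗ[K] K, φ ≠ 0 ∧ ∀ v, φ (σ (cc p) v) = φ v := by
    have hne : LinearMap.range (σ (cc p) - 1) < ⊤ := by
      rw [lt_top_iff_ne_top]
      intro h
      haveI : CharP (Module.End K V) p :=
        charP_of_injective_algebraMap (FaithfulSMul.algebraMap_injective K (Module.End K V)) p
      have h0 : (σ (cc p) - 1) ^ p = 0 := by
        rw [sub_pow_char_of_commute p (Commute.one_right _), one_pow, ← map_pow, cc_pow_p,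
          map_one, sub_self]
      have hsurj : Function.Surjective ⇑((σ (cc p) - 1) ^ p) := by
        rw [Module.End.coe_pow]
        exact Function.Surjective.iterate (LinearMap.range_eq_top.1 h) p
      rw [h0] at hsurj
      obtain ⟨v, hv⟩ := exists_ne (0 : V)
      obtain ⟨w, hw⟩ := hsurj v
      exact hv (by simpa using hw.symm)
    obtain ⟨φ, hφ, hker⟩ := Submodule.exists_le_ker_of_lt_top _ hne
    refine ⟨φ, hφ, fun v => ?_⟩
    have := hker ⟨v, rfl⟩
    rwa [LinearMap.mem_ker, LinearMap.sub_apply, Module.End.one_apply, map_sub, sub_eq_zero] at this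
  -- the invariant functionals are stable under the torus
  have hstab : ∀ φ : V →ₗ[K] K, (∀ v, φ (σ (cc p) v) = φ v) →
      ∀ v, (φ ∘ₗ σ (tor g)) (σ (cc p) v) = (φ ∘ₗ σ (tor g)) v := by
    intro φ hφ v
    have hall : ∀ (n : ℕ) w, φ (σ (cc p ^ n) w) = φ w := by
      intro n w
      induction n with
      | zero => simp
      | succ n ih => rw [pow_succ', map_mul, Module.End.mul_apply, hφ, ih]
    simp only [LinearMap.comp_apply]
    rw [← Module.End.mul_apply, ← map_mul, show tor g * cc p =
      cc p ^ (((g : ZMod p) ^ 2).val * 1) * tor g by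
        rw [← tor_cc, pow_one, inv_mul_cancel_right],
      map_mul, Module.End.mul_apply, hall]
  have hpow : ∀ n : ℕ, ∀ v, φ₀ (σ (tor g ^ n) (σ (cc p) v)) = φ₀ (σ (tor g ^ n) v) := by
    intro n
    induction n with
    | zero => simpa using hφ₀c
    | succ n ih =>
      intro v
      have h1 := hstab (φ₀ ∘ₗ σ (tor g ^ n)) ih v
      simpa [pow_succ, Module.End.mul_apply] using h1
  -- the eigen components
  let comp : ℕ → (V →ₗ[K] K) := fun j =>
    ∑ n ∈ Finset.range (p - 1), (γ' ^ j)⁻¹ ^ n • (φ₀ ∘ₗ σ (tor g ^ n))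
  have hsum : ∑ j ∈ Finset.range (p - 1), comp j = ((p - 1 : ℕ) : K) • φ₀ := by
    simp only [comp]
    rw [Finset.sum_comm]
    simp only [← Finset.sum_smul]
    rw [Finset.sum_eq_single 0]
    · simp [Module.End.one_eq_id]
    · intro n hn hn0
      rw [Finset.mem_range] at hn
      have hz : γ'⁻¹ ^ n ≠ 1 := by
        rw [inv_pow, Ne, inv_eq_one, hγ, ← map_pow, ← map_one (ZMod.castHom (dvd_refl p) K)]
        intro h
        have h' : g ^ n = 1 :=
          Units.ext (by rw [Units.val_pow_eq_pow_val]; exact RingHom.injective _ h)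
        have := Nat.le_of_dvd (Nat.pos_of_ne_zero hn0) (orderOf_dvd_of_pow_eq_one h')
        omega
      have : ∑ j ∈ Finset.range (p - 1), (γ' ^ j)⁻¹ ^ n = 0 := by
        have e : ∀ j, (γ' ^ j)⁻¹ ^ n = (γ'⁻¹ ^ n) ^ j := fun j => by
          rw [← inv_pow, ← pow_mul, ← pow_mul, mul_comm]
        simp only [e]
        rw [geom_sum_eq hz, ← pow_mul, mul_comm, pow_mul, inv_pow, hγp, inv_one, one_pow,
          sub_self, zero_div]
      rw [this, zero_smul]
    · intro h
      simp only [Finset.mem_range] at h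
      omega
  obtain ⟨j, hj, hj0⟩ : ∃ j ∈ Finset.range (p - 1), comp j ≠ 0 := by
    by_contra hne
    push Not at hne
    rw [Finset.sum_eq_zero hne, eq_comm, smul_eq_zero] at hsum
    exact hsum.elim (cast_ne_zero (by omega) (by omega)) hφ₀
  refine ⟨comp j, hj0, fun v => ?_, j, Finset.mem_range.1 hj, fun v => ?_⟩
  · simp only [comp, LinearMap.sum_apply, LinearMap.smul_apply, LinearMap.comp_apply, hpow]
  · simp only [comp, LinearMap.sum_apply, LinearMap.smul_apply, LinearMap.comp_apply, smul_eq_mul,
      Finset.mul_sum, ← Module.End.mul_apply, ← map_mul, ← pow_succ]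
    set f : ℕ → K := fun n => (γ' ^ j)⁻¹ ^ n * φ₀ (σ (tor g ^ n) v)
    have hterm : ∀ n, (γ' ^ j)⁻¹ ^ n * φ₀ (σ (tor g ^ (n + 1)) v) = γ' ^ j * f (n + 1) := by
      intro n
      simp only [f]
      rw [pow_succ' (γ' ^ j)⁻¹, ← mul_assoc, ← mul_assoc,
        mul_inv_cancel₀ (pow_ne_zero _ hγ0), one_mul]
    simp only [hterm, ← Finset.mul_sum]
    congr 1
    have h1 := Finset.sum_range_succ' f (p - 1)
    rw [Finset.sum_range_succ] at h1
    have hper : f (p - 1) = f 0 := by
      simp only [f]
      rw [tor_pow_eq_one, inv_pow, ← pow_mul, mul_comm j, pow_mul, hγp, one_pow, inv_one]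
      simp
    rw [hper] at h1
    exact (add_right_cancel h1).symm

set_option maxHeartbeats 800000 in
/-- A homogeneous function fixed by the unipotent group is determined by two values. -/
theorem fixed_values (hg : ∀ a : (ZMod p)ˣ, a ∈ Subgroup.zpowers g) {k₀ : ℕ} {F : Vec p → K}
    (hhom : ∀ (w : Vec p) (n : ℕ) (h : ((g : ZMod p) ^ n) • w.1 ≠ 0),
      F ⟨((g : ZMod p) ^ n) • w.1, h⟩ = (((γ : K) ^ n) ^ k₀)⁻¹ * F w)
    (hfix : ∀ n : ℕ, funRep p K (cc p ^ n) F = F) (e1 : Vec p) (he1 : e1.1 = ![1, 0]) (e2 : Vec p)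
    (he2 : e2.1 = ![0, 1]) (w : Vec p) : F w = if w.1 1 = 0 then
      ((ZMod.castHom (dvd_refl p) K (w.1 0)) ^ k₀)⁻¹ * F e1
      else ((ZMod.castHom (dvd_refl p) K (w.1 1)) ^ k₀)⁻¹ * F e2 := by
  have hpowsurj : ∀ a : ZMod p, a ≠ 0 → ∃ n : ℕ, a = (g : ZMod p) ^ n ∧
      (((γ : K) ^ n) ^ k₀)⁻¹ = ((ZMod.castHom (dvd_refl p) K a) ^ k₀)⁻¹ := by
    intro a ha
    obtain ⟨n, hn⟩ := (isOfFinOrder_of_finite g).mem_powers_iff_mem_zpowers.2 (hg (Units.mk0 a ha))
    have hn' : (g : ZMod p) ^ n = a := by
      rw [← Units.val_pow_eq_pow_val]; exact congrArg Units.val hn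
    exact ⟨n, hn'.symm, by rw [← map_pow, hn']⟩
  split_ifs with h1
  · have h0 : w.1 0 ≠ 0 := fun h => w.2 (funext fun i => by fin_cases i <;> simp [h, h1])
    obtain ⟨n, hn, hn'⟩ := hpowsurj _ h0
    have hw : w.1 = ((g : ZMod p) ^ n) • e1.1 := by
      funext i
      fin_cases i <;> simp [he1, ← hn, h1]
    rw [← hn', ← hhom e1 n (hw ▸ w.2)]
    exact congrArg F (Subtype.ext hw)
  · obtain ⟨n, hn, hn'⟩ := hpowsurj _ h1
    obtain ⟨m, hm⟩ : ∃ m : ℕ, (m : ZMod p) = w.1 0 * (w.1 1)⁻¹ := ⟨_, ZMod.natCast_zmod_val _⟩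
    have hw : (act (cc p ^ m)⁻¹ w).1 = ((g : ZMod p) ^ n) • e2.1 := by
      show ((cc p ^ m)⁻¹ : SL(2, ZMod p)).1.mulVec w.1 = _
      rw [Matrix.SpecialLinearGroup.coe_inv, cc_pow, Matrix.adjugate_fin_two]
      funext i
      fin_cases i <;> simp [Matrix.mulVec, dotProduct, Fin.sum_univ_two, he2, ← hn, hm, h1]
    have := congrFun (hfix m) w
    rw [funRep_apply] at this
    rw [← this, ← hn', ← hhom e2 n (hw ▸ (act (cc p ^ m)⁻¹ w).2)]
    exact congrArg F (Subtype.ext hw)

set_option maxHeartbeats 800000 in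
/-- An invariant space of functions with such a function contains a power of the second coordinate. -/
theorem exists_mono_mem (h7 : 7 ≤ p) (M : Submodule K (Vec p → K))
    (hM : ∀ a, ∀ G ∈ M, funRep p K a G ∈ M) {F : Vec p → K} (hFM : F ∈ M) (hF0 : F ≠ 0)
    {k₀ : ℕ} (hk₀ : k₀ < p - 1) {α β : K}
    (hFvals : ∀ w : Vec p, F w = if w.1 1 = 0 then
      ((ZMod.castHom (dvd_refl p) K (w.1 0)) ^ k₀)⁻¹ * α
      else ((ZMod.castHom (dvd_refl p) K (w.1 1)) ^ k₀)⁻¹ * β) :
    ∃ k, k ≤ p - 1 ∧ (mono k k : Vec p → K) ∈ M := by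
  set k' := (p - 1 - k₀) % (p - 1) with hk'
  have hk'0 : ∀ a : ZMod p, a ≠ 0 →
      ((ZMod.castHom (dvd_refl p) K a) ^ k₀)⁻¹ = (ZMod.castHom (dvd_refl p) K a) ^ k' := by
    intro a ha
    have h1 : (ZMod.castHom (dvd_refl p) K a) ^ (p - 1) = 1 := by
      rw [← map_pow, ZMod.pow_card_sub_one_eq_one ha, map_one]
    refine inv_eq_of_mul_eq_one_right ?_
    rw [← pow_add, ← Nat.div_add_mod (k₀ + k') (p - 1), pow_add, pow_mul, h1, one_pow, one_mul,
      hk', Nat.add_mod_mod, show k₀ + (p - 1 - k₀) = p - 1 by omega, Nat.mod_self, pow_zero]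
  have hj : funRep p K (jj p) F ∈ M := hM _ _ hFM
  have hS : (∑ m ∈ Finset.range p, funRep p K (cc p ^ m) (funRep p K (jj p) F)) ∈ M :=
    Submodule.sum_mem _ fun m _ => hM _ _ (hM _ _ hFM)
  have hval : ∀ w : Vec p, (∑ m ∈ Finset.range p, funRep p K (cc p ^ m) (funRep p K (jj p) F)) w =
      if w.1 1 = 0 then 0 else
        (ZMod.castHom (dvd_refl p) K (w.1 1)) ^ k' * (α - if k' = 0 then β else 0) := by
    intro w
    simp only [Finset.sum_apply, funRep_apply]
    have hv : ∀ m : ℕ, (act (jj p)⁻¹ (act (cc p ^ m)⁻¹ w)).1 =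
        ![w.1 1, -(w.1 0 - (m : ZMod p) * w.1 1)] := by
      intro m
      simp only [act, Matrix.SpecialLinearGroup.coe_inv, cc_pow, coe_jj, Matrix.adjugate_fin_two,
        Matrix.mulVec_mulVec]
      funext i
      fin_cases i <;> simp [Matrix.mulVec, dotProduct, Fin.sum_univ_two, Matrix.mul_apply] <;> ring
    simp only [hFvals, hv, Matrix.cons_val_zero, Matrix.cons_val_one, neg_eq_zero]
    by_cases h1 : w.1 1 = 0
    · rw [if_pos h1]
      refine (Finset.sum_congr rfl (g := fun _ => ((ZMod.castHom (dvd_refl p) K (-w.1 0)) ^ k₀)⁻¹ * β)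
        fun m _ => ?_).trans ((Finset.sum_const _).trans ?_)
      rotate_left
      · rw [Finset.card_range, ← Nat.cast_smul_eq_nsmul K, CharP.cast_eq_zero, zero_smul]
      · have h0 : w.1 0 ≠ 0 := fun h => w.2 (funext fun i => by fin_cases i <;> simp [h, h1])
        rw [if_neg (by simp [h1, h0])]
        simp [h1]
    · -- exactly one index gives `α`; the others run over the units
      rw [if_neg h1]
      set a := w.1 0 * (w.1 1)⁻¹ with ha
      set y := ZMod.castHom (dvd_refl p) K (w.1 1)
      have hterm : ∀ m : ℕ, (if w.1 0 - (m : ZMod p) * w.1 1 = 0 then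
          (y ^ k₀)⁻¹ * α else
          ((ZMod.castHom (dvd_refl p) K (-(w.1 0 - (m : ZMod p) * w.1 1))) ^ k₀)⁻¹ * β) =
          (fun r : ZMod p => if r = 0 then y ^ k' * α else
            (ZMod.castHom (dvd_refl p) K r) ^ k' * y ^ k' * β) ((m : ZMod p) - a) := by
        intro m
        have he : w.1 0 - (m : ZMod p) * w.1 1 = -(((m : ZMod p) - a) * w.1 1) := by
          rw [ha, sub_mul, inv_mul_cancel_right₀ h1]; ring
        simp only [he, neg_eq_zero, mul_eq_zero, h1, or_false, neg_neg]
        split_ifs with hr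
        · rw [hk'0 _ h1]
        · rw [hk'0 _ (mul_ne_zero hr h1), map_mul, mul_pow]
      rw [Finset.sum_congr rfl fun m _ => hterm m]
      have hre : ∀ f : ZMod p → K,
          ∑ m ∈ Finset.range p, f ((m : ZMod p) - a) = ∑ r : ZMod p, f r := by
        intro f
        refine (Finset.sum_bij (fun r _ => (r + a).val)
          (fun r _ => Finset.mem_range.2 (ZMod.val_lt _))
          (fun r _ s _ h => add_right_cancel (ZMod.val_injective p h)) (fun m hm => ?_)
          (fun r _ => ?_)).symm
        · exact ⟨(m : ZMod p) - a, Finset.mem_univ _, by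
            rw [sub_add_cancel, ZMod.val_cast_of_lt (Finset.mem_range.1 hm)]⟩
        · rw [ZMod.natCast_zmod_val, add_sub_cancel_right]
      rw [hre (fun r : ZMod p => if r = 0 then y ^ k' * α else
            (ZMod.castHom (dvd_refl p) K r) ^ k' * y ^ k' * β),
        Fintype.sum_eq_add_sum_compl 0, if_pos rfl,
        Finset.sum_congr rfl (fun r hr => if_neg (by simpa using hr))]
      have hunits : ∑ r ∈ ({0}ᶜ : Finset (ZMod p)),
          (ZMod.castHom (dvd_refl p) K r) ^ k' * y ^ k' * β =
          (if k' = 0 then -1 else 0) * (y ^ k' * β) := by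
        have e : ∑ r ∈ ({0}ᶜ : Finset (ZMod p)), (ZMod.castHom (dvd_refl p) K r) ^ k' =
            ZMod.castHom (dvd_refl p) K (∑ a : (ZMod p)ˣ, (a : ZMod p) ^ k') := by
          rw [map_sum]
          refine (Finset.sum_bij (fun (a : (ZMod p)ˣ) _ => (a : ZMod p)) (fun a _ => by simp)
            (fun a _ b _ h => Units.ext h) (fun r hr => ⟨Units.mk0 r (by simpa using hr),
              Finset.mem_univ _, rfl⟩) (fun a _ => by rw [map_pow])).symm
        simp only [mul_assoc, ← Finset.sum_mul, e, FiniteField.sum_pow_units, ZMod.card]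
        have hk'lt : k' < p - 1 := Nat.mod_lt _ (by omega)
        by_cases h : k' = 0
        · rw [if_pos h, if_pos (by rw [h]; exact dvd_zero _), map_neg, map_one]
        · rw [if_neg h, if_neg (fun hd => h (Nat.eq_zero_of_dvd_of_lt hd hk'lt)), map_zero]
      rw [hunits]
      split_ifs <;> ring
  by_cases hc : α - (if k' = 0 then β else 0) = 0
  · by_cases hk'z : k' = 0
    · rw [if_pos hk'z, sub_eq_zero] at hc
      have hconst : F = α • (mono 0 0 : Vec p → K) := by
        funext w
        rw [hFvals]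
        have hk00 : ∀ a : ZMod p, a ≠ 0 → ((ZMod.castHom (dvd_refl p) K a) ^ k₀)⁻¹ = 1 :=
          fun a ha => by rw [hk'0 a ha, hk'z, pow_zero]
        split_ifs with h1
        · rw [hk00 _ (fun h => w.2 (funext fun i => by fin_cases i <;> simp [h, h1]))]
          simp [mono]
        · rw [hk00 _ h1, ← hc]
          simp [mono]
      have hα0 : α ≠ 0 := fun h =>
        hF0 (by rw [hconst, h, zero_smul])
      refine ⟨0, Nat.zero_le _, ?_⟩
      rw [hconst] at hFM
      simpa [smul_smul, hα0] using M.smul_mem α⁻¹ hFM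
    · rw [if_neg hk'z, sub_zero] at hc
      have hmono : F = β • (mono k' k' : Vec p → K) := by
        funext w
        rw [hFvals]
        split_ifs with h1
        · simp [mono, h1, hc, zero_pow hk'z]
        · rw [hk'0 _ h1]
          simp [mono, mul_comm]
      have hβ0 : β ≠ 0 := fun h =>
        hF0 (by rw [hmono, h, zero_smul])
      refine ⟨k', (Nat.mod_lt _ (by omega)).le, ?_⟩
      rw [hmono] at hFM
      simpa [smul_smul, hβ0] using M.smul_mem β⁻¹ hFM
  · set k := if k' = 0 then p - 1 else k' with hkdef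
    have hk'lt : k' < p - 1 := Nat.mod_lt _ (by omega)
    refine ⟨k, by rw [hkdef]; split_ifs <;> omega, ?_⟩
    have hkk : (∑ m ∈ Finset.range p, funRep p K (cc p ^ m) (funRep p K (jj p) F)) =
        (α - if k' = 0 then β else 0) • (mono k k : Vec p → K) := by
      funext w
      rw [hval, Pi.smul_apply, smul_eq_mul]
      simp only [mono, Nat.sub_self, pow_zero, one_mul, hkdef]
      split_ifs with h1 h2 h2
      · rw [h1, map_zero, zero_pow (by omega), mul_zero]
      · rw [h1, map_zero, zero_pow h2, mul_zero]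
      · rw [h2, pow_zero, one_mul, ← map_pow, ZMod.pow_card_sub_one_eq_one h1, map_one, mul_one]
      · ring
    rw [hkk] at hS
    simpa [smul_smul, hc] using M.smul_mem (α - if k' = 0 then β else 0)⁻¹ hS

set_option maxHeartbeats 800000 in
/-- The translates of a power of the second coordinate span the polynomials. -/
theorem polySpace_le {k : ℕ} (hk : k ≤ p - 1) (M : Submodule K (Vec p → K))
    (hM : ∀ a, ∀ G ∈ M, funRep p K a G ∈ M) (hkM : (mono k k : Vec p → K) ∈ M) :
    polySpace p K k ≤ M := by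
  have hp0 := hp.out.pos
  rw [polySpace, Submodule.span_le]
  rintro y ⟨⟨i, hi⟩, rfl⟩
  -- Lagrange extraction of a coefficient
  have hexp : ∀ m : ℕ, funRep p K (jj p)⁻¹ (funRep p K (cc p ^ m) (funRep p K (jj p) (mono k k))) =
      ∑ r ∈ Finset.range (k + 1), ((m : K) ^ r * (k.choose r : K)) • mono k (k - r) := by
    intro m
    funext v
    simp only [funRep_apply, ← act_mul, inv_inv, mono, Finset.sum_apply, Pi.smul_apply,
      smul_eq_mul]
    have hv : (act ((jj p)⁻¹ * (cc p ^ m)⁻¹ * jj p) v).1 =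
        ![v.1 0, v.1 1 + (m : ZMod p) * v.1 0] := by
      funext i
      simp only [act, Matrix.SpecialLinearGroup.coe_mul, Matrix.SpecialLinearGroup.coe_inv,
        cc_pow, coe_jj, Matrix.adjugate_fin_two]
      fin_cases i <;>
        simp [Matrix.mulVec, dotProduct, Fin.sum_univ_two, Matrix.mul_apply] <;> ring
    rw [← mul_assoc] at *
    simp only [hv, Matrix.cons_val_zero, Matrix.cons_val_one, Nat.sub_self, pow_zero, one_mul,
      map_add, map_mul, map_natCast]
    rw [add_comm, add_pow]
    refine Finset.sum_congr rfl fun r hr => ?_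
    rw [Finset.mem_range] at hr
    rw [show k - (k - r) = r by omega, mul_pow]
    ring
  let v : Fin (k + 1) → K := fun j => ((j : ℕ) : K)
  have hvinj : Function.Injective v := by
    intro a b hab
    have ha : (a : ℕ) < p := by have := a.isLt; omega
    have hb : (b : ℕ) < p := by have := b.isLt; omega
    exact Fin.ext (CharP.natCast_injOn_Iio K p ha hb hab)
  have hu : IsUnit (Matrix.vandermonde v).det :=
    isUnit_iff_ne_zero.2 (Matrix.det_vandermonde_ne_zero_iff.2 hvinj)
  set A := (Matrix.vandermonde v)⁻¹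
  have hcomb : ((k.choose (k - i) : K)) • (mono k i : Vec p → K) =
      ∑ j : Fin (k + 1), A ⟨k - i, by omega⟩ j •
        funRep p K (jj p)⁻¹ (funRep p K (cc p ^ (j : ℕ)) (funRep p K (jj p) (mono k k))) := by
    simp only [hexp, Finset.smul_sum, smul_smul]
    rw [Finset.sum_comm]
    simp only [← Finset.sum_smul, ← mul_assoc, ← Finset.sum_mul]
    rw [Finset.sum_range (fun r => ((∑ j : Fin (k + 1), A ⟨k - i, by omega⟩ j * ((j : ℕ) : K) ^ r) *
      (k.choose r : K)) • (mono k (k - r) : Vec p → K))]
    have hmul : ∀ r : Fin (k + 1), ∑ j : Fin (k + 1), A ⟨k - i, by omega⟩ j * ((j : ℕ) : K) ^ (r : ℕ)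
        = if (⟨k - i, by omega⟩ : Fin (k + 1)) = r then 1 else 0 := by
      intro r
      have := congrFun (congrFun (Matrix.nonsing_inv_mul (Matrix.vandermonde v) hu)
        ⟨k - i, by omega⟩) r
      simpa [Matrix.mul_apply, Matrix.one_apply, Matrix.vandermonde_apply, v] using this
    simp only [hmul]
    rw [Finset.sum_eq_single (⟨k - i, by omega⟩ : Fin (k + 1))
      (fun r _ hr => by simp [Ne.symm hr]) (by simp), if_pos rfl, one_mul]
    simp [show k - (k - i) = i by omega]
  have hne : (k.choose (k - i) : K) ≠ 0 := by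
    rw [Ne, CharP.cast_eq_zero_iff K p]
    intro hd
    have h1 : p ∣ k.factorial := by
      rw [← Nat.choose_mul_factorial_mul_factorial (Nat.sub_le k i)]
      exact Dvd.dvd.mul_right (Dvd.dvd.mul_right hd _) _
    rw [hp.out.dvd_factorial] at h1
    omega
  have hmem : ((k.choose (k - i) : K)) • (mono k i : Vec p → K) ∈ M := by
    rw [hcomb]
    exact Submodule.sum_mem _ fun j _ => Submodule.smul_mem _ _ (hM _ _ (hM _ _ (hM _ _ hkM)))
  simpa [smul_smul, hne] using Submodule.smul_mem _ (k.choose (k - i) : K)⁻¹ hmem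

set_option maxHeartbeats 800000 in
/-- The polynomials form an invariant subspace. -/
theorem polySpace_invariant (k : ℕ) : ∀ (a : SL(2, ZMod p)) (G : Vec p → K),
    G ∈ polySpace p K k → funRep p K a G ∈ polySpace p K k := by
  have hjmem : ∀ G ∈ polySpace p K k, funRep p K (jj p) G ∈ polySpace p K k := by
    intro G hG
    induction hG using Submodule.span_induction with
    | mem y hy =>
      obtain ⟨⟨i, hi⟩, rfl⟩ := hy
      have : funRep p K (jj p) (mono k i) = (-1 : K) ^ i • mono k (k - i) := by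
        funext v
        simp only [funRep_apply, mono, Pi.smul_apply, smul_eq_mul]
        have hv : (act (jj p)⁻¹ v).1 = ![v.1 1, -v.1 0] := by
          funext j
          simp only [act, Matrix.SpecialLinearGroup.coe_inv, coe_jj, Matrix.adjugate_fin_two]
          fin_cases j <;> simp [Matrix.mulVec, dotProduct, Fin.sum_univ_two]
        simp only [hv, Matrix.cons_val_zero, Matrix.cons_val_one, map_neg,
          show k - (k - i) = i by omega]
        rw [neg_pow]
        ring
      simp only
      rw [this]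
      exact Submodule.smul_mem _ _ (mono_mem (Nat.sub_le k i))
    | zero => simp
    | add x y _ _ hx hy => rw [map_add]; exact add_mem hx hy
    | smul a x _ hx => rw [map_smul]; exact Submodule.smul_mem _ _ hx
  have hgen : ∀ a : SL(2, ZMod p), a ∈ Subgroup.closure ({cc p, jj p} : Set SL(2, ZMod p)) := by
    intro a
    set H := Subgroup.closure ({cc p, jj p} : Set SL(2, ZMod p))
    have hup : ∀ b : ZMod p, uu b ∈ H := by
      intro b
      have : uu b = cc p ^ b.val := by
        apply Subtype.ext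
        rw [cc_pow, ZMod.natCast_zmod_val, coe_uu]
      rw [this]
      exact H.pow_mem (Subgroup.subset_closure (Or.inl rfl)) _
    have hjH : jj p ∈ H := Subgroup.subset_closure (Or.inr rfl)
    have hcase : ∀ a : SL(2, ZMod p), a.1 1 0 ≠ 0 → a ∈ H := by
      intro a hc
      have hd := a.2
      rw [Matrix.det_fin_two] at hd
      -- `uu x * jj * (torus) * uu y` written with unipotents only
      have hlow : ∀ b : ZMod p, jj p * uu (-b) * (jj p)⁻¹ ∈ H :=
        fun b => H.mul_mem (H.mul_mem hjH (hup _)) (H.inv_mem hjH)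
      have : a = uu ((a.1 0 0 - 1) / a.1 1 0) * (jj p * uu (-(a.1 1 0)) * (jj p)⁻¹) *
          uu ((a.1 1 1 - 1) / a.1 1 0) := by
        apply Subtype.ext
        ext i j
        fin_cases i <;> fin_cases j <;>
          simp [coe_uu, coe_jj, Matrix.mul_apply, Fin.sum_univ_two, Matrix.adjugate_fin_two] <;>
          field_simp <;> first | linear_combination hd | linear_combination -hd | ring
      rw [this]
      exact H.mul_mem (H.mul_mem (hup _) (hlow _)) (hup _)
    by_cases hc : a.1 1 0 = 0
    · have hd := a.2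
      rw [Matrix.det_fin_two, hc, mul_zero, sub_zero] at hd
      have h00 : a.1 0 0 ≠ 0 := left_ne_zero_of_mul (hd.symm ▸ one_ne_zero)
      have := hcase (jj p * a) (by
        simp [coe_jj, Matrix.mul_apply, Fin.sum_univ_two, h00])
      simpa using H.mul_mem (H.inv_mem hjH) this
    · exact hcase a hc
  have hPinv : ∀ a, ∀ G ∈ polySpace p K k, funRep p K a G ∈ polySpace p K k := by
    intro a G hG
    have ha := hgen a
    induction ha using Subgroup.closure_induction'' generalizing G with
    | one => simpa using hG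
    | mem b hb =>
      rcases hb with rfl | rfl
      · simpa using funRep_cc_pow_mem k 1 hG
      · exact hjmem G hG
    | inv_mem b hb =>
      rcases hb with rfl | rfl
      · rw [show (cc p)⁻¹ = cc p ^ (p - 1) from inv_eq_of_mul_eq_one_right (by
          rw [← pow_succ', Nat.sub_add_cancel hp.out.one_le, cc_pow_p])]
        exact funRep_cc_pow_mem k _ hG
      · rw [show (jj p)⁻¹ = jj p * (jj p * jj p) from inv_eq_of_mul_eq_one_right (by
          rw [← mul_assoc, jj_sq, zz_sq])]
        rw [map_mul, map_mul, Module.End.mul_apply, Module.End.mul_apply]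
        exact hjmem _ (hjmem _ (hjmem _ hG))
    | mul b b' _ _ hb hb' =>
      rw [map_mul, Module.End.mul_apply]
      exact hb _ (hb' _ hG)
  exact hPinv

end Classify

set_option maxHeartbeats 800000 in
/-- The description of an irreducible representation. -/
theorem exists_weight_basis (h7 : 7 ≤ p) [Nontrivial V] (σ : Representation K SL(2, ZMod p) V)
    (hirr : Irred σ) (g : (ZMod p)ˣ) (hg : ∀ a : (ZMod p)ˣ, a ∈ Subgroup.zpowers g) :
    ∃ k : ℕ, k ≤ p - 1 ∧ ∃ b : Basis (Fin (k + 1)) K V,
      (∀ i : Fin (k + 1),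
        σ (tor g) (b i) = (ZMod.castHom (dvd_refl p) K (g : ZMod p)) ^ (2 * (i : ℤ) - k) • b i) ∧
      (∀ i j : Fin (k + 1), (j : ℕ) = (i : ℕ) + 1 → eOp σ (b i) = ((k - i : ℕ) : K) • b j) ∧
      fixBound k ≤ fx σ (cc p * (jj p)⁻¹) := by
  classical
  set γ : K := ZMod.castHom (dvd_refl p) K (g : ZMod p) with hγ
  have hγ0 : γ ≠ 0 := (map_ne_zero _).2 g.ne_zero
  have hgp : orderOf g = p - 1 := by
    rw [orderOf_eq_card_of_forall_mem_zpowers hg, Nat.card_eq_fintype_card, ZMod.card_units]
  have hγp : γ ^ (p - 1) = 1 := by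
    rw [hγ, ← map_pow, ← Units.val_pow_eq_pow_val, ← hgp, pow_orderOf_eq_one, Units.val_one, map_one]
  -- a functional invariant under `cc`, an eigenvector of the torus
  obtain ⟨φ, hφ0, hφc, k₀, hk₀, hφt⟩ := exists_functional g h7 σ hg
  -- frames and the embedding into functions
  let fr : Vec p → SL(2, ZMod p) := fun v =>
    if h : v.1 0 = 0 then
      ⟨!![0, -(v.1 1)⁻¹; v.1 1, 0], by
        have h1 : v.1 1 ≠ 0 := fun h1 => v.2 (funext fun i => by fin_cases i <;> simp [h, h1])
        simp [Matrix.det_fin_two, h1]⟩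
    else ⟨!![v.1 0, 0; v.1 1, (v.1 0)⁻¹], by simp [Matrix.det_fin_two, h]⟩
  let e1 : Vec p := ⟨![1, 0], fun h => one_ne_zero (congrFun h 0)⟩
  have hfr : ∀ v, act (fr v) e1 = v := by
    intro v
    apply Subtype.ext
    simp only [fr]
    split_ifs with h <;> funext i <;> fin_cases i <;>
      simp [act, e1, Matrix.mulVec, dotProduct, Fin.sum_univ_two, h]
  have hfr' : ∀ v, act (fr v)⁻¹ v = e1 := fun v => by
    have h : act (fr v)⁻¹ (act (fr v) e1) = e1 := by rw [← act_mul, inv_mul_cancel, act_one]
    rwa [hfr] at h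
  have hφU : ∀ (n : ℕ) (v : V), φ (σ (cc p ^ n) v) = φ v := by
    intro n v
    induction n with
    | zero => simp
    | succ n ih => rw [pow_succ', map_mul, Module.End.mul_apply, hφc, ih]
  have hstab1 : ∀ a, act a e1 = e1 → ∀ v, φ (σ a v) = φ v := by
    intro a ha v
    have h0 : a.1 0 0 = 1 ∧ a.1 1 0 = 0 := by
      have h := congrArg Subtype.val ha
      simp only [act, e1] at h
      exact ⟨by simpa [Matrix.mulVec, dotProduct, Fin.sum_univ_two] using congrFun h 0,
        by simpa [Matrix.mulVec, dotProduct, Fin.sum_univ_two] using congrFun h 1⟩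
    have : a = cc p ^ (a.1 0 1).val := by
      have hd := a.2
      rw [Matrix.det_fin_two, h0.1, h0.2, one_mul, mul_zero, sub_zero] at hd
      apply Subtype.ext
      rw [cc_pow, ZMod.natCast_zmod_val]
      ext i j
      fin_cases i <;> fin_cases j <;> simp [h0.1, h0.2, hd]
    rw [this, hφU]
  let Φ : V →ₗ[K] (Vec p → K) := LinearMap.pi fun v => φ ∘ₗ σ (fr v)⁻¹
  have hΦ : ∀ a v, Φ (σ a v) = funRep p K a (Φ v) := by
    intro a v
    funext w
    simp only [Φ, LinearMap.pi_apply, LinearMap.comp_apply, funRep_apply]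
    rw [← Module.End.mul_apply, ← map_mul]
    set w' := act a⁻¹ w
    have : (fr w)⁻¹ * a = ((fr w)⁻¹ * a * fr w') * (fr w')⁻¹ := by rw [mul_inv_cancel_right]
    rw [this, map_mul, Module.End.mul_apply, hstab1]
    rw [act_mul, act_mul, hfr, ← act_mul a a⁻¹, mul_inv_cancel, act_one]
    exact hfr' w
  have hΦinj : Function.Injective Φ := by
    rw [← LinearMap.ker_eq_bot]
    refine (hirr _ fun a v hv => ?_).resolve_right fun h => hφ0 (LinearMap.ext fun v => ?_)
    · rw [LinearMap.mem_ker] at hv ⊢; rw [hΦ, hv, map_zero]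
    · have hv : Φ (σ (fr e1) v) = 0 := LinearMap.congr_fun (LinearMap.ker_eq_top.1 h) _
      have := congrFun hv e1
      simp only [Φ, LinearMap.pi_apply, LinearMap.comp_apply, ← Module.End.mul_apply, ← map_mul,
        inv_mul_cancel, map_one, Module.End.one_apply, Pi.zero_apply] at this
      simpa using this
  -- homogeneity
  have hhom : ∀ (v : V) (w : Vec p) (n : ℕ) (h : ((g : ZMod p) ^ n) • w.1 ≠ 0),
      Φ v ⟨((g : ZMod p) ^ n) • w.1, h⟩ = ((γ ^ n) ^ k₀)⁻¹ * Φ v w := by
    intro v w n h
    simp only [Φ, LinearMap.pi_apply, LinearMap.comp_apply]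
    set w' : Vec p := ⟨((g : ZMod p) ^ n) • w.1, h⟩
    have ht : act (tor g ^ n) e1 = ⟨![((g : ZMod p) ^ n), 0], fun h => (pow_ne_zero n g.ne_zero)
        (congrFun h 0)⟩ := by
      induction n with
      | zero => rw [pow_zero, act_one]; exact Subtype.ext (by simp [e1])
      | succ n ih =>
        rw [pow_succ', act_mul, ih (by
          intro h'
          exact w.2 ((smul_eq_zero.1 h').resolve_left (pow_ne_zero n g.ne_zero)))]
        apply Subtype.ext
        funext i
        fin_cases i <;> simp [-Units.val_inv_eq_inv_val, act, coe_tor, Matrix.mulVec, dotProduct, Fin.sum_univ_two, pow_succ, mul_comm]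
    have hfix : act ((fr w')⁻¹ * fr w * tor g ^ n) e1 = e1 := by
      rw [act_mul, act_mul, ht]
      have e : act (fr w) ⟨![((g : ZMod p) ^ n), 0], fun h => (pow_ne_zero n g.ne_zero)
          (congrFun h 0)⟩ = w' := by
        apply Subtype.ext
        have h1 := congrArg Subtype.val (hfr w)
        simp only [act, e1] at h1
        simp only [act, w']
        rw [show (![((g : ZMod p) ^ n), 0] : Fin 2 → ZMod p) = ((g : ZMod p) ^ n) • ![1, 0] by
          funext i; fin_cases i <;> simp, Matrix.mulVec_smul, h1]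
      rw [e]
      exact hfr' w'
    rw [show (fr w')⁻¹ = ((fr w')⁻¹ * fr w * tor g ^ n) * ((tor g ^ n)⁻¹ * (fr w)⁻¹) by group,
      map_mul, Module.End.mul_apply, hstab1 _ hfix, map_mul, Module.End.mul_apply]
    have hinv : ∀ (n : ℕ) (v : V), φ (σ (tor g ^ n) v) = (γ ^ n) ^ k₀ * φ v := by
      intro n
      induction n with
      | zero => simp
      | succ n ih =>
        intro v
        rw [pow_succ, map_mul, Module.End.mul_apply, ih, hφt, pow_succ, mul_pow]
        ring
    have := hinv n (σ (tor g ^ n)⁻¹ (σ (fr w)⁻¹ v))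
    rw [← Module.End.mul_apply (σ (tor g ^ n)), ← map_mul, mul_inv_cancel, map_one,
      Module.End.one_apply] at this
    rw [this, ← mul_assoc, inv_mul_cancel₀ (pow_ne_zero _ (pow_ne_zero _ hγ0)), one_mul]
  -- a fixed vector
  obtain ⟨v₀, hv₀, hv₀c⟩ : ∃ v₀, v₀ ≠ 0 ∧ σ (cc p) v₀ = v₀ := by
    haveI : CharP (Module.End K V) p :=
      charP_of_injective_algebraMap (FaithfulSMul.algebraMap_injective K (Module.End K V)) p
    have h0 : (σ (cc p) - 1) ^ p = 0 := by
      rw [sub_pow_char_of_commute p (Commute.one_right _), one_pow, ← map_pow, cc_pow_p,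
        map_one, sub_self]
    by_contra hne
    push Not at hne
    have hinj : Function.Injective ⇑((σ (cc p) - 1) ^ p) := by
      rw [Module.End.coe_pow]
      refine Function.Injective.iterate (LinearMap.ker_eq_bot.1 ?_) p
      rw [eq_bot_iff]
      intro v hv
      by_contra hv0
      exact hne v hv0 ((mem_fixSub σ).1 hv)
    obtain ⟨v, hv⟩ := exists_ne (0 : V)
    exact hv (hinj (by simp [h0]))
  -- the module of functions
  set M := LinearMap.range Φ with hM
  have hinvM : ∀ a, ∀ G ∈ M, funRep p K a G ∈ M := by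
    rintro a G ⟨v, rfl⟩; exact ⟨σ a v, hΦ a v⟩
  have hfix : ∀ n : ℕ, funRep p K (cc p ^ n) (Φ v₀) = Φ v₀ := by
    intro n
    rw [← hΦ]
    congr 1
    induction n with
    | zero => simp
    | succ n ih => rw [pow_succ', map_mul, Module.End.mul_apply, ih, hv₀c]
  obtain ⟨k, hk, hkM⟩ := exists_mono_mem (K := K) h7 M hinvM ⟨v₀, rfl⟩
    (fun h => hv₀ (hΦinj (h.trans (map_zero Φ).symm))) hk₀
    (fixed_values g hg (fun w n h => hhom v₀ w n h) hfix e1 rfl
      ⟨![0, 1], fun h => one_ne_zero (congrFun h 1)⟩ rfl)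
  haveI : FiniteDimensional K (polySpace p K k) := (monoBasis hk).finiteDimensional_of_finite
  have hle := polySpace_le hk M hinvM hkM
  have hPinv := polySpace_invariant (p := p) (K := K) k
  have hsurj : (polySpace p K k).comap Φ = ⊤ := by
    refine (hirr _ fun a v hv => ?_).resolve_left fun h => ?_
    · rw [Submodule.mem_comap, hΦ]; exact hPinv a _ hv
    · obtain ⟨v, hv⟩ := hle (mono_mem (le_refl k))
      have hv' : v ∈ (polySpace p K k).comap Φ := by
        rw [Submodule.mem_comap, hv]; exact mono_mem le_rfl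
      rw [h, Submodule.mem_bot] at hv'
      rw [hv', map_zero] at hv
      exact (mono_indep (K := K) hk).ne_zero ⟨k, by omega⟩ hv.symm
  have hME : M = polySpace p K k := by
    refine le_antisymm ?_ hle
    rintro y ⟨v, rfl⟩
    exact (hsurj.symm ▸ Submodule.mem_top : v ∈ (polySpace p K k).comap Φ)
  -- transport
  let e : V ≃ₗ[K] polySpace p K k :=
    (LinearEquiv.ofInjective Φ hΦinj).trans (LinearEquiv.ofEq _ _ hME)
  have he : ∀ v, ((e v : polySpace p K k) : Vec p → K) = Φ v := fun v => rfl
  let b : Basis (Fin (k + 1)) K V := (monoBasis hk).map e.symm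
  have hb : ∀ i, Φ (b i) = mono k i := fun i => by
    rw [← he]
    simp [b, monoBasis_apply]
  refine ⟨k, hk, b, fun i => hΦinj ?_, fun i j hij => hΦinj ?_, ?_⟩
  · rw [hΦ, map_smul, hb, funRep_tor_mono g (Nat.lt_succ_iff.1 i.2)]
  · have : Φ (eOp σ (b i)) = eOp (funRep p K) (Φ (b i)) := by
      simp only [eOp, LinearMap.sum_apply, map_sum, LinearMap.smul_apply, map_smul, hΦ]
    rw [this, map_smul, hb, hb, funRep_eOp_mono h7 hk (Nat.lt_succ_iff.1 i.2), hij]
  · refine (fixBound_le (K := K) h7 k hk).trans ?_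
    have : polySpace p K k ⊓ fixSub (funRep p K) (cc p * (jj p)⁻¹) ≤
        (fixSub σ (cc p * (jj p)⁻¹)).map Φ := by
      rintro G ⟨hG, hGx⟩
      rw [← hME] at hG
      obtain ⟨v, rfl⟩ := hG
      refine ⟨v, ?_, rfl⟩
      rw [SetLike.mem_coe, mem_fixSub] at hGx ⊢
      exact hΦinj (by rw [hΦ]; exact hGx)
    exact (Submodule.finrank_mono this).trans (Submodule.finrank_map_le _ _)

end Cfsg.Agent.FixedSpace
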