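import Cfsg.Agent.Lib.FixedSpace.Coprime
import Cfsg.Agent.Lib.FixedSpace.Descend
import Cfsg.Agent.Lib.FixedSpace.CharP
import Cfsg.Agent.Lib.Camina.NoFreeModule
import Cfsg.Agent.Lib.Transfer.Central
import Cfsg.Agent.Lib.PSL2.Sylow
import Cfsg.Agent.Lib.PSL2.Basic

/-!
# Groups without big fixed spaces

Consequences of the negation of `Good`: small Sylow subgroups are cyclic, there is no four-group,
and an odd-order extension of `SL(2,p)`, `p ≥ 7`, is impossible.
-/

set_option autoImplicit false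

namespace Cfsg.Agent.FixedSpace

open Module Subgroup Matrix
open scoped MatrixGroups commutatorElement

universe u v w

variable {G : Type u} [Group G] {K : Type v} [Field K] {V : Type w} [AddCommGroup V] [Module K V]
  [FiniteDimensional K V] {ρ : Representation K G V}

/-- No element of order the characteristic, if this is at most six. -/
theorem eq_one_of_bad (hbad : ¬ Good ρ) {r : ℕ} [Fact r.Prime] (hr : r ≤ 6) (hK : (r : K) = 0)
    {h : G} (hh : h ^ r = 1) : h = 1 := by
  by_contra h1
  have := finrank_le_of_char ρ hK hh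
  have := Nat.mul_le_mul_right (fx ρ h) hr
  have := (not_good_iff.1 hbad) h h1
  omega

/-- No subgroup of type `(r, r)`, `r ≤ 5`. -/
theorem pair_of_bad (hbad : ¬ Good ρ) {r : ℕ} [Fact r.Prime] (hr : r ≤ 5) {a b : G}
    (hc : Commute a b) (ha : a ^ r = 1) (hb : b ^ r = 1) (hb1 : b ≠ 1) :
    ∃ k : ℕ, a * b ^ k = 1 := by
  by_contra h
  push Not at h
  obtain ⟨c, hc1, hle⟩ := exists_of_commute ρ hc ha hb hb1 h
  have := (not_good_iff.1 hbad) c hc1
  have := Nat.mul_le_mul_right (fx ρ c) (show r + 1 ≤ 6 by omega)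
  omega

/-- `r`-subgroups are cyclic for `r = 3, 5`. -/
theorem isCyclic_of_bad [Finite G] (hbad : ¬ Good ρ) {r : ℕ} [hrp : Fact r.Prime] (hr : r ≤ 5)
    (hr2 : r ≠ 2) {P : Subgroup G} (hP : IsPGroup r P) : IsCyclic P := by
  by_contra hnc
  obtain ⟨ψ, hψ⟩ := Camina.exists_injective_of_not_isCyclic hr2 hP hnc
  let a : ZMod r × ZMod r := (1, 0)
  let b : ZMod r × ZMod r := (0, 1)
  have hpow : ∀ c : ZMod r × ZMod r, (Multiplicative.ofAdd c) ^ r = 1 := fun c => by
    rw [← ofAdd_nsmul, show r • c = 0 by ext <;> simp, ofAdd_zero]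
  let f := P.subtype.comp ψ
  have hf : Function.Injective f := P.subtype_injective.comp hψ
  obtain ⟨k, hk⟩ := pair_of_bad hbad hr (a := f (Multiplicative.ofAdd a))
    (b := f (Multiplicative.ofAdd b))
    ((Commute.all (Multiplicative.ofAdd a) (Multiplicative.ofAdd b)).map f)
    (by rw [← map_pow, hpow, map_one]) (by rw [← map_pow, hpow, map_one])
    (fun h => by
      have := hf (h.trans (map_one f).symm)
      have := congrArg (fun z => (Multiplicative.toAdd z).2) this
      simp [b] at this)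
  rw [← map_pow, ← map_mul] at hk
  have := hf (hk.trans (map_one f).symm)
  have := congrArg (fun z => (Multiplicative.toAdd z).1) this
  simp [a, b] at this

/-- No four-group. -/
theorem pRankLE_two_of_bad [Finite G] (hbad : ¬ Good ρ) (N : Subgroup G) :
    Cfsg.PRankLE 2 1 N := by
  classical
  intro A hA hA2
  by_contra hlt
  push Not at hlt
  rw [pow_one] at hlt
  haveI : Fintype A := Fintype.ofFinite A
  rw [Nat.card_eq_fintype_card] at hlt
  obtain ⟨a, ha⟩ := Fintype.exists_ne_of_one_lt_card (by omega) (1 : A)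
  have : ∃ b : A, b ≠ 1 ∧ b ≠ a := by
    by_contra h
    push Not at h
    have hle : (Finset.univ : Finset A).card ≤ ({1, a} : Finset A).card := by
      refine Finset.card_le_card fun x _ => ?_
      rcases eq_or_ne x 1 with rfl | hx
      · simp
      · simp [h x hx]
    have := hle.trans (Finset.card_insert_le _ _)
    simp at this
    omega
  obtain ⟨b, hb1, hba⟩ := this
  haveI : Fact (Nat.Prime 2) := ⟨Nat.prime_two⟩
  have hc : Commute ((a : N) : G) ((b : N) : G) :=
    congrArg (fun z : A => ((z : N) : G)) (hA.is_comm.comm a b)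
  have h2 : ∀ c : A, ((c : N) : G) ^ 2 = 1 := fun c => by
    rw [← SubmonoidClass.coe_pow, hA2 _ c.2, OneMemClass.coe_one]
  obtain ⟨k, hk⟩ := pair_of_bad hbad (by norm_num : (2 : ℕ) ≤ 5) hc (h2 a) (h2 b)
    (fun h => hb1 (Subtype.ext (Subtype.ext h)))
  rw [pow_eq_pow_mod k (h2 b)] at hk
  rcases Nat.mod_two_eq_zero_or_one k with h | h
  · rw [h, pow_zero, mul_one] at hk
    exact ha (Subtype.ext (Subtype.ext hk))
  · rw [h, pow_one] at hk
    refine hba (Subtype.ext (Subtype.ext ?_))
    rw [eq_inv_of_mul_eq_one_left hk, eq_comm, inv_eq_iff_mul_eq_one, ← pow_two, h2]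

/-- The images of the `r`-subgroups are cyclic. -/
theorem isCyclic_image {N X : Type*} [Group N] [Finite N] [Group X] (φ : N →* X)
    (hφ : Function.Surjective φ) {r : ℕ} [Fact r.Prime]
    (hcyc : ∀ P : Subgroup N, IsPGroup r P → IsCyclic P) {R : Subgroup X} (hR : IsPGroup r R) :
    IsCyclic R := by
  haveI : Finite X := Finite.of_surjective φ hφ
  obtain ⟨S, hRS⟩ := hR.exists_le_sylow
  obtain ⟨T, rfl⟩ : ∃ T : Sylow r N, T.mapSurjective hφ = S := by
    obtain ⟨T₀⟩ : Nonempty (Sylow r N) := inferInstance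
    obtain ⟨x, hx⟩ := MulAction.exists_smul_eq X (T₀.mapSurjective hφ) S
    obtain ⟨n, rfl⟩ := hφ x
    refine ⟨n • T₀, ?_⟩
    rw [← hx]
    refine Sylow.ext ?_
    rw [Sylow.coe_mapSurjective, Sylow.coe_subgroup_smul, Sylow.coe_subgroup_smul,
      Sylow.coe_mapSurjective]
    ext y
    simp only [Subgroup.mem_map, Subgroup.mem_smul_pointwise_iff_exists, MulAut.smul_def,
      MulAut.conj_apply]
    constructor
    · rintro ⟨z, ⟨t, ht, rfl⟩, rfl⟩
      exact ⟨φ t, ⟨t, ht, rfl⟩, by simp⟩
    · rintro ⟨z, ⟨t, ht, rfl⟩, rfl⟩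
      exact ⟨n * t * n⁻¹, ⟨t, ht, rfl⟩, by simp⟩
  haveI := hcyc T T.isPGroup'
  haveI : IsCyclic ((T : Subgroup N).map φ) :=
    isCyclic_of_surjective _ (φ.subgroupMap_surjective (T : Subgroup N))
  rw [Sylow.coe_mapSurjective] at hRS
  exact isCyclic_of_injective (Subgroup.inclusion hRS) (Subgroup.inclusion_injective hRS)

/-- The alternating group of degree seven has a non-cyclic `3`-subgroup. -/
theorem false_of_alternating_seven {N : Type*} [Group N] [Finite N]
    (φ : N →* alternatingGroup (Fin 7)) (hφ : Function.Surjective φ)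
    (hcyc : ∀ P : Subgroup N, IsPGroup 3 P → IsCyclic P) : False := by
  haveI : Fact (Nat.Prime 3) := ⟨Nat.prime_three⟩
  let a : alternatingGroup (Fin 7) := ⟨(Equiv.swap 0 1 * Equiv.swap 1 2 : Equiv.Perm (Fin 7)),
    Equiv.Perm.mem_alternatingGroup.2 (by decide)⟩
  let b : alternatingGroup (Fin 7) := ⟨(Equiv.swap 3 4 * Equiv.swap 4 5 : Equiv.Perm (Fin 7)),
    Equiv.Perm.mem_alternatingGroup.2 (by decide)⟩
  have hab : a * b = b * a := by decide
  have ha3 : a ^ 3 = 1 := by decide
  have hb3 : b ^ 3 = 1 := by decide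
  let R := Subgroup.closure ({a, b} : Set (alternatingGroup (Fin 7)))
  have hcomm : ∀ x ∈ R, ∀ y ∈ R, Commute x y := by
    have hle : R ≤ Subgroup.centralizer (R : Set _) := by
      refine (Subgroup.closure_le _).2 ?_
      rintro x hx
      rw [SetLike.mem_coe, Subgroup.centralizer_closure, Subgroup.mem_centralizer_iff]
      rintro y hy
      rcases hx with rfl | rfl <;> rcases hy with rfl | rfl
      · rfl
      · exact hab.symm
      · exact hab
      · rfl
    exact fun x hx y hy => (Subgroup.mem_centralizer_iff.1 (hle hx) y hy).symm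
  have hR : IsPGroup 3 R := by
    intro x
    refine ⟨1, Subtype.ext ?_⟩
    suffices h : ∀ z ∈ R, z ^ 3 = 1 by simpa using h _ x.2
    intro z hz
    induction hz using Subgroup.closure_induction with
    | mem y hy => rcases hy with rfl | rfl <;> assumption
    | one => simp
    | mul y z hy hz hy' hz' => rw [(hcomm y hy z hz).mul_pow, hy', hz', one_mul]
    | inv y _ hy' => rw [inv_pow, hy', inv_one]
  haveI := isCyclic_image φ hφ hcyc hR
  haveI : Fintype R := Fintype.ofFinite R
  classical
  have h2 := IsCyclic.card_pow_eq_one_le (α := R) (n := 3) (by norm_num)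
  have ha : a ∈ R := Subgroup.subset_closure (Or.inl rfl)
  have hb : b ∈ R := Subgroup.subset_closure (Or.inr rfl)
  have h3 : ({1, ⟨a, ha⟩, ⟨b, hb⟩, ⟨a * b, R.mul_mem ha hb⟩} : Finset R) ⊆
      Finset.univ.filter fun w => w ^ 3 = 1 := by
    intro w hw
    simp only [Finset.mem_insert, Finset.mem_singleton] at hw
    rw [Finset.mem_filter]
    refine ⟨Finset.mem_univ _, Subtype.ext ?_⟩
    rw [SubmonoidClass.coe_pow, OneMemClass.coe_one]
    rcases hw with rfl | rfl | rfl | rfl
    · simp
    · exact ha3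
    · exact hb3
    · show (a * b) ^ 3 = 1
      rw [(show Commute a b from hab).mul_pow, ha3, hb3, one_mul]
  have h4 := (Finset.card_le_card h3).trans h2
  have hne : (1 : alternatingGroup (Fin 7)) ≠ a ∧ 1 ≠ b ∧ 1 ≠ a * b ∧ a ≠ b ∧ a ≠ a * b ∧
      b ≠ a * b := by decide
  rw [Finset.card_insert_of_notMem, Finset.card_insert_of_notMem, Finset.card_pair] at h4
  · omega
  · exact fun h => hne.2.2.2.2.2 (congrArg Subtype.val h)
  · simp only [Finset.mem_insert, Finset.mem_singleton, not_or]
    exact ⟨fun h => hne.2.2.2.1 (congrArg Subtype.val h),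
      fun h => hne.2.2.2.2.1 (congrArg Subtype.val h)⟩
  · simp only [Finset.mem_insert, Finset.mem_singleton, not_or]
    exact ⟨fun h => hne.1 (congrArg Subtype.val h), fun h => hne.2.1 (congrArg Subtype.val h),
      fun h => hne.2.2.1 (congrArg Subtype.val h)⟩

/-- In a field with more than `r` elements of characteristic `r ∈ {3, 5}` the unipotent group is not
cyclic. -/
theorem card_le_of_cyclic {F : Type*} [Field F] [Fintype F] {N : Type*} [Group N] [Finite N]
    (φ : N →* SL(2, F)) (hφ : Function.Surjective φ) {r : ℕ} [Fact r.Prime] [CharP F r]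
    (hcyc : ∀ P : Subgroup N, IsPGroup r P → IsCyclic P) : Fintype.card F ≤ r := by
  have hR : IsPGroup r (PSL2.uuHom (F := F)).range := by
    rintro ⟨_, t, rfl⟩
    refine ⟨1, Subtype.ext ?_⟩
    show PSL2.uuHom t ^ r ^ 1 = 1
    rw [pow_one]
    show PSL2.uu t.toAdd ^ r = 1
    rw [PSL2.uu_pow, CharP.cast_eq_zero, zero_mul, PSL2.uu_zero]
  haveI := isCyclic_image φ hφ hcyc hR
  haveI : IsCyclic (Multiplicative F) :=
    isCyclic_of_injective (PSL2.uuHom (F := F)).rangeRestrict
      fun a b h => PSL2.uuHom_injective (congrArg Subtype.val h)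
  obtain ⟨t, ht⟩ := IsCyclic.exists_ofOrder_eq_natCard (α := Multiplicative F)
  have h1 : orderOf t ∣ r := orderOf_dvd_of_pow_eq_one (by
    apply Multiplicative.toAdd.injective
    simp)
  rw [ht, Nat.card_eq_fintype_card, Fintype.card_multiplicative] at h1
  exact Nat.le_of_dvd (Nat.Prime.pos Fact.out) h1

section Extension

variable {p : ℕ} [hp : Fact p.Prime]

/-- A normal subgroup of `SL(2,p)` with an element of order three is everything. -/
theorem eq_top_of_normal (h7 : 7 ≤ p) {N : Subgroup SL(2, ZMod p)} [N.Normal] {x : SL(2, ZMod p)}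
    (hx : x ∈ N) (hx3 : x ^ 3 = 1) (hx1 : x ≠ 1) : N = ⊤ := by
  have hcard : Fintype.card (ZMod p) = p := ZMod.card p
  have h4 : 4 ≤ Fintype.card (ZMod p) := by omega
  haveI := PSL2.psl_isSimpleGroup (F := ZMod p) h4
  haveI : (N.map PSL2.mk).Normal := Subgroup.Normal.map inferInstance _ PSL2.mk_surjective
  rcases IsSimpleGroup.eq_bot_or_eq_top_of_normal (N.map PSL2.mk) inferInstance with h | h
  · exfalso
    have h1 : PSL2.mk x = 1 := (Subgroup.eq_bot_iff_forall _).1 h _ (Subgroup.mem_map_of_mem _ hx)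
    rcases PSL2.mk_eq_one.1 h1 with rfl | rfl
    · exact hx1 rfl
    · refine hx1 ?_
      rwa [pow_succ, pow_two, neg_mul_neg, one_mul, one_mul] at hx3
  · have h2 : N ⊔ Subgroup.center SL(2, ZMod p) = ⊤ := by
      rw [← PSL2.ker_mk, ← Subgroup.comap_map_eq, h, Subgroup.comap_top]
    rw [eq_top_iff, ← PSL2.sl_commutator_eq_top h4, _root_.commutator_def, Subgroup.commutator_le]
    intro a _ b _
    have hd : ∀ a : SL(2, ZMod p), ∃ n ∈ N, ∃ z ∈ Subgroup.center SL(2, ZMod p), n * z = a := by
      intro a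
      have ha : a ∈ N ⊔ Subgroup.center SL(2, ZMod p) := h2 ▸ Subgroup.mem_top a
      exact Subgroup.mem_sup_of_normal_right.1 ha
    obtain ⟨n, hn, z, hz, rfl⟩ := hd a
    obtain ⟨n', hn', z', hz', rfl⟩ := hd b
    rw [Subgroup.mem_center_iff] at hz hz'
    have : ⁅n * z, n' * z'⁆ = ⁅n, n'⁆ := by
      simp only [commutatorElement_def, _root_.mul_inv_rev]
      calc n * z * (n' * z') * (z⁻¹ * n⁻¹) * (z'⁻¹ * n'⁻¹)
          = n * (z * n') * (z' * (z⁻¹ * n⁻¹)) * (z'⁻¹ * n'⁻¹) := by group
        _ = n * (n' * z) * ((z⁻¹ * n⁻¹) * z') * (z'⁻¹ * n'⁻¹) := by rw [hz n', ← hz' (z⁻¹ * n⁻¹)]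
        _ = _ := by group
    rw [this, commutatorElement_def]
    exact N.mul_mem (N.mul_mem (N.mul_mem hn hn') (N.inv_mem hn)) (N.inv_mem hn')

variable {L : Type u} [Group L] [Finite L] {σ : Representation K L V}

/-- No odd-order extension of `SL(2,p)` minimal over its kernel. -/
theorem false_of_minimal (h7 : 7 ≤ p) (hbad : ¬ Good σ) (f : L →* SL(2, ZMod p))
    (hf : Function.Surjective f) (hodd : Odd (Nat.card f.ker))
    (hmin : ∀ M : Subgroup L, M.map f = ⊤ → M = ⊤) : False := by
  classical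
  haveI h3F : Fact (Nat.Prime 3) := ⟨Nat.prime_three⟩
  have hcardF : Fintype.card (ZMod p) = p := ZMod.card p
  have hperf : commutator L = ⊤ := hmin _ (by
    rw [_root_.commutator_def, Subgroup.map_commutator, Subgroup.map_top_of_surjective f hf,
      ← _root_.commutator_def, PSL2.sl_commutator_eq_top (by omega)])
  have hfrat : f.ker ≤ frattini L := PGroup.le_frattini_of_forall_coatom fun M hM => by
    by_contra hle
    refine hM.1 (hmin M ?_)
    have h : M ⊔ f.ker = ⊤ := hM.2 _ (left_lt_sup.2 hle)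
    rw [← Subgroup.map_top_of_surjective f hf, ← h, Subgroup.map_sup,
      (Subgroup.map_eq_bot_iff _).2 le_rfl, sup_bot_eq]
  haveI hnil : Group.IsNilpotent f.ker := by
    haveI := frattini_nilpotent (G := L)
    refine Subgroup.isNilpotent_of_ker_le_center (Subgroup.inclusion hfrat) ?_
    rw [MonoidHom.ker_eq_bot _ (Subgroup.inclusion_injective hfrat)]
    exact bot_le
  -- the Sylow subgroups of the kernel
  have hsyl : ∀ (s : ℕ) [Fact s.Prime], ∃ S : Subgroup L, S.Normal ∧ IsPGroup s S ∧ S ≤ f.ker ∧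
      ∀ z ∈ f.ker, (∃ i, z ^ s ^ i = 1) → z ∈ S := by
    intro s _
    obtain ⟨S⟩ : Nonempty (Sylow s f.ker) := inferInstance
    haveI hSn : (S : Subgroup f.ker).Normal := inferInstance
    haveI : (S : Subgroup f.ker).Characteristic := S.characteristic_of_normal hSn
    refine ⟨(S : Subgroup f.ker).map f.ker.subtype, inferInstance, S.isPGroup'.map _,
      Subgroup.map_subtype_le _, fun z hz ⟨i₀, hzs⟩ => ?_⟩
    have h1 : IsPGroup s (Subgroup.zpowers (⟨z, hz⟩ : f.ker)) := by
      rw [IsPGroup.iff_card, Nat.card_zpowers]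
      obtain ⟨i, -, hi⟩ := (Nat.dvd_prime_pow Fact.out).1
        (orderOf_dvd_of_pow_eq_one (x := (⟨z, hz⟩ : f.ker)) (n := s ^ i₀) (Subtype.ext (by simpa using hzs)))
      exact ⟨i, hi⟩
    obtain ⟨T, hT⟩ := h1.exists_le_sylow
    have := Sylow.unique_of_normal S hSn
    exact ⟨⟨z, hz⟩, (Subsingleton.elim T S ▸ hT) (Subgroup.mem_zpowers _), rfl⟩
  -- three does not divide the kernel
  have hk3 : ¬ 3 ∣ Nat.card f.ker := by
    intro h
    obtain ⟨⟨z, hz⟩, hz3⟩ := exists_prime_orderOf_dvd_card' 3 h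
    rw [Subgroup.orderOf_mk] at hz3
    obtain ⟨S, hSn, hS, hSk, hSmem⟩ := hsyl 3
    have hzS : z ∈ S := hSmem z hz ⟨1, by rw [pow_one, ← hz3, pow_orderOf_eq_one]⟩
    haveI := isCyclic_of_bad hbad (by norm_num) (by norm_num) hS
    haveI : Fintype S := Fintype.ofFinite S
    have hZ : ∀ l : L, l * z * l⁻¹ ∈ Subgroup.zpowers z := by
      intro l
      by_contra hnot
      have h2 := IsCyclic.card_pow_eq_one_le (α := S) (n := 3) (by norm_num)
      have hw : l * z * l⁻¹ ∈ S := hSn.conj_mem z hzS l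
      have hz31 : z ^ 3 = 1 := by rw [← hz3, pow_orderOf_eq_one]
      have h3 : ({1, ⟨z, hzS⟩, ⟨z⁻¹, S.inv_mem hzS⟩, ⟨l * z * l⁻¹, hw⟩} : Finset S) ⊆
          Finset.univ.filter fun w => w ^ 3 = 1 := by
        intro w hw'
        simp only [Finset.mem_insert, Finset.mem_singleton] at hw'
        rw [Finset.mem_filter]
        refine ⟨Finset.mem_univ _, Subtype.ext ?_⟩
        rcases hw' with rfl | rfl | rfl | rfl <;> simp [conj_pow, hz31]
      have h4 := (Finset.card_le_card h3).trans h2
      have hz1 : z ≠ 1 := fun h => by rw [h, orderOf_one] at hz3; omega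
      have hzz : z ≠ z⁻¹ := fun h => by
        have h2 : z ^ 2 = 1 := by rw [pow_two]; nth_rewrite 2 [h]; exact mul_inv_cancel z
        have := orderOf_dvd_of_pow_eq_one h2
        rw [hz3] at this
        omega
      rw [Finset.card_insert_of_notMem, Finset.card_insert_of_notMem, Finset.card_pair] at h4
      · omega
      · exact fun h => hnot (by
          have h' : z⁻¹ = l * z * l⁻¹ := congrArg Subtype.val h
          rw [← h']
          exact Subgroup.inv_mem _ (Subgroup.mem_zpowers z))
      · simp only [Finset.mem_insert, Finset.mem_singleton, not_or, Subtype.ext_iff]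
        exact ⟨hzz, fun h => hnot (h ▸ Subgroup.mem_zpowers z)⟩
      · simp only [Finset.mem_insert, Finset.mem_singleton, not_or, Subtype.ext_iff,
          OneMemClass.coe_one]
        exact ⟨fun h => hz1 h.symm, fun h => hz1 (inv_eq_one.1 h.symm),
          fun h => hnot (h ▸ Subgroup.one_mem _)⟩
    haveI : (Subgroup.zpowers z).Normal := ⟨fun n hn l => by
      obtain ⟨i, rfl⟩ := Subgroup.mem_zpowers_iff.1 hn
      rw [← _root_.conj_zpow]
      exact Subgroup.zpow_mem _ (hZ l) _⟩
    have hcen : z ∈ Subgroup.center L := by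
      have hab : commutator L ≤ (MulAut.conjNormal (H := Subgroup.zpowers z)).ker := by
        rw [_root_.commutator_def, Subgroup.commutator_le]
        intro a _ b _
        rw [MonoidHom.mem_ker, map_commutatorElement, commutatorElement_eq_one_iff_commute]
        refine MulEquiv.ext fun y => ?_
        obtain ⟨i, hi⟩ := MonoidHom.map_cyclic (MulAut.conjNormal a : MulAut (Subgroup.zpowers z)).toMonoidHom
        obtain ⟨j, hj⟩ := MonoidHom.map_cyclic (MulAut.conjNormal b : MulAut (Subgroup.zpowers z)).toMonoidHom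
        simp only [MulEquiv.coe_toMonoidHom] at hi hj
        rw [MulAut.mul_apply, MulAut.mul_apply, hj y, hi, hi y, hj, ← _root_.zpow_mul, ← _root_.zpow_mul,
          mul_comm]
      rw [Subgroup.mem_center_iff]
      intro l
      have hl : l ∈ (MulAut.conjNormal (H := Subgroup.zpowers z)).ker :=
        hab (hperf ▸ Subgroup.mem_top l)
      have := congrArg (fun e : MulAut (Subgroup.zpowers z) =>
        ((e ⟨z, Subgroup.mem_zpowers z⟩ : Subgroup.zpowers z) : L)) hl
      simp only [MulAut.conjNormal_apply, MulAut.one_apply] at this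
      exact mul_inv_eq_iff_eq_mul.1 this
    obtain ⟨T⟩ : Nonempty (Sylow 3 L) := inferInstance
    haveI := isCyclic_of_bad hbad (by norm_num) (by norm_num) T.isPGroup'
    haveI : IsMulCommutative (T : Subgroup L) := inferInstance
    exact Transfer.not_dvd_orderOf_central_commutator T hcen (hperf ▸ Subgroup.mem_top z)
      (by rw [hz3])
  -- an element of order three
  obtain ⟨x, hx3, hxf⟩ := exists_lift_pow f hf (by norm_num : 1 < 3)
    ((Nat.prime_three.coprime_iff_not_dvd.2 hk3).symm) (ord_three (p := p))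
  have hx1 : x ≠ 1 := fun h => ord_three_ne h7 (by rw [← hxf, h, map_one])
  have h3K : (3 : K) ≠ 0 := fun h =>
    hx1 (eq_one_of_bad hbad (r := 3) (by norm_num) (by exact_mod_cast h) hx3)
  have h2K : (2 : K) ≠ 0 := by
    intro h
    haveI : Fact (Nat.Prime 2) := ⟨Nat.prime_two⟩
    obtain ⟨z, hzp, hzf⟩ := exists_lift_pow f hf (by norm_num : 1 < 2)
      ((Nat.prime_two.coprime_iff_not_dvd.2 (fun h => by
        obtain ⟨i, hi⟩ := hodd
        omega)).symm) (show zz p ^ 2 = 1 by rw [pow_two, zz_sq])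
    have := eq_one_of_bad hbad (r := 2) (by norm_num) (by exact_mod_cast h) hzp
    rw [this, map_one] at hzf
    have h1 := congrArg (fun a : SL(2, ZMod p) => a.1 0 0) hzf
    simp [coe_zz] at h1
    haveI : Fact (2 < p) := ⟨by omega⟩
    exact ZMod.neg_one_ne_one h1.symm
  -- every prime divisor of the kernel is the characteristic
  have hchar : ∀ s : ℕ, s.Prime → s ∣ Nat.card f.ker → (s : K) = 0 := by
    intro s hs hsk
    haveI : Fact s.Prime := ⟨hs⟩
    by_contra hsK
    have hs5 : 5 ≤ s := by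
      rcases Nat.lt_or_ge s 5 with h | h
      · have := hs.two_le
        rcases (show s = 2 ∨ s = 3 ∨ s = 4 by omega) with rfl | rfl | rfl
        · obtain ⟨i, hi⟩ := hodd; omega
        · exact absurd hsk hk3
        · exact absurd hs (by norm_num)
      · exact h
    obtain ⟨⟨z, hz⟩, hzo⟩ := exists_prime_orderOf_dvd_card' s hsk
    rw [Subgroup.orderOf_mk] at hzo
    obtain ⟨S, hSn, hS, hSk, hSmem⟩ := hsyl s
    have hxS := commute_of_normalises σ hs5 hsK h3K hbad hx3 S hS fun q hq => hSn.conj_mem q hq x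
    set C := Subgroup.centralizer (S : Set L)
    have hCtop : C = ⊤ := by
      refine hmin C ?_
      haveI : (C.map f).Normal := (Subgroup.Normal.map inferInstance f hf)
      refine eq_top_of_normal h7 (x := cc p * (jj p)⁻¹) ?_ ord_three (ord_three_ne h7)
      exact ⟨x, Subgroup.mem_centralizer_iff.2 fun q hq => (hxS q hq).symm.eq, hxf⟩
    have hScen : S ≤ Subgroup.center L := fun q hq => Subgroup.mem_center_iff.2 fun l =>
      (Subgroup.mem_centralizer_iff.1 (hCtop ▸ Subgroup.mem_top l : l ∈ C) q hq).symm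
    obtain ⟨T⟩ : Nonempty (Sylow s L) := inferInstance
    -- the Sylow subgroup is abelian
    haveI hTc : IsMulCommutative (T : Subgroup L) := by
      have himg : IsCyclic ((T : Subgroup L).map f) := by
        have hTp := T.isPGroup'.map f
        obtain ⟨U, hU⟩ := hTp.exists_le_sylow
        haveI : IsCyclic (U : Subgroup SL(2, ZMod p)) := by
          by_cases hsp : s = p
          · subst hsp
            refine isCyclic_of_prime_card (p := s) ?_
            rw [U.card_eq_multiplicity, PSL2.card_SL, hcardF]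
            have hs2 : ¬ s ∣ s ^ 2 - 1 := by
              intro h
              have h1 : s ∣ s ^ 2 := dvd_pow_self s (by norm_num)
              have h2 := Nat.dvd_sub h1 h
              rw [show s ^ 2 - (s ^ 2 - 1) = 1 by have := Nat.one_le_pow 2 s hs.pos; omega] at h2
              exact hs.one_lt.ne' (Nat.dvd_one.1 h2)
            rw [Nat.factorization_mul hs.ne_zero (by
              have : 1 < s ^ 2 := Nat.one_lt_pow (by norm_num) hs.one_lt
              omega), Finsupp.add_apply, hs.factorization_self,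
              Nat.factorization_eq_zero_of_not_dvd hs2, add_zero, pow_one]
          · exact PSL2.isCyclic_sylow_odd p s (by omega) hsp U
        exact isCyclic_of_injective (Subgroup.inclusion hU) (Subgroup.inclusion_injective hU)
      haveI := himg
      have hker : (f.subgroupMap (T : Subgroup L)).ker ≤ Subgroup.center (T : Subgroup L) := by
        intro y hy
        have hy' : (y : L) ∈ f.ker := congrArg Subtype.val hy
        rw [Subgroup.mem_center_iff]
        intro l
        obtain ⟨i, hi⟩ := T.isPGroup' y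
        have hyS : (y : L) ∈ S :=
          hSmem _ hy' ⟨i, by rw [← SubmonoidClass.coe_pow, hi, OneMemClass.coe_one]⟩
        exact Subtype.ext (Subgroup.mem_center_iff.1 (hScen hyS) l)
      exact ⟨⟨commutative_of_cyclic_center_quotient _ hker⟩⟩
    have hzS : z ∈ S := hSmem z hz ⟨1, by rw [pow_one, ← hzo, pow_orderOf_eq_one]⟩
    exact Transfer.not_dvd_orderOf_central_commutator T (hScen hzS) (hperf ▸ Subgroup.mem_top z)
      (by rw [hzo])
  have hker : f.ker = ⊥ ∨ ∃ ℓ : ℕ, Fact ℓ.Prime ∧ (ℓ : K) = 0 ∧ IsPGroup ℓ f.ker := by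
    by_cases h1 : f.ker = ⊥
    · exact Or.inl h1
    obtain ⟨ℓ, hℓ, hℓd⟩ := Nat.exists_prime_and_dvd (n := Nat.card f.ker)
      (fun h => h1 (Subgroup.card_eq_one.1 h))
    refine Or.inr ⟨ℓ, ⟨hℓ⟩, hchar ℓ hℓ hℓd, IsPGroup.of_card
      (n := (Nat.card f.ker).primeFactorsList.length) ?_⟩
    refine Nat.eq_prime_pow_of_unique_prime_dvd Nat.card_pos.ne' fun {d} hd hdd => ?_
    obtain ⟨q, hq⟩ := CharP.exists K
    have e1 := (CharP.cast_eq_zero_iff K q d).1 (hchar d hd hdd)
    have e2 := (CharP.cast_eq_zero_iff K q ℓ).1 (hchar ℓ hℓ hℓd)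
    rcases (Nat.dvd_prime hd).1 e1 with rfl | rfl
    · exact absurd rfl (CharP.char_ne_one K 1)
    · exact ((Nat.prime_dvd_prime_iff_eq hd hℓ).1 e2)
  by_cases hpK : (p : K) = 0
  · haveI : CharP K p := by
      obtain ⟨q, hq⟩ := CharP.exists K
      rcases (Nat.dvd_prime hp.out).1 ((CharP.cast_eq_zero_iff K q p).1 hpK) with h | h
      · subst h; exact absurd rfl (CharP.char_ne_one K 1)
      · exact h ▸ hq
    refine hbad (good_of_char h7 f hf ?_ σ)
    rcases hker with h | ⟨ℓ, hℓ, hℓK, hℓN⟩
    · rw [h]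
      exact IsPGroup.of_bot
    · rwa [show ℓ = p from (Nat.prime_dvd_prime_iff_eq hp.out hℓ.out).1
        ((CharP.cast_eq_zero_iff K p ℓ).1 hℓK) |>.symm] at hℓN
  · exact hbad (good_of_ne_char h7 h2K h3K hpK f hf hker σ)

end Extension

end Cfsg.Agent.FixedSpace
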