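import Cfsg.Agent.Lib.FixedSpace.Counts
import Cfsg.Agent.Lib.FixedSpace.Descend

/-!
# Extensions of `SL(2,p)` by `p`-groups in characteristic `p`

A lift `t` of the torus normalises a cyclic subgroup `⟨u⟩` above a unipotent element; a combination
`E` of powers of `u` raises weights by two. Counting weights along a composition series bounds the
dimension by the fixed spaces of an element of order three and of `u` or `uᵖ`.
-/

set_option autoImplicit false

namespace Cfsg.Agent.FixedSpace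

open Module Matrix
open scoped MatrixGroups

universe u v w

variable {p : ℕ} [hp : Fact p.Prime] {K : Type v} [Field K] [CharP K p]

/-- The weight `j`. -/
noncomputable def wt (K : Type v) [Field K] [CharP K p] (g : (ZMod p)ˣ) (j : ℤ) : K :=
  (ZMod.castHom (dvd_refl p) K (g : ZMod p)) ^ j

theorem wt_ne_zero (g : (ZMod p)ˣ) (j : ℤ) : wt K g j ≠ 0 :=
  zpow_ne_zero _ ((map_ne_zero _).2 g.ne_zero)

theorem wt_add (g : (ZMod p)ˣ) (a b : ℤ) : wt K g (a + b) = wt K g a * wt K g b :=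
  zpow_add₀ ((map_ne_zero _).2 g.ne_zero) a b

theorem wt_two (g : (ZMod p)ˣ) :
    wt K g 2 = ZMod.castHom (dvd_refl p) K ((g : ZMod p) ^ 2) := by
  rw [wt, map_pow, zpow_two, pow_two]

theorem wt_eq_one_iff {g : (ZMod p)ˣ} (hg : orderOf g = p - 1) (a : ℤ) :
    wt K g a = 1 ↔ ((p : ℤ) - 1) ∣ a := by
  have hinj : Function.Injective (Units.map (ZMod.castHom (dvd_refl p) K).toMonoidHom) :=
    Units.map_injective (RingHom.injective _)
  have ho : orderOf (Units.map (ZMod.castHom (dvd_refl p) K).toMonoidHom g) = p - 1 := by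
    rw [orderOf_injective _ hinj, hg]
  have : wt K g a =
      (((Units.map (ZMod.castHom (dvd_refl p) K).toMonoidHom g) ^ a : Kˣ) : K) := by
    rw [wt, Units.val_zpow_eq_zpow_val]
    rfl
  rw [this, Units.val_eq_one, ← orderOf_dvd_iff_zpow_eq_one, ho, Nat.cast_sub hp.out.one_le,
    Nat.cast_one]

theorem wt_eq_iff {g : (ZMod p)ˣ} (hg : orderOf g = p - 1) (a b : ℤ) :
    wt K g a = wt K g b ↔ ((p : ℤ) - 1) ∣ a - b := by
  rw [← wt_eq_one_iff (K := K) hg, sub_eq_add_neg, wt_add]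
  have : wt K g (-b) = (wt K g b)⁻¹ := zpow_neg _ _
  rw [this, mul_inv_eq_one₀ (wt_ne_zero g b)]

theorem wt_pow_card (g : (ZMod p)ˣ) (a : ℤ) : wt K g a ^ (p - 1) = 1 := by
  rw [wt, ← zpow_natCast, ← _root_.zpow_mul, mul_comm, _root_.zpow_mul, zpow_natCast, ← map_pow,
    ← Units.val_pow_eq_pow_val, ZMod.units_pow_card_sub_one_eq_one, Units.val_one, map_one, _root_.one_zpow]

variable {L : Type u} [Group L] {V : Type w} [AddCommGroup V] [Module K V]

/-- The raising operator `Σ m⁻¹ u^(m^(pᵉ))`. -/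
noncomputable def Ew (p e : ℕ) (ρ : Representation K L V) (u : L) : Module.End K V :=
  ∑ m ∈ Finset.Ico 1 p, (m : K)⁻¹ • ρ (u ^ m ^ p ^ e)

section Sections

variable (ρ : Representation K L V) (W : Submodule K V) (hW : ∀ g, ∀ v ∈ W, ρ g v ∈ W)

omit hp [CharP K p] in
theorem Ew_subR (e : ℕ) (u : L) (x : W) :
    ((Ew p e (subR ρ W hW) u x : W) : V) = Ew p e ρ u x := by
  simp [Ew, subR_apply, -map_pow]

include hW in
omit hp [CharP K p] in
theorem Ew_mem (e : ℕ) (u : L) : ∀ v ∈ W, Ew p e ρ u v ∈ W := by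
  intro v hv
  rw [← Ew_subR ρ W hW e u ⟨v, hv⟩]
  exact Submodule.coe_mem _

omit hp [CharP K p] in
theorem Ew_pow_subR (e : ℕ) (u : L) : ∀ (l : ℕ) (x : W),
    (((Ew p e (subR ρ W hW) u ^ l) x : W) : V) = (Ew p e ρ u ^ l) x := by
  intro l
  induction l with
  | zero => intro x; rfl
  | succ l ih =>
    intro x
    rw [pow_succ, pow_succ, Module.End.mul_apply, Module.End.mul_apply, ih, Ew_subR]

omit hp [CharP K p] in
theorem Ew_quotR (e : ℕ) (u : L) (v : V) :
    Ew p e (quotR ρ W hW) u (W.mkQ v) = W.mkQ (Ew p e ρ u v) := by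
  simp only [Ew, LinearMap.sum_apply, LinearMap.smul_apply, quotR_mk, map_sum, map_smul]

omit hp [CharP K p] in
theorem Ew_pow_quotR (e : ℕ) (u : L) : ∀ (l : ℕ) (v : V),
    (Ew p e (quotR ρ W hW) u ^ l) (W.mkQ v) = W.mkQ ((Ew p e ρ u ^ l) v) := by
  intro l
  induction l with
  | zero => intro v; rfl
  | succ l ih =>
    intro v
    rw [pow_succ, pow_succ, Module.End.mul_apply, Module.End.mul_apply, Ew_quotR, ih]

end Sections

/-- The data attached to an extension of `SL(2,p)` by a `p`-group. -/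
structure Lift (p : ℕ) [Fact p.Prime] (L : Type u) [Group L] where
  f : L →* SL(2, ZMod p)
  surj : Function.Surjective f
  ker : IsPGroup p f.ker
  g : (ZMod p)ˣ
  gen : ∀ a : (ZMod p)ˣ, a ∈ Subgroup.zpowers g
  t : L
  t_f : f t = tor g
  t_pow : t ^ (p - 1) = 1
  u : L
  u_f : f u = cc p
  e : ℕ
  u_ord : orderOf u = p ^ (e + 1)
  α : ℕ
  conj : t * u * t⁻¹ = u ^ α
  x : L
  x_f : f x = cc p * (jj p)⁻¹
  x_pow : x ^ 3 = 1

namespace Lift

variable (D : Lift p L)

theorem g_ord : orderOf D.g = p - 1 := by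
  rw [orderOf_eq_card_of_forall_mem_zpowers D.gen, Nat.card_eq_fintype_card, ZMod.card_units]

theorem cast_α : (D.α : ZMod p) = (D.g : ZMod p) ^ 2 := by
  have h := congrArg D.f D.conj
  rw [map_mul, map_mul, map_inv, map_pow, D.t_f, D.u_f, ← pow_one (cc p), tor_cc, pow_one] at h
  have h' := congrArg (fun a : SL(2, ZMod p) => a.1 0 1) h
  simp only [cc_pow, Nat.cast_mul, ZMod.natCast_zmod_val, Nat.cast_one, mul_one] at h'
  simpa using h'.symm

theorem conj_pow (n : ℕ) : D.t ^ n * D.u * (D.t ^ n)⁻¹ = D.u ^ (D.α ^ n) := by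
  induction n with
  | zero => simp
  | succ n ih =>
    rw [pow_succ' D.t, _root_.mul_inv_rev,
      show D.t * D.t ^ n * D.u * ((D.t ^ n)⁻¹ * D.t⁻¹) =
        D.t * (D.t ^ n * D.u * (D.t ^ n)⁻¹) * D.t⁻¹ by group, ih, ← _root_.conj_pow, D.conj, ← pow_mul,
      pow_succ' D.α]

theorem α_pow : D.α ^ p ≡ D.α [MOD p ^ (D.e + 1)] := by
  have h := D.conj_pow (p - 1)
  rw [D.t_pow, one_mul, inv_one, mul_one] at h
  conv_lhs at h => rw [← pow_one D.u]
  rw [pow_eq_pow_iff_modEq, D.u_ord] at h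
  have := (h.mul_right D.α).symm
  rwa [one_mul, ← pow_succ, Nat.sub_add_cancel hp.out.one_le] at this

theorem α_pow_pow : ∀ n, D.α ^ p ^ n ≡ D.α [MOD p ^ (D.e + 1)] := by
  intro n
  induction n with
  | zero => simp [Nat.ModEq.refl]
  | succ n ih =>
    rw [show p ^ (n + 1) = p ^ n * p from pow_succ p n, pow_mul]
    exact (ih.pow p).trans D.α_pow

theorem u_conj_pow {m m' : ℕ} (h : (m' : ZMod p) = (D.g : ZMod p) ^ 2 * m) :
    D.t * D.u ^ m ^ p ^ D.e * D.t⁻¹ = D.u ^ m' ^ p ^ D.e := by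
  rw [← _root_.conj_pow, D.conj, ← pow_mul, pow_eq_pow_iff_modEq, D.u_ord]
  have h1 : D.α * m ^ p ^ D.e ≡ (D.α * m) ^ p ^ D.e [MOD p ^ (D.e + 1)] := by
    rw [mul_pow]
    exact (D.α_pow_pow D.e).symm.mul_right _
  refine h1.trans ?_
  rw [Nat.modEq_iff_dvd]
  push_cast
  refine dvd_sub_pow_of_dvd_sub ?_ D.e
  rw [← ZMod.intCast_eq_intCast_iff_dvd_sub]
  push_cast
  rw [h, D.cast_α]

theorem Ew_comm (ρ : Representation K L V) :
    ρ D.t * Ew p D.e ρ D.u = wt K D.g 2 • (Ew p D.e ρ D.u * ρ D.t) := by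
  simp only [Ew, Finset.mul_sum, Finset.sum_mul, Finset.smul_sum, mul_smul_comm, smul_mul_assoc,
    smul_smul]
  have hval : ∀ (a : ZMod p) (m : ℕ), a ≠ 0 → m ∈ Finset.Ico 1 p →
      (a * (m : ZMod p)).val ∈ Finset.Ico 1 p := by
    intro a m ha hm
    rw [Finset.mem_Ico] at hm ⊢
    refine ⟨Nat.one_le_iff_ne_zero.2 fun h => ?_, ZMod.val_lt _⟩
    rw [ZMod.val_eq_zero, mul_eq_zero, ZMod.natCast_eq_zero_iff] at h
    exact h.elim ha fun h => absurd (Nat.le_of_dvd hm.1 h) (by omega)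
  have hg2 : (D.g : ZMod p) ^ 2 ≠ 0 := pow_ne_zero _ D.g.ne_zero
  refine Finset.sum_nbij' (fun m => ((D.g : ZMod p) ^ 2 * (m : ZMod p)).val)
    (fun m => (((D.g : ZMod p) ^ 2)⁻¹ * (m : ZMod p)).val) (fun m hm => hval _ m hg2 hm)
    (fun m hm => hval _ m (inv_ne_zero hg2) hm) (fun m hm => ?_) (fun m hm => ?_) (fun m hm => ?_)
  · rw [ZMod.natCast_zmod_val, inv_mul_cancel_left₀ hg2,
      ZMod.val_cast_of_lt (Finset.mem_Ico.1 hm).2]
  · rw [ZMod.natCast_zmod_val, mul_inv_cancel_left₀ hg2,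
      ZMod.val_cast_of_lt (Finset.mem_Ico.1 hm).2]
  · obtain ⟨m', hm'⟩ : ∃ m', ((D.g : ZMod p) ^ 2 * (m : ZMod p)).val = m' := ⟨_, rfl⟩
    simp only [hm']
    have hc : (m' : ZMod p) = (D.g : ZMod p) ^ 2 * m := by rw [← hm', ZMod.natCast_zmod_val]
    rw [← map_mul, ← map_mul, show D.t * D.u ^ m ^ p ^ D.e =
      D.t * D.u ^ m ^ p ^ D.e * D.t⁻¹ * D.t by group, D.u_conj_pow hc]
    congr 1
    have hK : (m' : K) = wt K D.g 2 * (m : K) := by
      rw [wt_two, ← map_natCast (ZMod.castHom (dvd_refl p) K) m',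
        ← map_natCast (ZMod.castHom (dvd_refl p) K) m, hc, map_mul]
    rw [hK, mul_inv, ← mul_assoc, mul_inv_cancel₀ (wt_ne_zero _ _), one_mul]

omit [CharP K p] in
theorem u_pow_eq : D.u ^ p ^ (D.e + 1) = 1 := by rw [← D.u_ord, pow_orderOf_eq_one]

/-- `E` is `u - 1` up to a unit. -/
theorem Ew_eq (h3 : 3 ≤ p) (ρ : Representation K L V) : ∃ P : Module.End K V,
    IsUnit P ∧ Commute (ρ D.u - 1) P ∧ Ew p D.e ρ D.u = (ρ D.u - 1) * P := by
  by_cases hV : Nontrivial V
  swap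
  · rw [not_nontrivial_iff_subsingleton] at hV
    exact ⟨1, isUnit_one, Commute.one_right _, Subsingleton.elim _ _⟩
  set A := ρ D.u with hA
  let Q : Polynomial K := ∑ m ∈ Finset.Ico 1 p,
    Polynomial.C (m : K)⁻¹ * ∑ i ∈ Finset.range (m ^ p ^ D.e), Polynomial.X ^ i
  have hroot : (Q + 1).IsRoot 1 := by
    have : ∀ m ∈ Finset.Ico 1 p, (m : K)⁻¹ * ((m ^ p ^ D.e : ℕ) : K) = 1 := by
      intro m hm
      rw [Finset.mem_Ico] at hm
      have : (m : ZMod p) ^ p ^ D.e = (m : ZMod p) := ZMod.pow_card_pow _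
      rw [Nat.cast_pow, ← map_natCast (ZMod.castHom (dvd_refl p) K) m, ← map_pow, this, map_natCast,
        inv_mul_cancel₀ (cast_ne_zero hm.1 hm.2)]
    simp only [Polynomial.IsRoot, Q, Polynomial.eval_add, Polynomial.eval_finset_sum,
      Polynomial.eval_mul, Polynomial.eval_C, Polynomial.eval_pow, Polynomial.eval_X, one_pow,
      Finset.sum_const, Finset.card_range, nsmul_one, Polynomial.eval_one]
    rw [Finset.sum_congr rfl this, Finset.sum_const, Nat.card_Ico, nsmul_one, ← Nat.cast_add_one,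
      Nat.sub_add_cancel hp.out.one_le, CharP.cast_eq_zero]
  obtain ⟨R, hR⟩ := Polynomial.dvd_iff_isRoot.2 hroot
  refine ⟨Polynomial.aeval A Q, ?_, ?_, ?_⟩
  · have hN : IsNilpotent (A - 1) := by
      haveI : CharP (Module.End K V) p :=
        charP_of_injective_algebraMap (FaithfulSMul.algebraMap_injective K (Module.End K V)) p
      refine ⟨p ^ (D.e + 1), ?_⟩
      rw [sub_pow_char_pow_of_commute p (D.e + 1) (Commute.one_right _), one_pow, hA, ← map_pow,
        D.u_pow_eq, map_one, sub_self]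
    have h1 : Polynomial.aeval A Q = (A - 1) * Polynomial.aeval A R - 1 := by
      have h := congrArg (Polynomial.aeval A) hR
      rw [map_add, map_mul, map_sub, Polynomial.aeval_X] at h
      simp only [map_one] at h
      exact eq_sub_of_add_eq h
    rw [h1]
    refine (Commute.isNilpotent_mul_right ?_ hN).isUnit_sub_one
    have h := (Commute.all (Polynomial.X - 1 : Polynomial K) R).map (Polynomial.aeval A)
    simpa using h
  · have h := (Commute.all (Polynomial.X - 1 : Polynomial K) Q).map (Polynomial.aeval A)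
    simpa using h
  · have hinv : ∑ m ∈ Finset.Ico 1 p, (m : K)⁻¹ = 0 := by
      have : ∀ m ∈ Finset.Ico 1 p, (m : K)⁻¹ = (m : K) ^ (p - 2) := by
        intro m hm
        rw [Finset.mem_Ico] at hm
        refine inv_eq_of_mul_eq_one_right ?_
        rw [← pow_succ', show p - 2 + 1 = p - 1 by omega,
          ← map_natCast (ZMod.castHom (dvd_refl p) K), ← map_pow,
          ZMod.pow_card_sub_one_eq_one (by
            rw [Ne, ZMod.natCast_eq_zero_iff]
            exact fun h => absurd (Nat.le_of_dvd hm.1 h) (by omega)), map_one]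
      rw [Finset.sum_congr rfl this, sum_pow_Ico (by omega), if_neg (by omega)]
    have hterm : ∀ m ∈ Finset.Ico 1 p, (A - 1) * Polynomial.aeval A (Polynomial.C (m : K)⁻¹ *
        ∑ i ∈ Finset.range (m ^ p ^ D.e), Polynomial.X ^ i) =
        (m : K)⁻¹ • A ^ m ^ p ^ D.e - (m : K)⁻¹ • (1 : Module.End K V) := by
      intro m _
      rw [map_mul, Polynomial.aeval_C, ← Algebra.smul_def, mul_smul_comm, map_sum]
      simp only [map_pow, Polynomial.aeval_X]
      rw [mul_geom_sum, smul_sub]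
    rw [map_sum, Finset.mul_sum, Finset.sum_congr rfl hterm, Finset.sum_sub_distrib,
      ← Finset.sum_smul, hinv, zero_smul, sub_zero, Ew]
    refine Finset.sum_congr rfl fun m _ => ?_
    rw [hA, map_pow]

theorem ker_Ew_pow (h3 : 3 ≤ p) (ρ : Representation K L V) (l : ℕ) :
    LinearMap.ker (Ew p D.e ρ D.u ^ l) = LinearMap.ker ((ρ D.u - 1) ^ l) := by
  obtain ⟨P, hP, hc, hE⟩ := D.Ew_eq h3 ρ
  rw [hE, hc.mul_pow, (hc.pow_pow l l).eq]
  obtain ⟨P', hP'⟩ := (hP.pow l).exists_left_inv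
  refine le_antisymm (fun v hv => ?_) (fun v hv => ?_)
  · rw [LinearMap.mem_ker, Module.End.mul_apply] at hv
    have := congrArg P' hv
    rwa [← Module.End.mul_apply, hP', Module.End.one_apply, map_zero] at this
  · rw [LinearMap.mem_ker] at hv ⊢
    rw [Module.End.mul_apply, hv, map_zero]

end Lift

end Cfsg.Agent.FixedSpace
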